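import Cfsg.Prelude.Def_LocalStructure
import Cfsg.Agent.H64.Basic

set_option autoImplicit false

/-! `p`-closed groups (normal Sylow `p`-subgroup). -/

namespace Cfsg.Agent.H64

open Cfsg

variable {G : Type*} [Group G] {p : ℕ} [Fact p.Prime]

theorem isPClosed_of_normal [Finite G] (P : Sylow p G) (hP : (P : Subgroup G).Normal) : IsPClosed p G := by
  intro Q
  have : Q = P := by
    have := Sylow.unique_of_normal P hP
    exact Subsingleton.elim _ _
  rw [this]; exact hP

theorem isPClosed_of_isPGroup (h : IsPGroup p G) : IsPClosed p G := by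
  intro Q
  have h5 : (Q : Subgroup G) = ⊤ := (Q.3 (Q := ⊤) (h.to_subgroup ⊤) le_top).symm
  rw [h5]; infer_instance

theorem isPClosed_of_not_dvd [Finite G] (h : ¬ p ∣ Nat.card G) : IsPClosed p G := by
  intro Q
  have h5 : (Q : Subgroup G) = ⊥ := by
    apply (Subgroup.card_eq_one).1
    obtain ⟨n, hn⟩ := IsPGroup.iff_card.1 Q.2
    rcases Nat.eq_zero_or_pos n with h' | h'
    · rw [hn, h', pow_zero]
    · exfalso
      apply h
      have h6 : p ∣ Nat.card (Q : Subgroup G) := by rw [hn]; exact dvd_pow_self _ h'.ne'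
      exact h6.trans (Subgroup.card_subgroup_dvd_card _)
  rw [h5]; infer_instance

/-- A `p`-closed subgroup containing a Sylow `p`-subgroup `P` of `G` normalizes `P`. -/
theorem le_normalizer_of_isPClosed (P : Sylow p G) {H : Subgroup G} (hPH : (P : Subgroup G) ≤ H)
    (hH : IsPClosed p H) : H ≤ Subgroup.normalizer ((P : Subgroup G) : Set G) := by
  have h1 := hH (P.subtype hPH)
  rw [Sylow.coe_subtype] at h1
  exact (Subgroup.normal_subgroupOf_iff_le_normalizer hPH).1 h1

/-- If `H` is normal and `p`-closed and contains the Sylow `p`-subgroup `P`, then `P` is normal. -/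
theorem normal_of_isPClosed [Finite G] (P : Sylow p G) {H : Subgroup G} (hPH : (P : Subgroup G) ≤ H) (hHn : H.Normal)
    (hH : IsPClosed p H) : (P : Subgroup G).Normal := by
  rw [← Subgroup.normalizer_eq_top_iff, eq_top_iff]
  intro g _
  have h1 : (P : Subgroup G).map (MulAut.conj g).toMonoidHom ≤ H := by
    rintro _ ⟨x, hx, rfl⟩
    exact hHn.conj_mem _ (hPH hx) g
  obtain ⟨m, hm, hm2⟩ := exists_mem_map_conj_eq P H g hPH h1
  have h2 := map_conj_eq_self_iff.1 hm2
  have h3 := le_normalizer_of_isPClosed P hPH hH hm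
  have := Subgroup.mul_mem _ (Subgroup.inv_mem _ h3) h2
  simpa using this

/-- If `G/N` is `p`-closed then `PN` is normal. -/
theorem normal_sup_of_quotient_isPClosed [Finite G] (P : Sylow p G) (N : Subgroup G) [N.Normal]
    (h : IsPClosed p (G ⧸ N)) : ((P : Subgroup G) ⊔ N).Normal := by
  have hs := QuotientGroup.mk'_surjective N
  have h1 := h (P.mapSurjective hs)
  have h2 : ((P : Subgroup G) ⊔ N) = ((P.mapSurjective hs : Sylow p (G ⧸ N)) : Subgroup (G ⧸ N)).comap (QuotientGroup.mk' N) := by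
    rw [Sylow.coe_mapSurjective, Subgroup.comap_map_eq, QuotientGroup.ker_mk']
  rw [h2]
  exact h1.comap _

/-- Disjoint normalizing subgroups commute, elementwise. -/
theorem commute_of_inf_eq_bot {A B : Subgroup G} (hAB : A ⊓ B = ⊥)
    (h1 : A ≤ Subgroup.normalizer (B : Set G)) (h2 : B ≤ Subgroup.normalizer (A : Set G)) {a b : G} (ha : a ∈ A)
    (hb : b ∈ B) : a * b = b * a := by
  have h3 : a * b * a⁻¹ * b⁻¹ ∈ A ⊓ B := by
    refine ⟨?_, ?_⟩
    · have : a * b * a⁻¹ * b⁻¹ = a * (b * a⁻¹ * b⁻¹) := by group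
      show a * b * a⁻¹ * b⁻¹ ∈ A
      rw [this]
      exact A.mul_mem ha ((Subgroup.mem_normalizer_iff.1 (h2 hb) _).1 (A.inv_mem ha))
    · exact B.mul_mem ((Subgroup.mem_normalizer_iff.1 (h1 ha) _).1 hb) (B.inv_mem hb)
  rw [hAB, Subgroup.mem_bot, mul_inv_eq_one, mul_inv_eq_iff_eq_mul] at h3
  exact h3

end Cfsg.Agent.H64
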