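import Mathlib

set_option autoImplicit false

/-! The order of a finite faithful irreducible module for a cyclic group of prime order `p` over the field
with `q` elements is `q ^ (order of q mod p)`. -/

namespace Cfsg.Agent.H64

open Polynomial

theorem card_le_of_pow_eq {S : Type*} [CommRing S] [IsDomain S] [Finite S] {N : ℕ} (h1 : 1 < N)
    (hfrob : ∀ s : S, s ^ N = s) : Nat.card S ≤ N := by
  classical
  have := Fintype.ofFinite S
  rw [Nat.card_eq_fintype_card, ← Finset.card_univ]
  have hmon : (X ^ N - X : S[X]).Monic := by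
    apply Polynomial.monic_X_pow_sub
    rw [Polynomial.degree_X]
    exact_mod_cast h1
  have hne : (X ^ N - X : S[X]) ≠ 0 := hmon.ne_zero
  refine (Polynomial.card_le_degree_of_subset_roots (p := (X ^ N - X : S[X])) ?_).trans ?_
  · intro s _
    rw [Polynomial.mem_roots hne, Polynomial.IsRoot.def]
    simp [hfrob s]
  · compute_degree
    omega

/-- A finite domain of characteristic `q` generated by one element `x` with `x ^ (q ^ n) = x` has at most
`q ^ n` elements. -/
theorem card_le_of_generated {S : Type*} [CommRing S] [IsDomain S] [Finite S] {q : ℕ} [Fact q.Prime]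
    [CharP S q] (π : (ZMod q)[X] →+* S) (hπ : Function.Surjective π) {n : ℕ} (hn : n ≠ 0)
    (hX : π X ^ (q ^ n) = π X) : Nat.card S ≤ q ^ n := by
  apply card_le_of_pow_eq (Nat.one_lt_pow hn (Fact.out : q.Prime).one_lt)
  intro s
  obtain ⟨g, rfl⟩ := hπ s
  have hcomp : ((iterateFrobenius S q n).comp π) = π := by
    apply Polynomial.ringHom_ext
    · intro a
      rw [RingHom.comp_apply, iterateFrobenius_def, ← map_pow, ← map_pow, ZMod.pow_card_pow]
    · rw [RingHom.comp_apply, iterateFrobenius_def, hX]
  have := congrArg (fun f : (ZMod q)[X] →+* S => f g) hcomp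
  rw [RingHom.comp_apply, iterateFrobenius_def] at this
  exact this

theorem charP_quotient {q : ℕ} [Fact q.Prime] (J : Ideal (ZMod q)[X]) (hJ : J ≠ ⊤) :
    CharP ((ZMod q)[X] ⧸ J) q := by
  have : Nontrivial ((ZMod q)[X] ⧸ J) := Ideal.Quotient.nontrivial_iff.2 hJ
  exact charP_of_injective_algebraMap (algebraMap (ZMod q) ((ZMod q)[X] ⧸ J)).injective q

theorem card_le_of_irreducible {V : Type*} [AddCommGroup V] [Finite V] [Nontrivial V] {q : ℕ}
    [Fact q.Prime] [Module (ZMod q) V] (T : Module.End (ZMod q) V) {n : ℕ} (hn : n ≠ 0)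
    (hT : T ^ (q ^ n) = T)
    (hirr : ∀ W : Submodule (ZMod q) V, (∀ w ∈ W, T w ∈ W) → W = ⊥ ∨ W = ⊤) :
    Nat.card V ≤ q ^ n := by
  classical
  obtain ⟨a0, ha0⟩ := exists_ne (0 : V)
  let J : Ideal (ZMod q)[X] := RingHom.ker (aeval T : (ZMod q)[X] →ₐ[ZMod q] Module.End (ZMod q) V)
  have hJ : ∀ g, g ∈ J ↔ aeval T g = 0 := fun g => RingHom.mem_ker
  have hinv : ∀ g : (ZMod q)[X], ∀ v : V, T (aeval T g v) = aeval T g (T v) := by
    intro g v
    have h1 : T * aeval T g = aeval T g * T := by
      have h2 : (aeval T (X : (ZMod q)[X])) = T := aeval_X T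
      calc T * aeval T g = aeval T (X * g) := by rw [map_mul, h2]
        _ = aeval T (g * X) := by rw [mul_comm]
        _ = aeval T g * T := by rw [map_mul, h2]
    exact congrArg (fun S : Module.End (ZMod q) V => S v) h1
  -- kernel of a nonzero element is trivial
  have hker : ∀ g : (ZMod q)[X], ∀ v : V, v ≠ 0 → aeval T g v = 0 → g ∈ J := by
    intro g v hv h
    rw [hJ]
    have := hirr (LinearMap.ker (aeval T g)) (by
      intro w hw
      rw [LinearMap.mem_ker] at hw ⊢
      rw [← hinv, hw, map_zero])
    rcases this with h1 | h1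
    · exfalso
      have : v ∈ LinearMap.ker (aeval T g) := h
      rw [h1] at this
      exact hv (by simpa using this)
    · exact LinearMap.ker_eq_top.1 h1
  have hJne : J ≠ ⊤ := by
    intro h
    have : (1 : (ZMod q)[X]) ∈ J := by rw [h]; trivial
    rw [hJ, map_one] at this
    have h2 := congrArg (fun S : Module.End (ZMod q) V => S a0) this
    exact ha0 (by simpa using h2)
  have hJp : J.IsPrime := by
    refine ⟨hJne, ?_⟩
    intro g h hgh
    by_contra hcon
    push Not at hcon
    obtain ⟨hg, hh⟩ := hcon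
    apply hg
    rw [hJ] at hh
    obtain ⟨v, hv⟩ : ∃ v, aeval T h v ≠ 0 := by
      by_contra hc
      push Not at hc
      exact hh (LinearMap.ext hc)
    apply hker g _ hv
    rw [hJ, map_mul] at hgh
    exact congrArg (fun S : Module.End (ZMod q) V => S v) hgh
  have : IsDomain ((ZMod q)[X] ⧸ J) := Ideal.Quotient.isDomain J
  -- finiteness and surjection to V
  have : Finite (Module.End (ZMod q) V) := Finite.of_injective (fun f : Module.End (ZMod q) V => (f : V → V))
    DFunLike.coe_injective
  obtain ⟨φ, hφ⟩ : ∃ φ : ((ZMod q)[X] ⧸ J) →+* Module.End (ZMod q) V, ∀ g : (ZMod q)[X],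
      φ (Ideal.Quotient.mk J g) = aeval T g :=
    ⟨Ideal.Quotient.lift J (aeval T : (ZMod q)[X] →ₐ[ZMod q] Module.End (ZMod q) V).toRingHom
      (fun a ha => (hJ a).1 ha), fun g => rfl⟩
  have hφinj : Function.Injective φ := by
    rw [injective_iff_map_eq_zero]
    intro s hs
    obtain ⟨g, rfl⟩ := Ideal.Quotient.mk_surjective s
    rw [hφ] at hs
    exact Ideal.Quotient.eq_zero_iff_mem.2 ((hJ g).2 hs)
  have : Finite ((ZMod q)[X] ⧸ J) := Finite.of_injective φ hφinj
  have hsurj : Function.Surjective (fun s : (ZMod q)[X] ⧸ J => φ s a0) := by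
    let W : Submodule (ZMod q) V := LinearMap.range (LinearMap.applyₗ a0 ∘ₗ (aeval T : (ZMod q)[X] →ₐ[ZMod q] Module.End (ZMod q) V).toLinearMap)
    have hW : W = ⊤ := by
      rcases hirr W (by
        rintro _ ⟨g, rfl⟩
        refine ⟨X * g, ?_⟩
        simp) with h | h
      · exfalso
        have : a0 ∈ W := ⟨1, by simp⟩
        rw [h] at this
        exact ha0 (by simpa using this)
      · exact h
    intro v
    have : v ∈ W := by rw [hW]; trivial
    obtain ⟨g, hg⟩ := this
    refine ⟨Ideal.Quotient.mk J g, ?_⟩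
    simp only [hφ]
    exact hg
  have hcard1 : Nat.card V ≤ Nat.card ((ZMod q)[X] ⧸ J) := Nat.card_le_card_of_surjective _ hsurj
  refine hcard1.trans ?_
  have := charP_quotient J hJne
  apply card_le_of_generated (Ideal.Quotient.mk J) Ideal.Quotient.mk_surjective hn
  apply hφinj
  rw [map_pow, hφ, aeval_X, hT]

/-- The order of a finite irreducible module in characteristic `q` on which a single operator `T ≠ 1` with
`T ^ p = 1` acts is `q ^ e`, `e` the order of `q` modulo `p`. -/
theorem card_eq_of_irreducible_linear {V : Type*} [AddCommGroup V] [Finite V] [Nontrivial V] {p q : ℕ}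
    [hp : Fact p.Prime] [hq : Fact q.Prime] [Module (ZMod q) V] (hpq : q ≠ p) (T : Module.End (ZMod q) V)
    (hTp : T ^ p = 1) (hne : ∃ v : V, T v ≠ v)
    (hirr : ∀ W : Submodule (ZMod q) V, (∀ w ∈ W, T w ∈ W) → W = ⊥ ∨ W = ⊤) :
    Nat.card V = q ^ orderOf (q : ZMod p) := by
  classical
  set e := orderOf (q : ZMod p) with he
  have hq0 : (q : ZMod p) ≠ 0 := by
    intro h
    rw [ZMod.natCast_eq_zero_iff] at h
    exact hpq ((Nat.prime_dvd_prime_iff_eq hp.out hq.out).1 h).symm
  have he0 : e ≠ 0 := by
    rw [he]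
    rw [← Units.val_mk0 hq0, orderOf_units]
    exact (orderOf_pos _).ne'
  have hmod : q ^ e % p = 1 := by
    have h1 : ((q ^ e : ℕ) : ZMod p) = ((1 : ℕ) : ZMod p) := by
      push_cast
      exact pow_orderOf_eq_one _
    have h2 := (ZMod.natCast_eq_natCast_iff' _ _ _).1 h1
    rw [h2]
    exact Nat.mod_eq_of_lt hp.out.one_lt
  have hTq : T ^ (q ^ e) = T := by
    conv_lhs => rw [← Nat.div_add_mod (q ^ e) p, hmod, pow_add, pow_mul, hTp, one_pow, one_mul, pow_one]
  have hle : Nat.card V ≤ q ^ e := card_le_of_irreducible T he0 hTq hirr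
  -- the cardinal is a power of q
  obtain ⟨f, hf⟩ : ∃ f : ℕ, Nat.card V = q ^ f := by
    have := Fintype.ofFinite V
    refine ⟨Module.finrank (ZMod q) V, ?_⟩
    rw [Nat.card_eq_fintype_card, Module.card_eq_pow_finrank (K := ZMod q) (V := V), ZMod.card]
  have hT : ∀ v : V, T^[p] v = v := by
    intro v
    rw [← Module.End.pow_apply, hTp]; rfl
  -- fixed points are trivial
  have hfix : ∀ v : V, T v = v → v = 0 := by
    rcases hirr (LinearMap.ker (T - 1)) (by
      intro w hw
      rw [LinearMap.mem_ker, LinearMap.sub_apply, sub_eq_zero] at hw ⊢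
      have : T w = w := hw
      rw [this]; exact this) with h | h
    · intro v hv
      have : v ∈ LinearMap.ker (T - 1) := by
        rw [LinearMap.mem_ker, LinearMap.sub_apply, sub_eq_zero]; exact hv
      rw [h] at this
      simpa using this
    · exfalso
      obtain ⟨v, hv⟩ := hne
      apply hv
      have : v ∈ LinearMap.ker (T - 1) := by rw [h]; trivial
      rw [LinearMap.mem_ker, LinearMap.sub_apply, sub_eq_zero] at this
      exact this
  -- counting
  have hcount : (Nat.card V : ℕ) ≡ 1 [MOD p] := by
    have := Fintype.ofFinite V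
    let f : Function.End V := (fun v => T v)
    have hfp : f ^ (p ^ 1) = 1 := by
      have h1 : ∀ n : ℕ, ∀ v : V, (f ^ n : Function.End V) v = T^[n] v := by
        intro n
        induction n with
        | zero => intro v; rfl
        | succ n ih =>
          intro v
          rw [pow_succ', Function.iterate_succ_apply', ← ih]
          rfl
      funext v
      rw [pow_one]
      exact (h1 p v).trans (hT v)
    have := Equiv.Perm.card_fixedPoints_modEq (f := f) (p := p) (n := 1) hfp
    rw [Nat.card_eq_fintype_card]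
    refine this.trans ?_
    have hc : ∀ (h : Fintype f.fixedPoints), @Fintype.card f.fixedPoints h = 1 := by
      intro h
      rw [Fintype.card_eq_one_iff]
      refine ⟨⟨0, map_zero T⟩, ?_⟩
      rintro ⟨v, hv⟩
      exact Subtype.ext (hfix v hv)
    rw [hc]
  have hdvd : e ∣ f := by
    rw [he, orderOf_dvd_iff_pow_eq_one]
    rw [hf] at hcount
    have := (ZMod.natCast_eq_natCast_iff _ _ _).2 hcount
    push_cast at this
    exact this
  have hf0 : f ≠ 0 := by
    intro h
    rw [h, pow_zero] at hf
    have := Finite.one_lt_card (α := V)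
    omega
  have : q ^ e ≤ q ^ f := Nat.pow_le_pow_right hq.out.pos (Nat.le_of_dvd (Nat.pos_of_ne_zero hf0) hdvd)
  rw [hf] at hle ⊢
  exact le_antisymm hle this

/-- The same for an additive map on an additive group of exponent `q`. -/
theorem card_eq_of_irreducible {V : Type*} [AddCommGroup V] [Finite V] [Nontrivial V] {p q : ℕ}
    [hp : Fact p.Prime] [hq : Fact q.Prime] (hpq : q ≠ p) (hV : ∀ v : V, q • v = 0) (T : V →+ V)
    (hT : ∀ v : V, T^[p] v = v) (hne : ∃ v : V, T v ≠ v)
    (hirr : ∀ W : AddSubgroup V, (∀ w ∈ W, T w ∈ W) → W = ⊥ ∨ W = ⊤) :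
    Nat.card V = q ^ orderOf (q : ZMod p) := by
  let _ : Module (ZMod q) V := AddCommGroup.zmodModule hV
  refine card_eq_of_irreducible_linear hpq (T.toZModLinearMap q) ?_ hne ?_
  · apply LinearMap.ext
    intro v
    rw [Module.End.pow_apply]
    exact hT v
  · intro W hW
    rcases hirr W.toAddSubgroup hW with h | h
    · left
      ext v
      have := congrArg (fun K : AddSubgroup V => v ∈ K) h
      simpa using this
    · right
      ext v
      have := congrArg (fun K : AddSubgroup V => v ∈ K) h
      simpa using this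

/-- Multiplicative version: `A` a nontrivial elementary abelian normal `q`-subgroup, `t` an element acting
nontrivially on it, `t ^ p` acting trivially, no proper nontrivial subgroup of `A` being `t`-invariant. -/
theorem card_eq_of_irreducible_subgroup {G : Type*} [Group G] {A : Subgroup G} [Finite A] {p q : ℕ}
    [hp : Fact p.Prime] [hq : Fact q.Prime] (hpq : q ≠ p) (hA1 : A ≠ ⊥)
    (hcomm : ∀ a ∈ A, ∀ b ∈ A, a * b = b * a) (hA : ∀ a ∈ A, a ^ q = 1) {t : G}
    (htA : ∀ a ∈ A, t * a * t⁻¹ ∈ A) (htp : ∀ a ∈ A, t ^ p * a * (t ^ p)⁻¹ = a)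
    (hne : ∃ a ∈ A, t * a * t⁻¹ ≠ a)
    (hirr : ∀ W : Subgroup G, W ≤ A → (∀ w ∈ W, t * w * t⁻¹ ∈ W) → W = ⊥ ∨ W = A) :
    Nat.card A = q ^ orderOf (q : ZMod p) := by
  let _ : CommGroup A := { (inferInstance : Group A) with
    mul_comm := fun a b => Subtype.ext (hcomm a a.2 b b.2) }
  have : Nontrivial A := (Subgroup.nontrivial_iff_ne_bot A).2 hA1
  let f : A →* A :=
    { toFun := fun a => ⟨t * a * t⁻¹, htA a a.2⟩
      map_one' := by ext; simp
      map_mul' := by intro a b; ext; simp [mul_assoc] }
  have hf : ∀ (n : ℕ) (a : A), ((f^[n] a : A) : G) = t ^ n * a * (t ^ n)⁻¹ := by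
    intro n
    induction n with
    | zero => intro a; simp
    | succ n ih =>
      intro a
      rw [Function.iterate_succ_apply']
      have : ((f (f^[n] a) : A) : G) = t * (f^[n] a : A) * t⁻¹ := rfl
      rw [this, ih, pow_succ']
      group
  have h := card_eq_of_irreducible (V := Additive A) (p := p) (q := q) hpq (by
      intro v
      have h1 : (Additive.toMul v) ^ q = 1 := Subtype.ext (hA _ (Additive.toMul v).2)
      exact congrArg Additive.ofMul h1) (MonoidHom.toAdditive f) (by
      intro v
      have h1 : f^[p] (Additive.toMul v) = Additive.toMul v := by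
        apply Subtype.ext
        rw [hf]
        exact htp _ (Additive.toMul v).2
      exact h1) (by
      obtain ⟨a, ha, h1⟩ := hne
      refine ⟨Additive.ofMul ⟨a, ha⟩, ?_⟩
      intro h2
      exact h1 (congrArg Subtype.val h2)) (by
      intro W hW
      have h1 := hirr ((AddSubgroup.toSubgroup' W).map A.subtype) (Subgroup.map_subtype_le _) (by
        rintro _ ⟨w, hw, rfl⟩
        exact ⟨f w, hW _ hw, rfl⟩)
      rcases h1 with h1 | h1
      · left
        rw [Subgroup.map_eq_bot_iff_of_injective _ A.subtype_injective] at h1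
        ext v
        have := congrArg (fun K : Subgroup A => (Additive.toMul v) ∈ K) h1
        simpa using this
      · right
        have h2 : (AddSubgroup.toSubgroup' W) = ⊤ := by
          apply Subgroup.map_injective A.subtype_injective
          rw [h1, ← MonoidHom.range_eq_map, Subgroup.range_subtype]
        ext v
        have := congrArg (fun K : Subgroup A => (Additive.toMul v) ∈ K) h2
        simpa using this)
  exact h

end Cfsg.Agent.H64
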