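import Cfsg.Agent.S2904
import Mathlib

set_option autoImplicit false

namespace Cfsg.Agent.H64.PC

variable {E W : Type*} [Group E] [CommGroup W] [Finite W] [MulDistribMulAction E W]

/-- fixed subgroup of an element -/
def fixSub (W : Type*) [CommGroup W] [MulDistribMulAction E W] (x : E) : Subgroup W where
  carrier := {w | x • w = w}
  mul_mem' := by
    intro a b ha hb
    simp only [Set.mem_ofPred_eq] at *
    rw [smul_mul', ha, hb]
  one_mem' := by simp
  inv_mem' := by
    intro a ha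
    simp only [Set.mem_ofPred_eq] at *
    rw [smul_inv', ha]

theorem mem_fixSub {x : E} {w : W} : w ∈ fixSub W x ↔ x • w = w := Iff.rfl

theorem card_modEq {z : ℕ} (hz : z.Prime) {x : E} (hx : orderOf x = z) (U : Subgroup W)
    (hU : ∀ u ∈ U, x • u ∈ U) : Nat.card U ≡ Nat.card ↥(U ⊓ fixSub W x) [MOD z] := by
  classical
  haveI := Fact.mk hz
  let f : Function.End U := fun u => ⟨x • (u : W), hU u u.2⟩
  have hpow : ∀ n : ℕ, ∀ u : U, (((f ^ n) u : U) : W) = x ^ n • (u : W) := by
    intro n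
    induction n with
    | zero => intro u; rw [pow_zero, pow_zero, one_smul]; rfl
    | succ n ih =>
      intro u
      rw [pow_succ', pow_succ', mul_smul, ← ih u]
      rfl
  have hf : f ^ z ^ 1 = 1 := by
    funext u
    apply Subtype.ext
    rw [pow_one, hpow z u, ← hx, pow_orderOf_eq_one, one_smul]
    rfl
  haveI := Fintype.ofFinite U
  have h := Equiv.Perm.card_fixedPoints_modEq hf
  rw [← Nat.card_eq_fintype_card, ← Nat.card_eq_fintype_card] at h
  refine h.trans ?_
  have : Nat.card (Function.fixedPoints f) = Nat.card ↥(U ⊓ fixSub W x) := by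
    refine Nat.card_congr
      { toFun := fun u => ⟨((u : U) : W), ?_, ?_⟩
        invFun := fun w => ⟨⟨w.1, w.2.1⟩, ?_⟩
        left_inv := ?_
        right_inv := ?_ }
    · exact (u : U).2
    · have := u.2
      rw [Function.mem_fixedPoints, Function.IsFixedPt] at this
      exact congrArg Subtype.val this
    · rw [Function.mem_fixedPoints, Function.IsFixedPt]
      apply Subtype.ext
      exact w.2.2
    · intro u; rfl
    · intro w; rfl
  rw [this]

theorem not_dvd_p {p r z : ℕ} (hp : p.Prime) (hz : z.Prime) (hr : 0 < r) (hzr : z ∣ p ^ r - 1) : ¬ z ∣ p := by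
  intro h
  have h1 : z ∣ p ^ r := dvd_pow h hr.ne'
  have h2 : 1 ≤ p ^ r := Nat.one_le_pow _ _ hp.pos
  have h3 : z ∣ 1 := by
    have := (Nat.dvd_sub h1 hzr)
    rwa [Nat.sub_sub_self h2] at this
  exact hz.one_lt.ne' (Nat.dvd_one.mp h3)

theorem arith {p r z i j : ℕ} (hp : p.Prime) (hz : z.Prime) (hr : 0 < r) (hzr : z ∣ p ^ r - 1)
    (hppd : ∀ i, 0 < i → i < r → ¬ z ∣ p ^ i - 1) (hij : j ≤ i) (h : p ^ i ≡ p ^ j [MOD z]) :
    i = j ∨ r ≤ i - j := by
  have h1 : z ∣ p ^ i - p ^ j := (Nat.modEq_iff_dvd' (Nat.pow_le_pow_right hp.pos hij)).mp h.symm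
  have h2 : p ^ i - p ^ j = p ^ j * (p ^ (i - j) - 1) := by
    rw [Nat.mul_sub, mul_one, ← pow_add, Nat.add_sub_cancel' hij]
  rw [h2] at h1
  rcases (hz.dvd_mul).mp h1 with h3 | h3
  · exact absurd (hz.dvd_of_dvd_pow h3) (not_dvd_p hp hz hr hzr)
  · by_contra hcon
    push Not at hcon
    exact hppd (i - j) (by omega) hcon.2 h3

/-- an element of primitive prime divisor order acts irreducibly -/
theorem irr_of_ppd [FaithfulSMul E W] {p r z : ℕ} (hp : p.Prime) (hW : Nat.card W = p ^ r)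
    (hz : z.Prime) (hzr : z ∣ p ^ r - 1) (hppd : ∀ i, 0 < i → i < r → ¬ z ∣ p ^ i - 1)
    {x : E} (hx : orderOf x = z) (U : Subgroup W) (hU : ∀ u ∈ U, x • u ∈ U) :
    U = ⊥ ∨ U = ⊤ := by
  rcases Nat.eq_zero_or_pos r with hr | hr
  · subst hr
    rw [pow_zero] at hW
    left
    have : Nat.card U = 1 := Nat.eq_one_of_dvd_one (hW ▸ Subgroup.card_subgroup_dvd_card U)
    exact Subgroup.card_eq_one.mp this
  obtain ⟨i, hi, hUi⟩ := (Nat.dvd_prime_pow hp).mp (hW ▸ Subgroup.card_subgroup_dvd_card U)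
  obtain ⟨j, hj, hUj⟩ := (Nat.dvd_prime_pow hp).mp
    (hW ▸ Subgroup.card_subgroup_dvd_card (U ⊓ fixSub W x))
  obtain ⟨k, hk, hCk⟩ := (Nat.dvd_prime_pow hp).mp
    (hW ▸ Subgroup.card_subgroup_dvd_card (fixSub W x))
  have hji : j ≤ i := by
    have : Nat.card ↥(U ⊓ fixSub W x) ≤ Nat.card U := Subgroup.card_le_of_le inf_le_left
    rw [hUi, hUj] at this
    exact (Nat.pow_le_pow_iff_right hp.one_lt).mp this
  have h1 := card_modEq hz hx U hU
  rw [hUi, hUj] at h1
  rcases arith hp hz hr hzr hppd hji h1 with h2 | h2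
  · -- `U ≤ C`
    have hUC : U ≤ fixSub W x := by
      have : U ⊓ fixSub W x = U := by
        apply Subgroup.eq_of_le_of_card_ge inf_le_left
        rw [hUi, hUj, h2]
      exact inf_eq_left.mp this
    have h3 := card_modEq hz hx (⊤ : Subgroup W) (fun _ _ => Subgroup.mem_top _)
    rw [top_inf_eq, hCk, Subgroup.card_top, hW] at h3
    rcases arith hp hz hr hzr hppd hk h3 with h4 | h4
    · exfalso
      have hCtop : fixSub W x = ⊤ := by
        apply Subgroup.eq_top_of_card_eq
        rw [hCk, hW, h4]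
      have hx1 : x = 1 := by
        apply FaithfulSMul.eq_of_smul_eq_smul (α := W)
        intro w
        have : w ∈ fixSub W x := by rw [hCtop]; exact Subgroup.mem_top w
        rw [mem_fixSub] at this
        rw [this, one_smul]
      rw [hx1, orderOf_one] at hx
      exact hz.one_lt.ne hx
    · left
      have hk0 : k = 0 := by omega
      rw [hk0, pow_zero] at hCk
      have : fixSub W x = ⊥ := Subgroup.card_eq_one.mp hCk
      rw [this] at hUC
      exact le_bot_iff.mp hUC
  · right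
    have : i = r := by omega
    apply Subgroup.eq_top_of_card_eq
    rw [hUi, hW, this]

/-- for `p` odd and `r ≥ 3` a primitive prime divisor exists -/
theorem exists_ppd {p r : ℕ} (hp : p.Prime) (hp2 : p ≠ 2) (hr : 3 ≤ r) :
    ∃ z : ℕ, z.Prime ∧ z ∣ p ^ r - 1 ∧ ∀ i, 0 < i → i < r → ¬ z ∣ p ^ i - 1 :=
  Cfsg.Agent.S2904.result p r hp.one_lt (by omega) (by rintro ⟨h, -⟩; exact hp2 h)
    (by rintro ⟨h, -⟩; omega)

end Cfsg.Agent.H64.PC
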