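import Cfsg.Agent.H30.ElemAb
import Cfsg.Agent.Cop.Basic
import Cfsg.Agent.Cop.GenAb
import Cfsg.Agent.Cop.MinAct
import Cfsg.Agent.H91.CoprimeAb

set_option autoImplicit false
set_option linter.style.haveILetI false
set_option linter.unusedSectionVars false

/-! Coprime action lemmas used for the theorem of Klinger and Mason: an (almost) elementary abelian
2-group acting on a `p`-group. -/

namespace Cfsg.Agent.H64.KM

open Subgroup
open scoped commutatorElement

variable {G : Type*} [Group G]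

theorem norm_of {A X : Subgroup G} (h : ∀ a ∈ A, ∀ x ∈ X, a * x * a⁻¹ ∈ X) :
    A ≤ normalizer (X : Set G) := by
  intro b hb
  rw [mem_normalizer_iff]
  intro x
  refine ⟨h b hb x, fun hx => ?_⟩
  have := h b⁻¹ (A.inv_mem hb) _ hx
  have e : b⁻¹ * (b * x * b⁻¹) * b⁻¹⁻¹ = x := by group
  rwa [e] at this

theorem norm_mem {A X : Subgroup G} (h : A ≤ normalizer (X : Set G)) {a x : G} (ha : a ∈ A)
    (hx : x ∈ X) : a * x * a⁻¹ ∈ X := (mem_normalizer_iff.1 (h ha) x).1 hx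

theorem norm_mem' {X : Subgroup G} {a x : G} (ha : a ∈ normalizer (X : Set G))
    (hx : x ∈ X) : a * x * a⁻¹ ∈ X := (mem_normalizer_iff.1 ha x).1 hx

theorem mem_cent {X : Subgroup G} {g : G} : g ∈ centralizer (X : Set G) ↔ ∀ x ∈ X, g * x = x * g := by
  rw [mem_centralizer_iff]
  exact ⟨fun h x hx => (h x hx).symm, fun h x hx => (h x hx).symm⟩

theorem mem_cent1 {a g : G} : g ∈ centralizer ({a} : Set G) ↔ g * a = a * g :=
  mem_centralizer_singleton_iff

theorem conj_eq_iff {a x : G} : a * x * a⁻¹ = x ↔ a * x = x * a := mul_inv_eq_iff_eq_mul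

/-- `A` normalizes `X ⊓ Y` if it normalizes both. -/
theorem norm_inf {A X Y : Subgroup G} (h : A ≤ normalizer (X : Set G)) (h' : A ≤ normalizer (Y : Set G)) :
    A ≤ normalizer ((X ⊓ Y : Subgroup G) : Set G) :=
  norm_of fun _ ha _ hx => ⟨norm_mem h ha hx.1, norm_mem h' ha hx.2⟩

theorem norm_cent {A X : Subgroup G} (h : A ≤ normalizer (X : Set G)) :
    A ≤ normalizer ((centralizer (X : Set G) : Subgroup G) : Set G) := by
  apply norm_of
  intro a ha x hx
  rw [mem_cent] at hx ⊢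
  intro y hy
  have h1 : a⁻¹ * y * a⁻¹⁻¹ ∈ X := norm_mem h (A.inv_mem ha) hy
  have h2 := hx _ h1
  calc a * x * a⁻¹ * y = a * (x * (a⁻¹ * y * a⁻¹⁻¹)) * a⁻¹ := by group
    _ = a * ((a⁻¹ * y * a⁻¹⁻¹) * x) * a⁻¹ := by rw [h2]
    _ = y * (a * x * a⁻¹) := by group

theorem norm_cent_of_comm {A X : Subgroup G} (h : ∀ a ∈ A, ∀ x ∈ X, a * x = x * a) :
    A ≤ normalizer ((centralizer (X : Set G) : Subgroup G) : Set G) := by
  apply norm_cent
  apply norm_of
  intro a ha x hx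
  rw [h a ha x hx, mul_inv_cancel_right]
  exact hx

theorem norm_cent1 {A : Subgroup G} {z : G} (h : ∀ a ∈ A, a * z = z * a) :
    A ≤ normalizer ((centralizer ({z} : Set G) : Subgroup G) : Set G) := by
  apply norm_of
  intro a ha x hx
  rw [mem_cent1] at hx ⊢
  have h1 := h a ha
  have h2 : a⁻¹ * z = z * a⁻¹ := by
    have : Commute a z := h1
    exact this.inv_left.eq
  calc a * x * a⁻¹ * z = a * x * (a⁻¹ * z) := by group
    _ = a * (x * z) * a⁻¹ := by rw [h2]; group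
    _ = (a * z) * x * a⁻¹ := by rw [hx]; group
    _ = z * (a * x * a⁻¹) := by rw [h1]; group

theorem coprime_two {p : ℕ} [hp : Fact p.Prime] (hp2 : p ≠ 2) : Nat.Coprime 2 p := by
  rw [Nat.coprime_primes Nat.prime_two hp.out]
  exact hp2.symm

theorem card_coprime [Finite G] {p q : ℕ} [hp : Fact p.Prime] [hq : Fact q.Prime] (hpq : Nat.Coprime p q)
    {A B : Subgroup G} (hA : IsPGroup p A) (hB : IsPGroup q B) :
    (Nat.card A).Coprime (Nat.card B) := by
  obtain ⟨a, ha⟩ := IsPGroup.iff_card.1 hA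
  obtain ⟨b, hb⟩ := IsPGroup.iff_card.1 hB
  rw [ha, hb]
  exact Nat.Coprime.pow _ _ hpq

theorem solv_p [Finite G] {p : ℕ} [hp : Fact p.Prime] {A : Subgroup G} (hA : IsPGroup p A) :
    Group.IsSolvable A := by
  haveI : Group.IsNilpotent A := hA.isNilpotent
  infer_instance

/-- The action of `S` on `P` is that of an elementary abelian 2-group. -/
structure RelAct (S P : Subgroup G) : Prop where
  norm : S ≤ normalizer (P : Set G)
  two : IsPGroup 2 S
  comm : ∀ s ∈ S, ∀ t ∈ S, ∀ x ∈ P, (s * t) * x * (s * t)⁻¹ = (t * s) * x * (t * s)⁻¹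
  sq : ∀ s ∈ S, ∀ x ∈ P, s * (s * x * s⁻¹) * s⁻¹ = x

theorem RelAct.sub {S P Q : Subgroup G} (h : RelAct S P) (hQ : Q ≤ P)
    (hS : S ≤ normalizer (Q : Set G)) : RelAct S Q :=
  ⟨hS, h.two, fun s hs t ht x hx => h.comm s hs t ht x (hQ hx), fun s hs x hx => h.sq s hs x (hQ hx)⟩

theorem RelAct.subS {S S₁ P : Subgroup G} (h : RelAct S P) (hQ : S₁ ≤ S) : RelAct S₁ P :=
  ⟨hQ.trans h.norm, h.two.to_le hQ, fun s hs t ht x hx => h.comm s (hQ hs) t (hQ ht) x hx,
    fun s hs x hx => h.sq s (hQ hs) x hx⟩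

/-- `S` normalizes the centralizer in `P` of any element of `S`. -/
theorem RelAct.norm_inf_cent {S P : Subgroup G} (h : RelAct S P) {t : G} (ht : t ∈ S) :
    S ≤ normalizer ((P ⊓ centralizer ({t} : Set G) : Subgroup G) : Set G) := by
  apply norm_of
  intro s hs x hx0
  obtain ⟨hx, hx'⟩ := Subgroup.mem_inf.1 hx0
  refine Subgroup.mem_inf.2 ⟨norm_mem h.norm hs hx, ?_⟩
  rw [mem_cent1] at hx' ⊢
  have h1 := h.comm t ht s hs x hx
  have h2 : t * x * t⁻¹ = x := by rw [← hx', mul_inv_cancel_right]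
  have h3 : t * (s * x * s⁻¹) * t⁻¹ = s * x * s⁻¹ := by
    calc t * (s * x * s⁻¹) * t⁻¹ = (t * s) * x * (t * s)⁻¹ := by group
      _ = (s * t) * x * (s * t)⁻¹ := h1
      _ = s * (t * x * t⁻¹) * s⁻¹ := by group
      _ = s * x * s⁻¹ := by rw [h2]
  exact (conj_eq_iff.1 h3).symm

variable [Finite G]

/-- Generation by proper fixed point subgroups when the induced group is not cyclic. -/
theorem gen_rel {p : ℕ} [Fact p.Prime] (hp2 : p ≠ 2) {S P : Subgroup G} (h : RelAct S P)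
    (hP : IsPGroup p P) {e s : G} (he : e ∈ S) (hs : s ∈ S)
    (he1 : ∃ x ∈ P, e * x * e⁻¹ ≠ x) (hs1 : ∃ x ∈ P, s * x * s⁻¹ ≠ x)
    (hes : ∃ x ∈ P, s * x * s⁻¹ ≠ e * x * e⁻¹) (T : Subgroup G)
    (hT : ∀ a ∈ S, P ⊓ centralizer {a} < P → P ⊓ centralizer {a} ≤ T) : P ≤ T := by
  classical
  set f : S →* MulAut P := (Subgroup.normalizerMonoidHom P).comp (Subgroup.inclusion h.norm) with hf
  have hfa : ∀ (a : S) (x : P), ((f a x : P) : G) = a * x * (a : G)⁻¹ := fun a x => rfl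
  haveI : Finite (MulAut P) := inferInstance
  have hcomm : IsMulCommutative f.range := by
    refine ⟨⟨?_⟩⟩
    rintro ⟨_, ⟨a, rfl⟩⟩ ⟨_, ⟨b, rfl⟩⟩
    apply Subtype.ext
    change f a * f b = f b * f a
    rw [← map_mul, ← map_mul]
    ext x
    rw [hfa, hfa]
    exact h.comm a a.2 b b.2 x x.2
  have hsq : ∀ a : S, f a ^ 2 = 1 := by
    intro a
    rw [← map_pow]
    ext x
    rw [hfa]
    have := h.sq a a.2 x x.2
    calc ((a ^ 2 : S) : G) * x * ((a ^ 2 : S) : G)⁻¹ = a * (a * x * (a : G)⁻¹) * (a : G)⁻¹ := by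
          push_cast; rw [pow_two]; group
      _ = x := this
  have hnc : ¬ IsCyclic f.range := by
    rintro ⟨⟨_, ⟨a, rfl⟩⟩, hgen⟩
    have key : ∀ b : S, f b = 1 ∨ f b = f a := by
      intro b
      obtain ⟨n, hn⟩ := hgen ⟨f b, ⟨_, rfl⟩⟩
      have hn' : (f a) ^ n = f b := congrArg Subtype.val hn
      rcases Int.even_or_odd' n with ⟨k, rfl | rfl⟩
      · left
        rw [← hn', zpow_mul]
        have : (f a) ^ (2 : ℤ) = 1 := by exact_mod_cast hsq a
        rw [this, one_zpow]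
      · right
        rw [← hn', zpow_add, zpow_mul, zpow_one]
        have : (f a) ^ (2 : ℤ) = 1 := by exact_mod_cast hsq a
        rw [this, one_zpow, one_mul]
    have hfe : f ⟨e, he⟩ ≠ 1 := by
      intro h1
      obtain ⟨x, hx, hx'⟩ := he1
      apply hx'
      have := congrArg Subtype.val (DFunLike.congr_fun h1 ⟨x, hx⟩)
      rwa [hfa] at this
    have hfs : f ⟨s, hs⟩ ≠ 1 := by
      intro h1
      obtain ⟨x, hx, hx'⟩ := hs1
      apply hx'
      have := congrArg Subtype.val (DFunLike.congr_fun h1 ⟨x, hx⟩)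
      rwa [hfa] at this
    obtain ⟨x, hx, hx'⟩ := hes
    apply hx'
    have h1 := (key ⟨e, he⟩).resolve_left hfe
    have h2 := (key ⟨s, hs⟩).resolve_left hfs
    have h3 := congrArg Subtype.val (DFunLike.congr_fun (h2.trans h1.symm) ⟨x, hx⟩)
    rwa [hfa, hfa] at h3
  have hcop : (Nat.card f.range).Coprime (Nat.card P) :=
    Nat.Coprime.coprime_dvd_left (Subgroup.card_range_dvd f)
      (card_coprime (coprime_two hp2) h.two hP)
  have h1 := Cop.gen_fix f.range hcomm hnc hcop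
  have h2 : (⊤ : Subgroup P) ≤ T.subgroupOf P := by
    rw [← h1]
    refine iSup₂_le ?_
    rintro _ ⟨⟨a, rfl⟩, ha1⟩
    intro x hx
    have hx' : (a : G) * x = x * a := by
      have := congrArg Subtype.val (show f a x = x from hx)
      rw [hfa] at this
      exact mul_inv_eq_iff_eq_mul.1 this
    have hlt : P ⊓ centralizer {(a : G)} < P := by
      refine lt_of_le_of_ne inf_le_left ?_
      intro h
      apply ha1
      ext y
      rw [hfa]
      have h3 : (y : G) ∈ P ⊓ centralizer {(a : G)} := by rw [h]; exact y.2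
      have h4 := mem_centralizer_singleton_iff.1 h3.2
      change (a : G) * y * (a : G)⁻¹ = y
      rw [mul_inv_eq_iff_eq_mul]
      exact h4.symm
    exact hT a a.2 hlt ⟨x.2, mem_centralizer_singleton_iff.2 hx'.symm⟩
  intro x hx
  exact h2 (mem_top (⟨x, hx⟩ : P))

/-- Lemma Y. -/
theorem exists_inverted {p : ℕ} [Fact p.Prime] (hp2 : p ≠ 2) : ∀ (n : ℕ) {S P : Subgroup G},
    Nat.card P = n → RelAct S P → IsPGroup p P → ∀ {e : G}, e ∈ S → (∃ x ∈ P, e * x * e⁻¹ ≠ x) →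
    ∃ y ∈ P, y ≠ 1 ∧ y ^ p = 1 ∧ e * y * e⁻¹ = y⁻¹ ∧ ∀ s ∈ S, s * y * s⁻¹ = y ∨ s * y * s⁻¹ = y⁻¹ := by
  intro n
  induction n using Nat.strong_induction_on with
  | _ n ih =>
  intro S P hn h hP e he hex
  by_cases hcase : ∀ s ∈ S, (∀ x ∈ P, s * x * s⁻¹ = x) ∨ (∀ x ∈ P, s * x * s⁻¹ = e * x * e⁻¹)
  · obtain ⟨x, hx, hx'⟩ := hex
    set y₀ := x⁻¹ * (e * x * e⁻¹) with hy₀
    have hy₀P : y₀ ∈ P := P.mul_mem (P.inv_mem hx) (norm_mem h.norm he hx)
    have hy₀1 : y₀ ≠ 1 := by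
      intro h1
      apply hx'
      rw [hy₀, inv_mul_eq_one] at h1
      exact h1.symm
    have hey₀ : e * y₀ * e⁻¹ = y₀⁻¹ := by
      have h1 := h.sq e he x hx
      calc e * y₀ * e⁻¹ = (e * x * e⁻¹)⁻¹ * (e * (e * x * e⁻¹) * e⁻¹) := by rw [hy₀]; group
        _ = (e * x * e⁻¹)⁻¹ * x := by rw [h1]
        _ = y₀⁻¹ := by rw [hy₀]; group
    obtain ⟨k, hk⟩ := hP ⟨y₀, hy₀P⟩
    have hk' : y₀ ^ p ^ k = 1 := congrArg Subtype.val hk
    obtain ⟨j, hj⟩ : ∃ j, y₀ ^ p ^ j ≠ 1 ∧ y₀ ^ p ^ (j + 1) = 1 := by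
      classical
      have hex : ∃ k, y₀ ^ p ^ k = 1 := ⟨k, hk'⟩
      have h0 : Nat.find hex ≠ 0 := by
        intro h0
        have := Nat.find_spec hex
        rw [h0, pow_zero, pow_one] at this
        exact hy₀1 this
      obtain ⟨j, hj⟩ := Nat.exists_eq_succ_of_ne_zero h0
      refine ⟨j, Nat.find_min hex (by omega), ?_⟩
      have := Nat.find_spec hex
      rwa [hj] at this
    have hey : e * y₀ ^ p ^ j * e⁻¹ = (y₀ ^ p ^ j)⁻¹ := by
      rw [← conj_pow, hey₀, inv_pow]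
    refine ⟨y₀ ^ p ^ j, P.pow_mem hy₀P _, hj.1, ?_, hey, ?_⟩
    · rw [← pow_mul, ← pow_succ]; exact hj.2
    · intro s hs
      rcases hcase s hs with h1 | h1
      · left; exact h1 _ (P.pow_mem hy₀P _)
      · right; rw [h1 _ (P.pow_mem hy₀P _), hey]
  · push Not at hcase
    obtain ⟨s, hs, hs1, hs2⟩ := hcase
    by_contra hcon
    have hgen := gen_rel hp2 h hP he hs hex hs1 hs2 (centralizer {e}) (by
      intro a ha hlt
      by_contra hne
      apply hcon
      have hcard : Nat.card (P ⊓ centralizer {a} : Subgroup G) < n := by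
        rw [← hn]
        exact Set.Finite.card_lt_card (Set.toFinite _)
          (show ((P ⊓ centralizer {a} : Subgroup G) : Set G) ⊂ P from hlt)
      obtain ⟨x, hx, hx'⟩ := SetLike.not_le_iff_exists.1 hne
      obtain ⟨y, hy, hy'⟩ := ih _ hcard (S := S) (P := P ⊓ centralizer {a}) rfl
        (h.sub inf_le_left (h.norm_inf_cent ha)) (hP.to_le inf_le_left) he
        ⟨x, hx, fun h1 => hx' (mem_cent1.2 (conj_eq_iff.1 h1).symm)⟩
      exact ⟨y, hy.1, hy'⟩)
    obtain ⟨x, hx, hx'⟩ := hex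
    exact hx' (conj_eq_iff.2 (mem_cent1.1 (hgen hx)).symm)

theorem one_of_sq_of_pow {p : ℕ} [hp : Fact p.Prime] (hp2 : p ≠ 2) {y : G} (h2 : y ^ 2 = 1)
    (hp' : y ^ p = 1) : y = 1 := by
  have h1 := orderOf_dvd_of_pow_eq_one h2
  have h3 := orderOf_dvd_of_pow_eq_one hp'
  have h4 := Nat.dvd_gcd h1 h3
  rw [(coprime_two hp2 : Nat.gcd 2 p = 1)] at h4
  exact orderOf_eq_one_iff.1 (Nat.dvd_one.1 h4)

theorem zpowers_norm {s : G} {S P : Subgroup G} (h : S ≤ normalizer (P : Set G)) (hs : s ∈ S) :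
    zpowers s ≤ normalizer (P : Set G) := (zpowers_le.2 hs).trans h

/-- Lemma DA. -/
theorem exists_elem {p : ℕ} [hp : Fact p.Prime] (hp2 : p ≠ 2) : ∀ (n : ℕ) {S P : Subgroup G},
    Nat.card P = n → RelAct S P → IsPGroup p P →
    ∃ W ≤ P, Cfsg.IsElementaryAbelian p W ∧ S ≤ normalizer (W : Set G) ∧
      ∀ s ∈ S, (∀ x ∈ W, s * x = x * s) → ∀ x ∈ P, s * x = x * s := by
  intro n
  induction n using Nat.strong_induction_on with
  | _ n ih =>
  intro S P hn h hP
  by_cases hcase : ∃ P' < P, S ≤ normalizer (P' : Set G) ∧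
      ∀ s ∈ S, (∀ x ∈ P', s * x = x * s) → ∀ x ∈ P, s * x = x * s
  · obtain ⟨P', hlt, hSP', hP'⟩ := hcase
    have hcard : Nat.card P' < n := by
      rw [← hn]
      exact Set.Finite.card_lt_card (Set.toFinite _) (show ((P' : Subgroup G) : Set G) ⊂ P from hlt)
    obtain ⟨W, hW, hW1, hW2, hW3⟩ := ih _ hcard rfl (h.sub hlt.le hSP') (hP.to_le hlt.le)
    exact ⟨W, hW.trans hlt.le, hW1, hW2, fun s hs hsW => hP' s hs (hW3 s hs hsW)⟩
  push Not at hcase
  let W : Subgroup G :=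
    { carrier := {x | x ∈ P ∧ (∀ y ∈ P, x * y = y * x) ∧ x ^ p = 1}
      one_mem' := ⟨P.one_mem, fun y _ => by rw [one_mul, mul_one], one_pow _⟩
      mul_mem' := by
        rintro a b ⟨ha, ha1, ha2⟩ ⟨hb, hb1, hb2⟩
        refine ⟨P.mul_mem ha hb, ?_, ?_⟩
        · intro y hy
          rw [mul_assoc, hb1 y hy, ← mul_assoc, ha1 y hy, mul_assoc]
        · have : Commute a b := ha1 b hb
          rw [this.mul_pow, ha2, hb2, mul_one]
      inv_mem' := by
        rintro a ⟨ha, ha1, ha2⟩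
        refine ⟨P.inv_mem ha, ?_, ?_⟩
        · intro y hy
          have : Commute a y := ha1 y hy
          exact this.inv_left.eq
        · rw [inv_pow, ha2, inv_one] }
  have hWP : W ≤ P := fun x hx => hx.1
  refine ⟨W, hWP, ?_, ?_, ?_⟩
  · rw [H30.isElementaryAbelian_iff]
    exact ⟨fun a ha b hb => ha.2.1 b hb.1, fun a ha => ha.2.2⟩
  · apply norm_of
    rintro s hs x ⟨hx, hx1, hx2⟩
    refine ⟨norm_mem h.norm hs hx, ?_, ?_⟩
    · intro y hy
      have h1 : s⁻¹ * y * s⁻¹⁻¹ ∈ P := norm_mem h.norm (S.inv_mem hs) hy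
      have h2 := hx1 _ h1
      calc s * x * s⁻¹ * y = s * (x * (s⁻¹ * y * s⁻¹⁻¹)) * s⁻¹ := by group
        _ = s * ((s⁻¹ * y * s⁻¹⁻¹) * x) * s⁻¹ := by rw [h2]
        _ = y * (s * x * s⁻¹) := by group
    · rw [conj_pow, hx2, mul_one, mul_inv_cancel]
  · intro e he heW
    by_contra hex
    push Not at hex
    obtain ⟨x, hx, hx'⟩ := hex
    obtain ⟨y, hy, hy1, hyp, hey, hyS⟩ := exists_inverted hp2 _ rfl h hP he
      ⟨x, hx, fun h1 => hx' (conj_eq_iff.1 h1)⟩
    set P' := P ⊓ centralizer {y} with hP'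
    have hlt : P' < P := by
      refine lt_of_le_of_ne inf_le_left ?_
      intro heq
      have hyW : y ∈ W := by
        refine ⟨hy, ?_, hyp⟩
        intro u hu
        have : u ∈ P' := by rw [heq]; exact hu
        exact (mem_cent1.1 this.2).symm
      have h1 := heW y hyW
      rw [← conj_eq_iff, hey] at h1
      apply hy1
      apply one_of_sq_of_pow hp2 _ hyp
      rw [pow_two]
      nth_rewrite 1 [← h1]
      exact inv_mul_cancel y
    have hSP' : S ≤ normalizer (P' : Set G) := by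
      apply norm_of
      intro s hs u hu0
      obtain ⟨hu, hu'⟩ := Subgroup.mem_inf.1 hu0
      refine Subgroup.mem_inf.2 ⟨norm_mem h.norm hs hu, ?_⟩
      rw [mem_cent1] at hu' ⊢
      have hs' := hyS s⁻¹ (S.inv_mem hs)
      have key : (s * u * s⁻¹) * y * (s * u * s⁻¹)⁻¹ = s * (u * (s⁻¹ * y * s⁻¹⁻¹) * u⁻¹) * s⁻¹ := by group
      have huy : u * y * u⁻¹ = y := by rw [hu', mul_inv_cancel_right]
      have huy' : u * y⁻¹ * u⁻¹ = y⁻¹ := by
        rw [← conj_inv, huy]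
      have : (s * u * s⁻¹) * y * (s * u * s⁻¹)⁻¹ = y := by
        rw [key]
        rcases hs' with h1 | h1
        · rw [h1, huy]
          nth_rewrite 1 [← h1]
          group
        · rw [h1, huy', ← h1]
          group
      exact conj_eq_iff.1 this
    obtain ⟨t, ht, htP', u, hu, hu'⟩ := hcase P' hlt hSP'
    apply hu'
    have htc : (Nat.card (zpowers t)).Coprime p := by
      have h1 : IsPGroup 2 (zpowers t) := h.two.to_le (zpowers_le.2 ht)
      obtain ⟨a, ha⟩ := IsPGroup.iff_card.1 h1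
      rw [ha]
      exact Nat.Coprime.pow_left _ (coprime_two hp2)
    have hyt : y * t = t * y := (htP' y ⟨hy, mem_cent1.2 rfl⟩).symm
    have h1 := Cop.le_centralizer_of_AxB p (P := zpowers y) (Q := zpowers t) (U := P)
      (hP.to_le (zpowers_le.2 hy)) htc hP
      (by
        rw [zpowers_le, mem_cent]
        rintro _ ⟨n, rfl⟩
        exact (Commute.zpow_right (show Commute y t from hyt) n).eq)
      (by
        rw [zpowers_le]
        exact le_normalizer hy)
      (zpowers_norm h.norm ht)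
      (by
        intro v hv0
        obtain ⟨hv, hv'⟩ := Subgroup.mem_inf.1 hv0
        rw [mem_cent] at hv' ⊢
        rintro _ ⟨n, rfl⟩
        have hvt : v * t = t * v := (htP' v ⟨hv, mem_cent1.2 (hv' y (mem_zpowers y))⟩).symm
        exact (Commute.zpow_right (show Commute v t from hvt) n).eq)
    exact mem_cent.1 (h1 (mem_zpowers t)) u hu

theorem card_le_two_mul {S S₁ : Subgroup G}
    (h2 : ∀ s ∈ S, ∀ t ∈ S, s ∉ S₁ → t ∉ S₁ → s⁻¹ * t ∈ S₁) : Nat.card S ≤ 2 * Nat.card S₁ := by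
  by_cases hS : S ≤ S₁
  · have := Nat.card_le_card_of_injective _ (Subgroup.inclusion_injective hS)
    omega
  obtain ⟨t₀, ht₀, ht₀'⟩ := SetLike.not_le_iff_exists.1 hS
  have hsub : (S : Set G) ⊆ (S₁ : Set G) ∪ (fun x => t₀ * x) '' (S₁ : Set G) := by
    intro s hs
    by_cases h : s ∈ S₁
    · left; exact h
    · right
      exact ⟨t₀⁻¹ * s, h2 t₀ ht₀ s hs ht₀' h, by simp⟩
  have h3 : Nat.card S = (S : Set G).ncard := rfl
  have h4 : Nat.card S₁ = (S₁ : Set G).ncard := rfl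
  rw [h3, h4]
  calc (S : Set G).ncard ≤ ((S₁ : Set G) ∪ (fun x => t₀ * x) '' (S₁ : Set G)).ncard :=
        Set.ncard_le_ncard hsub (Set.toFinite _)
    _ ≤ (S₁ : Set G).ncard + ((fun x => t₀ * x) '' (S₁ : Set G)).ncard := Set.ncard_union_le _ _
    _ = 2 * (S₁ : Set G).ncard := by
        rw [Set.ncard_image_of_injective _ (mul_right_injective t₀)]; ring

/-- An elementary abelian 2-group acting on an elementary abelian `p`-group. -/
theorem rank_bound {p : ℕ} [hp : Fact p.Prime] (hp2 : p ≠ 2) {W : Subgroup G}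
    (hW : Cfsg.IsElementaryAbelian p W) : ∀ (m : ℕ) {S : Subgroup G}, RelAct S W →
    2 ^ m * Nat.card (S ⊓ centralizer (W : Set G) : Subgroup G) ≤ Nat.card S →
    p ^ m ≤ Nat.card (⁅W, S⁆ : Subgroup G) ∧ (1 ≤ m → ∃ e ∈ S, (∃ x ∈ W, e * x ≠ x * e) ∧
      p ^ (m - 1) ≤ Nat.card (⁅W, S⁆ ⊓ centralizer {e} : Subgroup G)) := by
  have hWe := H30.isElementaryAbelian_iff.1 hW
  have hWp : IsPGroup p W := H30.isPGroup_of_isElementaryAbelian hW
  intro m
  induction m with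
  | zero =>
    intro S h hc
    exact ⟨by rw [pow_zero]; exact Nat.card_pos, fun h => by omega⟩
  | succ m ih =>
    intro S h hc
    have hne : ¬ S ≤ centralizer (W : Set G) := by
      intro hle
      rw [inf_eq_left.2 hle] at hc
      have h1 : 0 < Nat.card S := Nat.card_pos
      have h2 : 2 ≤ 2 ^ (m + 1) := by
        rw [pow_succ]; have := Nat.one_le_two_pow (n := m); omega
      nlinarith
    obtain ⟨e, he, he'⟩ := SetLike.not_le_iff_exists.1 hne
    rw [mem_cent] at he'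
    push Not at he'
    obtain ⟨x, hx, hx'⟩ := he'
    obtain ⟨y, hy, hy1, hyp, hey, hyS⟩ := exists_inverted hp2 _ rfl h hWp he
      ⟨x, hx, fun h1 => hx' (conj_eq_iff.1 h1)⟩
    set S₁ := S ⊓ centralizer {y} with hS₁
    have hS₁S : S₁ ≤ S := inf_le_left
    have hcard : Nat.card S ≤ 2 * Nat.card S₁ := by
      apply card_le_two_mul
      intro s hs t ht hs1 ht1
      have key : ∀ s ∈ S, s ∉ S₁ → s * y * s⁻¹ = y⁻¹ := by
        intro s hs hs1
        rcases hyS s hs with h1 | h1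
        · exact absurd (Subgroup.mem_inf.2 ⟨hs, mem_cent1.2 (conj_eq_iff.1 h1)⟩) hs1
        · exact h1
      refine Subgroup.mem_inf.2 ⟨S.mul_mem (S.inv_mem hs) ht, mem_cent1.2 (conj_eq_iff.1 ?_)⟩
      have h1 := key s hs hs1
      have h2 := key t ht ht1
      calc s⁻¹ * t * y * (s⁻¹ * t)⁻¹ = s⁻¹ * (t * y * t⁻¹) * s := by group
        _ = s⁻¹ * (s * y * s⁻¹) * s := by rw [h2, h1]
        _ = y := by group
    have hinf : S₁ ⊓ centralizer (W : Set G) = S ⊓ centralizer (W : Set G) := by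
      apply le_antisymm (inf_le_inf_right _ hS₁S)
      intro s hs
      obtain ⟨hs1, hs2⟩ := Subgroup.mem_inf.1 hs
      exact Subgroup.mem_inf.2 ⟨Subgroup.mem_inf.2 ⟨hs1, mem_cent1.2 (mem_cent.1 hs2 y hy)⟩, hs2⟩
    have hc1 : 2 ^ m * Nat.card (S₁ ⊓ centralizer (W : Set G) : Subgroup G) ≤ Nat.card S₁ := by
      rw [hinf]
      rw [pow_succ] at hc
      nlinarith
    have hR₁ := h.subS hS₁S
    obtain ⟨ih1, ih2⟩ := ih hR₁ hc1
    have hD : ⁅W, S₁⁆ ≤ ⁅W, S⁆ := commutator_mono le_rfl hS₁S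
    have hyC : y ∈ W ⊓ centralizer (S₁ : Set G) := by
      refine Subgroup.mem_inf.2 ⟨hy, mem_cent.2 ?_⟩
      intro s hs
      exact (mem_cent1.1 (Subgroup.mem_inf.1 hs).2).symm
    haveI : IsMulCommutative W := hW.1
    have hdec := (H91.abelian_decomp S₁ W hR₁.norm (card_coprime (coprime_two hp2) hR₁.two hWp)).1
    have hyD : y ∉ ⁅W, S₁⁆ := by
      intro h1
      apply hy1
      rw [← Subgroup.mem_bot, ← hdec]
      exact Subgroup.mem_inf.2 ⟨hyC, h1⟩
    have hDW : ⁅W, S₁⁆ ≤ W := le_normalizer_iff_commutator_le_left.1 hR₁.norm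
    have hyS' : y ∈ ⁅W, S⁆ := by
      have h1 : ⁅y, e⁆ ∈ ⁅W, S⁆ := commutator_mem_commutator hy he
      have h2 : ⁅y, e⁆ = y ^ 2 := by
        rw [commutatorElement_def]
        calc y * e * y⁻¹ * e⁻¹ = y * (e * y * e⁻¹)⁻¹ := by group
          _ = y ^ 2 := by rw [hey, inv_inv, pow_two]
      have hodd : p % 2 = 1 := by
        rcases hp.out.eq_two_or_odd with h3 | h3
        · exact absurd h3 hp2
        · exact h3
      have h3 : y = (y ^ 2) ^ ((p + 1) / 2) := by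
        rw [← pow_mul, Nat.mul_div_cancel' (by omega), pow_succ, hyp, one_mul]
      rw [h3, ← h2]
      exact pow_mem h1 _
    have hcomm : ∀ v ∈ (⁅W, S₁⁆ : Subgroup G), v * y = y * v := fun v hv => hWe.1 v (hDW hv) y hy
    constructor
    · have h1 := H30.card_sup_zpowers hyp hcomm hyD
      have h2 : ⁅W, S₁⁆ ⊔ zpowers y ≤ ⁅W, S⁆ := sup_le hD (zpowers_le.2 hyS')
      have h3 := Nat.card_le_card_of_injective _ (Subgroup.inclusion_injective h2)
      rw [h1] at h3
      rw [pow_succ]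
      exact le_trans (Nat.mul_le_mul_right _ ih1) h3
    · intro _
      rcases Nat.eq_zero_or_pos m with rfl | hm
      · refine ⟨e, he, ⟨x, hx, hx'⟩, ?_⟩
        show p ^ 0 ≤ _
        rw [pow_zero]
        exact Nat.card_pos
      · obtain ⟨e₁, he₁, hex, hb⟩ := ih2 hm
        refine ⟨e₁, hS₁S he₁, hex, ?_⟩
        have hyD' : y ∉ (⁅W, S₁⁆ ⊓ centralizer {e₁} : Subgroup G) := fun h => hyD (Subgroup.mem_inf.1 h).1
        have h1 := H30.card_sup_zpowers hyp
          (fun v (hv : v ∈ (⁅W, S₁⁆ ⊓ centralizer {e₁} : Subgroup G)) => hcomm v (Subgroup.mem_inf.1 hv).1) hyD'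
        have h2 : (⁅W, S₁⁆ ⊓ centralizer {e₁}) ⊔ zpowers y ≤ ⁅W, S⁆ ⊓ centralizer {e₁} := by
          refine sup_le (inf_le_inf_right _ hD) (zpowers_le.2 (Subgroup.mem_inf.2 ⟨hyS', ?_⟩))
          exact mem_cent1.2 (mem_cent1.1 (Subgroup.mem_inf.1 he₁).2).symm
        have h3 := Nat.card_le_card_of_injective _ (Subgroup.inclusion_injective h2)
        rw [h1] at h3
        have h4 : m + 1 - 1 = (m - 1) + 1 := by omega
        rw [h4, pow_succ]
        exact le_trans (Nat.mul_le_mul_right _ hb) h3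

end Cfsg.Agent.H64.KM
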