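import Cfsg.Agent.H64.KM0
import Cfsg.Prelude.Def_Local
import Cfsg.Prelude.Def_LocalEven
import Cfsg.Prelude.Def_CaseTheorems
import Cfsg.Agent.Solv.Core

set_option autoImplicit false
set_option linter.style.haveILetI false
set_option linter.unusedSectionVars false

/-! The standing hypothesis of the Klinger-Mason argument and the rank bound. -/

namespace Cfsg.Agent.H64.KM

open Subgroup
open scoped commutatorElement

variable {G : Type*} [Group G]

/-- `O` has the properties of `O_q(N(T))` when `N(T)` has characteristic `q`. -/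
structure LCore (q : ℕ) (T O : Subgroup G) : Prop where
  isP : IsPGroup q O
  le : T ≤ O
  leN : O ≤ normalizer (T : Set G)
  norm : normalizer (T : Set G) ≤ normalizer (O : Set G)
  cent : ∀ x ∈ normalizer (T : Set G), (∀ y ∈ O, x * y = y * x) → x ∈ O

structure Hyp (G : Type*) [Group G] (p n : ℕ) : Prop where
  hp2 : p ≠ 2
  hn : 3 ≤ n
  core2 : ∀ T : Subgroup G, IsPGroup 2 T → T ≠ ⊥ → ∃ O : Subgroup G, LCore 2 T O
  corep : ∀ T : Subgroup G, IsPGroup p T → T ≠ ⊥ → ∃ O : Subgroup G, LCore p T O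
  hmax : ∀ X T : Subgroup G, Cfsg.IsElementaryAbelian p X → IsPGroup 2 T → T ≠ ⊥ →
    X ≤ normalizer (T : Set G) → Nat.card X ≤ p ^ n

theorem lcore_of [Finite G] {q : ℕ} [Fact q.Prime]
    (T : Subgroup G) (hT : IsPGroup q T)
    (h : centralizer (Cfsg.pCore q ↥(normalizer (T : Set G)) : Set ↥(normalizer (T : Set G))) ≤
        Cfsg.pCore q ↥(normalizer (T : Set G))) : ∃ O : Subgroup G, LCore q T O := by
  set N := normalizer (T : Set G) with hN
  have hcp : IsPGroup q (Cfsg.pCore q N) := Solv.pCore_isPGroup q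
  refine ⟨(Cfsg.pCore q N).map N.subtype, ?_, ?_, ?_, ?_, ?_⟩
  · exact hcp.map N.subtype
  · have h1 : T.subgroupOf N ≤ Cfsg.pCore q N := by
      apply Solv.le_pCore
      · exact Subgroup.normal_in_normalizer
      · exact hT.comap_of_injective N.subtype N.subtype_injective
    intro x hx
    exact ⟨⟨x, le_normalizer hx⟩, h1 hx, rfl⟩
  · exact Subgroup.map_subtype_le _
  · apply norm_of
    rintro a ha _ ⟨x, hx, rfl⟩
    exact ⟨⟨a, ha⟩ * x * ⟨a, ha⟩⁻¹, (Cfsg.pCore_normal q N).conj_mem x hx ⟨a, ha⟩, rfl⟩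
  · intro x hx hc
    refine ⟨⟨x, hx⟩, h ?_, rfl⟩
    rw [mem_centralizer_iff]
    intro y hy
    apply Subtype.ext
    exact (hc y ⟨y, hy, rfl⟩).symm

/-- the `p`-group `P_B` attached to a nontrivial elementary abelian `p`-group `B` -/
structure PB (p : ℕ) (B P : Subgroup G) : Prop where
  isP : IsPGroup p P
  le : B ≤ P
  cent : P ≤ centralizer (B : Set G)
  norm : centralizer (B : Set G) ≤ normalizer (P : Set G)
  faithful : ∀ x ∈ centralizer (B : Set G), (orderOf x).Coprime p → (∀ y ∈ P, x * y = y * x) → x = 1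

variable [Finite G] {p n : ℕ} [hpf : Fact p.Prime]

theorem mem_cent_zpowers {x y : G} (h : x * y = y * x) :
    x ∈ centralizer ((zpowers y : Subgroup G) : Set G) := by
  rw [mem_cent]
  rintro _ ⟨n, rfl⟩
  exact (Commute.zpow_right (show Commute x y from h) n).eq

theorem exists_PB (h : Hyp G p n) {B : Subgroup G} (hB : Cfsg.IsElementaryAbelian p B) (hB1 : B ≠ ⊥) :
    ∃ P : Subgroup G, PB p B P := by
  have hBp := H30.isPGroup_of_isElementaryAbelian hB
  have hBe := H30.isElementaryAbelian_iff.1 hB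
  obtain ⟨O, hO⟩ := h.corep B hBp hB1
  have hCN : centralizer (B : Set G) ≤ normalizer (B : Set G) := by
    apply norm_of
    intro a ha x hx
    rw [mem_cent.1 ha x hx, mul_inv_cancel_right]
    exact hx
  refine ⟨O ⊓ centralizer (B : Set G), hO.isP.to_le inf_le_left, ?_, inf_le_right,
    norm_inf (hCN.trans hO.norm) le_normalizer, ?_⟩
  · exact le_inf hO.le fun x hx => mem_cent.2 fun y hy => hBe.1 x hx y hy
  · intro x hx hxp hxc
    have h1 := Cop.le_centralizer_of_AxB p (P := B) (Q := zpowers x) (U := O) hBp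
      (by rw [Nat.card_zpowers]; exact hxp) hO.isP
      (fun b hb => mem_cent_zpowers (mem_cent.1 hx b hb).symm)
      (hO.le.trans le_normalizer)
      (zpowers_norm (hCN.trans hO.norm) hx)
      (fun v hv => mem_cent_zpowers (hxc v hv).symm)
    have h2 : x ∈ O := hO.cent x (hCN hx) (mem_cent.1 (h1 (mem_zpowers x)))
    obtain ⟨k, hk⟩ := hO.isP ⟨x, h2⟩
    have hk' : x ^ p ^ k = 1 := congrArg Subtype.val hk
    have h3 := orderOf_dvd_of_pow_eq_one hk'
    have h4 : orderOf x ∣ 1 := by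
      have h5 : (orderOf x).Coprime (p ^ k) := Nat.Coprime.pow_right k hxp
      have h6 := Nat.dvd_gcd (dvd_refl (orderOf x)) h3
      rwa [h5] at h6
    exact orderOf_eq_one_iff.1 (Nat.dvd_one.1 h4)

theorem Hyp.max (h : Hyp G p n) {X : Subgroup G} (hX : Cfsg.IsElementaryAbelian p X) {e : G}
    (he1 : e ≠ 1) (he2 : e ^ 2 = 1) (hc : ∀ x ∈ X, x * e = e * x) : Nat.card X ≤ p ^ n := by
  apply h.hmax X (zpowers e) hX
    (H30.isPGroup_of_isElementaryAbelian (H30.isElementaryAbelian_zpowers he2))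
  · rwa [Ne, zpowers_eq_bot]
  · apply norm_of
    intro a ha x hx
    rw [mem_cent.1 (mem_cent_zpowers (hc a ha)) x hx, mul_inv_cancel_right]
    exact hx

theorem relAct_of_elem {E P : Subgroup G} (hE : Cfsg.IsElementaryAbelian 2 E)
    (hN : E ≤ normalizer (P : Set G)) : RelAct E P := by
  have hEe := H30.isElementaryAbelian_iff.1 hE
  refine ⟨hN, H30.isPGroup_of_isElementaryAbelian hE, ?_, ?_⟩
  · intro s hs t ht x _
    rw [hEe.1 s hs t ht]
  · intro s hs x _
    calc s * (s * x * s⁻¹) * s⁻¹ = s ^ 2 * x * (s ^ 2)⁻¹ := by rw [pow_two]; group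
      _ = x := by rw [hEe.2 s hs]; group

theorem orderOf_coprime_of_sq (hp2 : p ≠ 2) {e : G} (he : e ^ 2 = 1) : (orderOf e).Coprime p :=
  Nat.Coprime.coprime_dvd_left (orderOf_dvd_of_pow_eq_one he) (coprime_two hp2)

theorem eq_one_of_pgroups (hp2 : p ≠ 2) {A B : Subgroup G} (hA : IsPGroup 2 A) (hB : IsPGroup p B)
    {x : G} (h1 : x ∈ A) (h2 : x ∈ B) : x = 1 := by
  haveI : Fact (Nat.Prime 2) := ⟨Nat.prime_two⟩
  exact Cop.eq_one_of_mem_of_mem (card_coprime (coprime_two hp2) hA hB) h1 h2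

/-- The rank bound RB. -/
theorem rb (h : Hyp G p n) {B E : Subgroup G} (hB : Cfsg.IsElementaryAbelian p B) (hB1 : B ≠ ⊥)
    (hE : Cfsg.IsElementaryAbelian 2 E) (hBE : ∀ b ∈ B, ∀ e ∈ E, b * e = e * b) {m : ℕ} (hm : 1 ≤ m)
    (hc : 2 ^ m ≤ Nat.card E) : Nat.card B * p ^ (m - 1) ≤ p ^ n := by
  have hp2 := h.hp2
  have hEe := H30.isElementaryAbelian_iff.1 hE
  obtain ⟨P, hP⟩ := exists_PB h hB hB1
  have hEC : E ≤ centralizer (B : Set G) := fun e he => mem_cent.2 fun b hb => (hBE b hb e he).symm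
  have hR := relAct_of_elem hE (hEC.trans hP.norm)
  obtain ⟨W, hWP, hW, hEW, hWf⟩ := exists_elem hp2 _ rfl hR hP.isP
  have hR' : RelAct E W := hR.sub hWP hEW
  have hinf : E ⊓ centralizer (W : Set G) = ⊥ := by
    rw [eq_bot_iff]
    intro e he0
    obtain ⟨he, he'⟩ := Subgroup.mem_inf.1 he0
    rw [Subgroup.mem_bot]
    exact hP.faithful e (hEC he) (orderOf_coprime_of_sq hp2 (hEe.2 e he))
      (hWf e he (mem_cent.1 he'))
  obtain ⟨e, he, ⟨x, hx, hex⟩, hcard⟩ := (rank_bound hp2 hW m hR' (by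
    rw [hinf, Subgroup.card_bot, mul_one]; exact hc)).2 hm
  have he1 : e ≠ 1 := by
    rintro rfl
    exact hex (by rw [one_mul, mul_one])
  haveI : IsMulCommutative W := hW.1
  haveI : Fact (Nat.Prime 2) := ⟨Nat.prime_two⟩
  have hdec := (H91.abelian_decomp E W hEW (card_coprime (coprime_two hp2) hR.two
    (H30.isPGroup_of_isElementaryAbelian hW))).1
  have hDW : ⁅W, E⁆ ≤ W := le_normalizer_iff_commutator_le_left.1 hEW
  set V := (⁅W, E⁆ ⊓ centralizer {e} : Subgroup G) with hV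
  have hVW : V ≤ W := inf_le_left.trans hDW
  have hcomm : ∀ b ∈ B, ∀ v ∈ V, b * v = v * b := fun b hb v hv =>
    (mem_cent.1 (hP.cent (hWP (hVW hv))) b hb).symm
  have hd : B ⊓ V = ⊥ := by
    rw [eq_bot_iff, ← hdec]
    intro x hx0
    obtain ⟨hx, hx'⟩ := Subgroup.mem_inf.1 hx0
    refine Subgroup.mem_inf.2 ⟨Subgroup.mem_inf.2 ⟨hVW hx', mem_cent.2 fun e he => hBE x hx e he⟩,
      (Subgroup.mem_inf.1 hx').1⟩
  have h1 := H30.card_sup_of_commute hcomm hd
  have h2 := H30.isElementaryAbelian_sup hB (H30.IsElementaryAbelian.mono hW hVW) hcomm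
  have h3 := h.max h2 he1 (hEe.2 e he) (by
    intro y hy
    obtain ⟨b, hb, v, hv, rfl⟩ := (H30.mem_sup_of_commute hcomm).1 hy
    rw [mul_assoc, mem_cent1.1 (Subgroup.mem_inf.1 hv).2, ← mul_assoc, hBE b hb e he, mul_assoc])
  rw [h1] at h3
  exact le_trans (Nat.mul_le_mul_left _ hcard) h3

end Cfsg.Agent.H64.KM
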