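import Cfsg.Agent.H64.KM1

set_option autoImplicit false
set_option linter.style.haveILetI false
set_option linter.unusedSectionVars false

/-! Klinger-Mason: step 1, a maximal elementary abelian `p`-subgroup is centralized by an involution. -/

namespace Cfsg.Agent.H64.KM

open Subgroup
open scoped commutatorElement

variable {G : Type*} [Group G]

/-- `Ω₁(Z(P))`. -/
def omZ (q : ℕ) (P : Subgroup G) : Subgroup G where
  carrier := {x | x ∈ P ∧ (∀ y ∈ P, x * y = y * x) ∧ x ^ q = 1}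
  one_mem' := ⟨P.one_mem, fun y _ => by rw [one_mul, mul_one], one_pow _⟩
  mul_mem' := by
    rintro a b ⟨ha, ha1, ha2⟩ ⟨hb, hb1, hb2⟩
    refine ⟨P.mul_mem ha hb, ?_, ?_⟩
    · intro y hy
      rw [mul_assoc, hb1 y hy, ← mul_assoc, ha1 y hy, mul_assoc]
    · have : Commute a b := ha1 b hb
      rw [this.mul_pow, ha2, hb2, mul_one]
  inv_mem' := by
    rintro a ⟨ha, ha1, ha2⟩
    refine ⟨P.inv_mem ha, ?_, ?_⟩
    · intro y hy
      have : Commute a y := ha1 y hy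
      exact this.inv_left.eq
    · rw [inv_pow, ha2, inv_one]

theorem mem_omZ {q : ℕ} {P : Subgroup G} {x : G} :
    x ∈ omZ q P ↔ x ∈ P ∧ (∀ y ∈ P, x * y = y * x) ∧ x ^ q = 1 := Iff.rfl

theorem omZ_le {q : ℕ} {P : Subgroup G} : omZ q P ≤ P := fun _ h => h.1

theorem omZ_elem {q : ℕ} {P : Subgroup G} : Cfsg.IsElementaryAbelian q (omZ q P) :=
  H30.isElementaryAbelian_iff.2 ⟨fun _ ha _ hb => ha.2.1 _ hb.1, fun _ ha => ha.2.2⟩

theorem omZ_norm {q : ℕ} {A P : Subgroup G} (h : A ≤ normalizer (P : Set G)) :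
    A ≤ normalizer ((omZ q P : Subgroup G) : Set G) := by
  apply norm_of
  rintro s hs x ⟨hx, hx1, hx2⟩
  refine ⟨norm_mem h hs hx, ?_, ?_⟩
  · intro y hy
    have h1 : s⁻¹ * y * s⁻¹⁻¹ ∈ P := norm_mem h (A.inv_mem hs) hy
    have h2 := hx1 _ h1
    calc s * x * s⁻¹ * y = s * (x * (s⁻¹ * y * s⁻¹⁻¹)) * s⁻¹ := by group
      _ = s * ((s⁻¹ * y * s⁻¹⁻¹) * x) * s⁻¹ := by rw [h2]
      _ = y * (s * x * s⁻¹) := by group
  · rw [conj_pow, hx2, mul_one, mul_inv_cancel]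

variable [Finite G]

theorem exists_pow_order {q : ℕ} [Fact q.Prime] {D : Subgroup G} (hD : IsPGroup q D) {x : G}
    (hx : x ∈ D) (hx1 : x ≠ 1) : ∃ k : ℕ, x ^ k ≠ 1 ∧ (x ^ k) ^ q = 1 := by
  obtain ⟨k, hk⟩ := hD ⟨x, hx⟩
  have hk' : x ^ q ^ k = 1 := congrArg Subtype.val hk
  classical
  have hex : ∃ k, x ^ q ^ k = 1 := ⟨k, hk'⟩
  have h0 : Nat.find hex ≠ 0 := by
    intro h0
    have := Nat.find_spec hex
    rw [h0, pow_zero, pow_one] at this
    exact hx1 this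
  obtain ⟨j, hj⟩ := Nat.exists_eq_succ_of_ne_zero h0
  refine ⟨q ^ j, Nat.find_min hex (by omega), ?_⟩
  have := Nat.find_spec hex
  rw [hj] at this
  rw [← pow_mul, ← pow_succ]
  exact this

/-- Fixed points of a `q`-group acting by conjugation. -/
theorem card_fixed_modEq {q : ℕ} [Fact q.Prime] {P N : Subgroup G} (hP : IsPGroup q P)
    (hPN : P ≤ normalizer (N : Set G)) :
    Nat.card N ≡ Nat.card (N ⊓ centralizer (P : Set G) : Subgroup G) [MOD q] := by
  let f : P →* MulAut N := (Subgroup.normalizerMonoidHom N).comp (Subgroup.inclusion hPN)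
  letI : MulAction P N := MulAction.compHom N f
  have hsm : ∀ (a : P) (x : N), ((a • x : N) : G) = a * x * (a : G)⁻¹ := fun a x => rfl
  have h1 := hP.card_modEq_card_fixedPoints N
  have h2 : Nat.card (MulAction.fixedPoints P N) = Nat.card (N ⊓ centralizer (P : Set G) : Subgroup G) := by
    apply Nat.card_congr
    refine ⟨fun x => ⟨(x : N), Subgroup.mem_inf.2 ⟨(x : N).2, mem_cent.2 ?_⟩⟩,
      fun x => ⟨⟨x, (Subgroup.mem_inf.1 x.2).1⟩, ?_⟩, ?_, ?_⟩
    · intro a ha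
      have := congrArg Subtype.val (x.2 ⟨a, ha⟩)
      rw [hsm] at this
      exact (conj_eq_iff.1 this).symm
    · intro a
      apply Subtype.ext
      rw [hsm]
      exact conj_eq_iff.2 (mem_cent.1 (Subgroup.mem_inf.1 x.2).2 a a.2).symm
    · intro x; rfl
    · intro x; rfl
  rw [h2] at h1
  exact h1

theorem inf_cent_ne_bot {q : ℕ} [hq : Fact q.Prime] {P N : Subgroup G} (hP : IsPGroup q P)
    (hN : IsPGroup q N) (hPN : P ≤ normalizer (N : Set G)) (hN1 : N ≠ ⊥) :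
    N ⊓ centralizer (P : Set G) ≠ ⊥ := by
  intro h0
  have h1 := card_fixed_modEq hP hPN
  rw [h0, Subgroup.card_bot] at h1
  obtain ⟨k, hk⟩ := IsPGroup.iff_card.1 hN
  have hk0 : k ≠ 0 := by
    rintro rfl
    rw [pow_zero, Subgroup.card_eq_one] at hk
    exact hN1 hk
  rw [hk] at h1
  have h2 : q ∣ q ^ k := dvd_pow_self q hk0
  have h3 : 1 % q = 0 := by
    rw [← h1]
    exact Nat.mod_eq_zero_of_dvd h2
  rw [Nat.mod_eq_of_lt hq.out.one_lt] at h3
  exact one_ne_zero h3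

theorem omZ_ne_bot {q : ℕ} [hq : Fact q.Prime] {P : Subgroup G} (hP : IsPGroup q P) (h1 : P ≠ ⊥) :
    omZ q P ≠ ⊥ := by
  have h2 := inf_cent_ne_bot hP hP le_normalizer h1
  obtain ⟨x, hx⟩ := (Subgroup.ne_bot_iff_exists_ne_one).1 h2
  have hx' := Subgroup.mem_inf.1 x.2
  have hx0 : (x : G) ≠ 1 := fun h => hx (Subtype.ext h)
  obtain ⟨k, hk1, hk2⟩ := exists_pow_order hP hx'.1 hx0
  intro h3
  apply hk1
  rw [← Subgroup.mem_bot, ← h3]
  refine ⟨P.pow_mem hx'.1 k, ?_, hk2⟩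
  intro y hy
  exact (Commute.pow_left (show Commute (x : G) y from mem_cent.1 hx'.2 y hy) k).eq

/-- Minimal invariant subgroups. -/
theorem exists_min {q : ℕ} [hq : Fact q.Prime] {A U : Subgroup G} (hU : IsPGroup q U) (hU1 : U ≠ ⊥)
    (hA : A ≤ normalizer (U : Set G)) :
    ∃ D ≤ U, D ≠ ⊥ ∧ A ≤ normalizer (D : Set G) ∧ Cfsg.IsElementaryAbelian q D ∧
      ∀ D' ≤ D, D' ≠ ⊥ → A ≤ normalizer (D' : Set G) → D' = D := by
  have hfin : Finite (Subgroup G) := inferInstance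
  obtain ⟨D, hD1, hD2⟩ := Set.Finite.exists_minimal
    (s := {D : Subgroup G | D ≤ U ∧ D ≠ ⊥ ∧ A ≤ normalizer (D : Set G)}) (Set.toFinite _)
    ⟨U, le_rfl, hU1, hA⟩
  obtain ⟨hDU, hDne, hAD⟩ := hD1
  have hmin : ∀ D' ≤ D, D' ≠ ⊥ → A ≤ normalizer (D' : Set G) → D' = D := fun D' h1 h2 h3 =>
    le_antisymm h1 (hD2 ⟨h1.trans hDU, h2, h3⟩ h1)
  have hDp : IsPGroup q D := hU.to_le hDU
  refine ⟨D, hDU, hDne, hAD, ?_, hmin⟩
  have h1 := hmin (omZ q D) omZ_le (omZ_ne_bot hDp hDne) (omZ_norm hAD)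
  rw [← h1]
  exact omZ_elem

theorem four_le {A D : Subgroup G} (hD : IsPGroup 2 D) (hD1 : D ≠ ⊥)
    (hN : A ≤ normalizer (D : Set G)) (hC : D ⊓ centralizer (A : Set G) = ⊥) : 4 ≤ Nat.card D := by
  haveI : Fact (Nat.Prime 2) := ⟨Nat.prime_two⟩
  obtain ⟨k, hk⟩ := IsPGroup.iff_card.1 hD
  rcases Nat.lt_or_ge k 2 with hk2 | hk2
  · exfalso
    interval_cases k
    · rw [pow_zero, Subgroup.card_eq_one] at hk
      exact hD1 hk
    · rw [pow_one] at hk
      obtain ⟨x, hx1⟩ := (Subgroup.ne_bot_iff_exists_ne_one).1 hD1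
      have hx0 : (x : G) ≠ 1 := fun h => hx1 (Subtype.ext h)
      have hall : ∀ y ∈ D, y = 1 ∨ y = x := by
        intro y hy
        by_contra hcon
        push Not at hcon
        have h3 : ({1, (x : G), y} : Set G).ncard = 3 := by
          rw [Set.ncard_eq_three]
          exact ⟨1, x, y, hx0.symm, hcon.1.symm, hcon.2.symm, rfl⟩
        have h4 : ({1, (x : G), y} : Set G) ⊆ D := by
          rintro a (rfl | rfl | rfl)
          · exact D.one_mem
          · exact x.2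
          · exact hy
        have h5 := Set.ncard_le_ncard h4 (Set.toFinite _)
        have h6 : (D : Set G).ncard = 2 := hk
        omega
      have h7 : (x : G) ∈ D ⊓ centralizer (A : Set G) := by
        refine Subgroup.mem_inf.2 ⟨x.2, mem_cent.2 ?_⟩
        intro a ha
        rcases hall _ (norm_mem hN ha x.2) with h | h
        · exfalso
          apply hx0
          have h8 : (x : G) = a⁻¹ * (a * x * a⁻¹) * a := by group
          rw [h8, h]; group
        · exact (conj_eq_iff.1 h).symm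
      rw [hC, Subgroup.mem_bot] at h7
      exact hx0 h7
  · rw [hk]
    calc 4 = 2 ^ 2 := rfl
      _ ≤ 2 ^ k := Nat.pow_le_pow_right (by norm_num) hk2

theorem card_sup_mul_inf {H K : Subgroup G} (h : H ≤ normalizer (K : Set G)) :
    Nat.card ↥(H ⊔ K) * Nat.card ↥(H ⊓ K) = Nat.card H * Nat.card K := by
  have h1 : Nat.card K * K.relIndex (H ⊔ K) = Nat.card ↥(H ⊔ K) := by
    have := Subgroup.relIndex_mul_relIndex ⊥ K (H ⊔ K) bot_le le_sup_right
    rwa [Subgroup.relIndex_bot_left, Subgroup.relIndex_bot_left] at this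
  have h2 : Nat.card ↥(H ⊓ K) * (H ⊓ K).relIndex H = Nat.card H := by
    have := Subgroup.relIndex_mul_relIndex ⊥ (H ⊓ K) H bot_le inf_le_left
    rwa [Subgroup.relIndex_bot_left, Subgroup.relIndex_bot_left] at this
  rw [Cop.relIndex_sup_eq h] at h1
  rw [Subgroup.inf_relIndex_left] at h2
  rw [← h1, ← h2]
  ring

/-- hyperplanes -/
structure HP (p : ℕ) (A B : Subgroup G) : Prop where
  le : B ≤ A
  card : Nat.card B * p = Nat.card A

variable {p n : ℕ} [hpf : Fact p.Prime]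

theorem comm_norm {A X Y : Subgroup G} (hA : Cfsg.IsElementaryAbelian p A) (hX : X ≤ A) (hY : Y ≤ A) :
    X ≤ normalizer (Y : Set G) := by
  apply norm_of
  intro a ha x hx
  rw [(H30.isElementaryAbelian_iff.1 hA).1 a (hX ha) x (hY hx), mul_inv_cancel_right]
  exact hx

theorem hp_of_cycQuot {A B : Subgroup G} (hA : Cfsg.IsElementaryAbelian p A)
    (hB : B ∈ Cop.cycQuot A) (hne : B ≠ A) : HP p A B := by
  obtain ⟨hBA, a, ha, hsup⟩ := hB
  refine ⟨hBA, ?_⟩
  have hAe := H30.isElementaryAbelian_iff.1 hA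
  rw [← hsup, H30.card_sup_zpowers (hAe.2 a ha) (fun v hv => hAe.1 v (hBA hv) a ha)]
  intro h
  apply hne
  rw [← hsup]
  exact (sup_eq_left.2 (zpowers_le.2 h)).symm

theorem HP.ne {A B : Subgroup G} (h : HP p A B) : B ≠ A := by
  rintro rfl
  have h1 := h.card
  have h2 : 0 < Nat.card B := Nat.card_pos
  have h3 := hpf.out.one_lt
  nlinarith

theorem HP.eq_or_eq {A B X : Subgroup G} (h : HP p A B) (h1 : B ≤ X) (h2 : X ≤ A) : X = B ∨ X = A := by
  have d1 := Subgroup.card_dvd_of_le h1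
  have d2 := Subgroup.card_dvd_of_le h2
  obtain ⟨c, hc⟩ := d1
  have hB0 : 0 < Nat.card B := Nat.card_pos
  rw [hc, ← h.card] at d2
  have d3 := Nat.dvd_of_mul_dvd_mul_left hB0 d2
  rcases (Nat.dvd_prime hpf.out).1 d3 with rfl | rfl
  · left
    rw [mul_one] at hc
    exact (Subgroup.eq_of_le_of_card_ge h1 hc.le).symm
  · right
    rw [h.card] at hc
    exact Subgroup.eq_of_le_of_card_ge h2 hc.symm.le

theorem HP.sup {A B B' : Subgroup G} (h : HP p A B) (h' : HP p A B') (hne : B ≠ B') : B ⊔ B' = A := by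
  rcases h.eq_or_eq le_sup_left (sup_le h.le h'.le) with h1 | h1
  · exfalso
    apply hne
    rw [sup_eq_left] at h1
    have h2 : Nat.card B = Nat.card B' :=
      Nat.eq_of_mul_eq_mul_right hpf.out.pos (h.card.trans h'.card.symm)
    exact (Subgroup.eq_of_le_of_card_ge h1 h2.le).symm
  · exact h1

theorem HP.inf {A B B' : Subgroup G} (hA : Cfsg.IsElementaryAbelian p A) (h : HP p A B)
    (h' : HP p A B') (hne : B ≠ B') : Nat.card (B ⊓ B' : Subgroup G) * p = Nat.card B := by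
  have h1 := card_sup_mul_inf (comm_norm hA h.le h'.le)
  rw [h.sup h' hne, ← h'.card] at h1
  have h2 : 0 < Nat.card B' := Nat.card_pos
  have h3 : Nat.card B' * (Nat.card (B ⊓ B' : Subgroup G) * p) = Nat.card B' * Nat.card B := by
    rw [mul_comm (Nat.card B') (Nat.card B), ← h1]; ring
  exact Nat.eq_of_mul_eq_mul_left h2 h3

/-- elements centralized by `B` and `B'` -/
theorem cent_sup {A B B' : Subgroup G} (hs : B ⊔ B' = A) {x : G} (h1 : x ∈ centralizer (B : Set G))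
    (h2 : x ∈ centralizer (B' : Set G)) : x ∈ centralizer (A : Set G) := by
  have h3 : B ⊔ B' ≤ centralizer ({x} : Set G) := by
    refine sup_le ?_ ?_
    · intro b hb; exact mem_cent1.2 (mem_cent.1 h1 b hb).symm
    · intro b hb; exact mem_cent1.2 (mem_cent.1 h2 b hb).symm
  rw [hs] at h3
  exact mem_cent.2 fun a ha => (mem_cent1.1 (h3 ha)).symm

theorem two_fact : Fact (Nat.Prime 2) := ⟨Nat.prime_two⟩

/-- generation by the centralizers of hyperplanes -/
theorem gen_hyp {A T X : Subgroup G} (hp2 : p ≠ 2) (hA : Cfsg.IsElementaryAbelian p A) (hT : IsPGroup 2 T)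
    (hAT : A ≤ normalizer (T : Set G)) (h1 : T ⊓ centralizer (A : Set G) ≤ X)
    (h2 : ∀ B, HP p A B → T ⊓ centralizer (B : Set G) ≤ X) : T ≤ X := by
  haveI := two_fact
  have h3 := Cop.le_genT hA.1 _ T rfl hAT
    (card_coprime (coprime_two hp2) hT (H30.isPGroup_of_isElementaryAbelian hA)).symm
  refine h3.trans (iSup₂_le ?_)
  intro B hB
  by_cases hBA : B = A
  · rw [hBA]; exact h1
  · exact h2 B (hp_of_cycQuot hA hB hBA)

theorem norm_cent_sub {A B : Subgroup G} (hA : Cfsg.IsElementaryAbelian p A) (hB : B ≤ A) :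
    A ≤ normalizer ((centralizer (B : Set G) : Subgroup G) : Set G) := by
  have hAe := H30.isElementaryAbelian_iff.1 hA
  exact norm_cent_of_comm fun a ha x hx => hAe.1 a ha x (hB hx)

/-- Step 1. -/
theorem exists_invol (h : Hyp G p n) {A T₀ : Subgroup G} (hA : Cfsg.IsElementaryAbelian p A)
    (hAc : Nat.card A = p ^ n) (hT₀ : IsPGroup 2 T₀) (hT₀1 : T₀ ≠ ⊥)
    (hAT₀ : A ≤ normalizer (T₀ : Set G)) : ∃ z : G, z ≠ 1 ∧ z ^ 2 = 1 ∧ ∀ a ∈ A, a * z = z * a := by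
  haveI := two_fact
  by_contra hno
  push Not at hno
  have hp2 := h.hp2
  have hn3 := h.hn
  have hp1 := hpf.out.one_lt
  have hAe := H30.isElementaryAbelian_iff.1 hA
  have hAp := H30.isPGroup_of_isElementaryAbelian hA
  have hno' : ∀ D : Subgroup G, IsPGroup 2 D → D ⊓ centralizer (A : Set G) = ⊥ := by
    intro D hD
    rw [eq_bot_iff]
    intro x hx
    rw [Subgroup.mem_bot]
    by_contra hx1
    obtain ⟨hxD, hxA⟩ := Subgroup.mem_inf.1 hx
    obtain ⟨k, hk1, hk2⟩ := exists_pow_order hD hxD hx1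
    obtain ⟨a, ha, ha'⟩ := hno (x ^ k) hk1 hk2
    exact ha' (Commute.pow_left (show Commute x a from mem_cent.1 hxA a ha) k).eq.symm
  obtain ⟨T, hT⟩ := h.core2 T₀ hT₀ hT₀1
  have hAT := hAT₀.trans hT.norm
  have hT1 : T ≠ ⊥ := fun h1 => hT₀1 (by rw [eq_bot_iff, ← h1]; exact hT.le)
  obtain ⟨B₁, hB₁, hne₁⟩ : ∃ B₁, HP p A B₁ ∧ T ⊓ centralizer (B₁ : Set G) ≠ ⊥ := by
    by_contra hcon
    push Not at hcon
    apply hT1
    rw [eq_bot_iff]
    exact gen_hyp hp2 hA hT.isP hAT (hno' T hT.isP).le (fun B hB => (hcon B hB).le)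
  obtain ⟨D₁, hD₁U, hD₁1, hAD₁, hD₁e, hD₁min⟩ := exists_min (A := A) (hT.isP.to_le inf_le_left) hne₁
    (norm_inf hAT (norm_cent_sub hA hB₁.le))
  have hD₁2 := H30.isPGroup_of_isElementaryAbelian hD₁e
  obtain ⟨T', hT'⟩ := h.core2 D₁ hD₁2 hD₁1
  have hAT' := hAD₁.trans hT'.norm
  have hD₁C : D₁ ≤ centralizer (T' : Set G) := by
    have h1 := hD₁min (D₁ ⊓ centralizer (T' : Set G)) inf_le_left
      (inf_cent_ne_bot hT'.isP hD₁2 hT'.leN hD₁1) (norm_inf hAD₁ (norm_cent hAT'))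
    rw [← h1]
    exact inf_le_right
  have hB₁c : 1 < Nat.card B₁ := by
    have h1 := hB₁.card
    rw [hAc] at h1
    by_contra h2
    have h3 : Nat.card B₁ = 1 := by
      have : 0 < Nat.card B₁ := Nat.card_pos
      omega
    rw [h3, one_mul] at h1
    have h4 : p ^ 1 < p ^ n := Nat.pow_lt_pow_right hp1 (by omega)
    rw [pow_one] at h4
    omega
  obtain ⟨B₂, hB₂, hne₂⟩ : ∃ B₂, HP p A B₂ ∧
      ¬ (T' ⊓ centralizer (B₂ : Set G) ≤ centralizer (B₁ : Set G)) := by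
    by_contra hcon
    push Not at hcon
    have h1 : T' ≤ centralizer (B₁ : Set G) :=
      gen_hyp hp2 hA hT'.isP hAT' ((hno' T' hT'.isP).le.trans bot_le) (fun B hB => hcon B hB)
    haveI : Nontrivial B₁ := (Finite.one_lt_card_iff_nontrivial).1 hB₁c
    obtain ⟨b, hb⟩ := exists_ne (1 : B₁)
    apply hb
    apply Subtype.ext
    have hbN : (b : G) ∈ normalizer (D₁ : Set G) := hAD₁ (hB₁.le b.2)
    have h2 := hT'.cent b hbN (fun y hy => (mem_cent.1 (h1 hy) b b.2).symm)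
    exact eq_one_of_pgroups hp2 hT'.isP hAp h2 (hB₁.le b.2)
  have hU1 : T' ⊓ centralizer (B₂ : Set G) ≠ ⊥ := fun h1 => hne₂ (by rw [h1]; exact bot_le)
  obtain ⟨D₂, hD₂U, hD₂1, hAD₂, hD₂e, -⟩ := exists_min (A := A) (hT'.isP.to_le inf_le_left) hU1
    (norm_inf hAT' (norm_cent_sub hA hB₂.le))
  have hD₂2 := H30.isPGroup_of_isElementaryAbelian hD₂e
  have hB₁₂ : B₁ ≠ B₂ := by
    rintro rfl
    exact hne₂ inf_le_right
  have hcomm : ∀ x ∈ D₁, ∀ y ∈ D₂, x * y = y * x := fun x hx y hy =>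
    mem_cent.1 (hD₁C hx) y (Subgroup.mem_inf.1 (hD₂U hy)).1
  have hd : D₁ ⊓ D₂ = ⊥ := by
    rw [eq_bot_iff, ← hno' D₁ hD₁2]
    intro x hx
    obtain ⟨h1, h2⟩ := Subgroup.mem_inf.1 hx
    exact Subgroup.mem_inf.2 ⟨h1, cent_sup (hB₁.sup hB₂ hB₁₂) (Subgroup.mem_inf.1 (hD₁U h1)).2
      (Subgroup.mem_inf.1 (hD₂U h2)).2⟩
  have hc1 := four_le hD₁2 hD₁1 hAD₁ (hno' D₁ hD₁2)
  have hc2 := four_le hD₂2 hD₂1 hAD₂ (hno' D₂ hD₂2)
  have hE := H30.isElementaryAbelian_sup hD₁e hD₂e hcomm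
  have hEc := H30.card_sup_of_commute hcomm hd
  have hHc := HP.inf hA hB₁ hB₂ hB₁₂
  have hH : Cfsg.IsElementaryAbelian p (B₁ ⊓ B₂ : Subgroup G) :=
    H30.IsElementaryAbelian.mono hA (inf_le_left.trans hB₁.le)
  have hcard : Nat.card (B₁ ⊓ B₂ : Subgroup G) * p * p = p ^ n := by
    rw [hHc, hB₁.card, hAc]
  have hH1 : (B₁ ⊓ B₂ : Subgroup G) ≠ ⊥ := by
    intro h1
    rw [h1, Subgroup.card_bot, one_mul, ← pow_two] at hcard
    have := Nat.pow_right_injective hp1 hcard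
    omega
  have h5 := rb h hH hH1 hE (by
    intro b hb e he
    obtain ⟨hb1, hb2⟩ := Subgroup.mem_inf.1 hb
    obtain ⟨x, hx, y, hy, rfl⟩ := (H30.mem_sup_of_commute hcomm).1 he
    have h6 : x * b = b * x := mem_cent.1 (Subgroup.mem_inf.1 (hD₁U hx)).2 b hb1
    have h7 : y * b = b * y := mem_cent.1 (Subgroup.mem_inf.1 (hD₂U hy)).2 b hb2
    rw [← mul_assoc, ← h6, mul_assoc, ← h7, mul_assoc]) (m := 4) (by norm_num) (by
      rw [hEc]
      nlinarith)
  have h6 : 0 < Nat.card (B₁ ⊓ B₂ : Subgroup G) := Nat.card_pos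
  rw [← hcard] at h5
  have h7 : p ^ (4 - 1) ≤ p * p := by
    apply Nat.le_of_mul_le_mul_left _ h6
    calc _ ≤ _ := h5
      _ = _ := by ring
  rw [← pow_two] at h7
  have := (Nat.pow_le_pow_iff_right hp1).1 h7
  omega

end Cfsg.Agent.H64.KM
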