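import Cfsg.Agent.H64.KM2
import Cfsg.Agent.Solv.Frattini

set_option autoImplicit false
set_option linter.style.haveILetI false
set_option linter.unusedSectionVars false

/-! Klinger-Mason: pairs `(A, z)`; `[O_2(C(z)), A]` is extraspecial. -/

namespace Cfsg.Agent.H64.KM

open Subgroup
open scoped commutatorElement

variable {G : Type*} [Group G]

/-- `T = O₂(C_G(z))` -/
structure O2C (z : G) (T : Subgroup G) : Prop where
  isP : IsPGroup 2 T
  mem : z ∈ T
  cz : ∀ x ∈ T, x * z = z * x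
  norm : ∀ x : G, x * z = z * x → x ∈ normalizer (T : Set G)
  cent : ∀ x : G, x * z = z * x → (∀ y ∈ T, x * y = y * x) → x ∈ T

theorem mem_zpowers_sq {z g : G} (hz : z ^ 2 = 1) : g ∈ zpowers z ↔ g = 1 ∨ g = z := by
  constructor
  · rintro ⟨m, rfl⟩
    have hz' : z ^ (2 : ℤ) = 1 := by exact_mod_cast hz
    rcases Int.even_or_odd' m with ⟨k, rfl | rfl⟩
    · left
      show z ^ (2 * k) = 1
      rw [zpow_mul, hz', one_zpow]
    · right
      show z ^ (2 * k + 1) = z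
      rw [zpow_add, zpow_mul, zpow_one, hz', one_zpow, one_mul]
  · rintro (rfl | rfl)
    · exact one_mem _
    · exact mem_zpowers _

theorem exists_O2C {p n : ℕ} (h : Hyp G p n) {z : G} (hz1 : z ≠ 1) (hz2 : z ^ 2 = 1) :
    ∃ T : Subgroup G, O2C z T := by
  have hzp : IsPGroup 2 (zpowers z) :=
    H30.isPGroup_of_isElementaryAbelian (H30.isElementaryAbelian_zpowers hz2)
  obtain ⟨T, hT⟩ := h.core2 (zpowers z) hzp (by rwa [Ne, zpowers_eq_bot])
  have h1 : ∀ x : G, x ∈ normalizer ((zpowers z : Subgroup G) : Set G) → x * z = z * x := by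
    intro x hx
    have h2 := norm_mem' hx (mem_zpowers z)
    rcases (mem_zpowers_sq hz2).1 h2 with h3 | h3
    · exfalso; apply hz1
      calc z = x⁻¹ * (x * z * x⁻¹) * x := by group
        _ = 1 := by rw [h3]; group
    · exact conj_eq_iff.1 h3
  have h2 : ∀ x : G, x * z = z * x → x ∈ normalizer ((zpowers z : Subgroup G) : Set G) := by
    intro x hx
    have h3 : zpowers x ≤ normalizer ((zpowers z : Subgroup G) : Set G) := by
      apply norm_of
      rintro _ ⟨a, rfl⟩ _ ⟨b, rfl⟩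
      have h4 : Commute (x ^ a) (z ^ b) := (show Commute x z from hx).zpow_zpow a b
      show x ^ a * z ^ b * (x ^ a)⁻¹ ∈ zpowers z
      rw [h4.eq, mul_inv_cancel_right]
      exact ⟨b, rfl⟩
    exact h3 (mem_zpowers x)
  exact ⟨T, hT.isP, hT.le (mem_zpowers z), fun x hx => h1 x (hT.leN hx),
    fun x hx => hT.norm (h2 x hx), fun x hx hc => hT.cent x (h2 x hx) hc⟩

theorem comm_sup {H K : Subgroup G} (hH : ∀ a ∈ H, ∀ b ∈ H, a * b = b * a)
    (hK : ∀ a ∈ K, ∀ b ∈ K, a * b = b * a) (hc : ∀ h ∈ H, ∀ k ∈ K, h * k = k * h) :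
    ∀ a ∈ H ⊔ K, ∀ b ∈ H ⊔ K, a * b = b * a := by
  have h1 : H ⊔ K ≤ centralizer (H : Set G) := by
    refine sup_le ?_ ?_
    · intro a ha; exact mem_cent.2 fun b hb => hH a ha b hb
    · intro a ha; exact mem_cent.2 fun b hb => (hc b hb a ha).symm
  have h2 : H ⊔ K ≤ centralizer (K : Set G) := by
    refine sup_le ?_ ?_
    · intro a ha; exact mem_cent.2 fun b hb => hc a ha b hb
    · intro a ha; exact mem_cent.2 fun b hb => hK a ha b hb
  intro a ha b hb
  have h3 : H ⊔ K ≤ centralizer ({a} : Set G) := by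
    refine sup_le ?_ ?_
    · intro b hb; exact mem_cent1.2 (mem_cent.1 (h1 ha) b hb).symm
    · intro b hb; exact mem_cent1.2 (mem_cent.1 (h2 ha) b hb).symm
  exact (mem_cent1.1 (h3 hb)).symm

/-- elementary abelian groups of order 8 -/
theorem exists_elem8 {x y w : G} (hx2 : x ^ 2 = 1) (hy2 : y ^ 2 = 1) (hw2 : w ^ 2 = 1)
    (hxy : x * y = y * x) (hxw : x * w = w * x) (hyw : y * w = w * y) (hx : x ≠ 1) (hy : y ≠ 1)
    (hy' : y ≠ x) (hw : w ≠ 1) (hw1 : w ≠ x) (hw3 : w ≠ y) (hw4 : w ≠ x * y) :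
    ∃ E : Subgroup G, Cfsg.IsElementaryAbelian 2 E ∧ Nat.card E = 8 ∧ x ∈ E ∧ y ∈ E ∧ w ∈ E ∧
      ∀ K : Subgroup G, x ∈ K → y ∈ K → w ∈ K → E ≤ K := by
  haveI := two_fact
  have e1 := H30.isElementaryAbelian_zpowers hx2
  have c1 : ∀ v ∈ zpowers x, v * y = y * v := by
    intro v hv
    rcases (mem_zpowers_sq hx2).1 hv with rfl | rfl
    · rw [one_mul, mul_one]
    · exact hxy
  have e2 := H30.isElementaryAbelian_sup_zpowers e1 hy2 c1
  have n1 : y ∉ zpowers x := by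
    rw [mem_zpowers_sq hx2]; push Not; exact ⟨hy, hy'⟩
  have k1 := H30.card_sup_zpowers hy2 c1 n1
  have c1' : ∀ h ∈ zpowers x, ∀ k ∈ zpowers y, h * k = k * h := by
    intro h hh k hk
    rcases (mem_zpowers_sq hy2).1 hk with rfl | rfl
    · rw [one_mul, mul_one]
    · exact c1 h hh
  have mem2 : ∀ g, g ∈ zpowers x ⊔ zpowers y → g = 1 ∨ g = x ∨ g = y ∨ g = x * y := by
    intro g hg
    obtain ⟨a, ha, b, hb, rfl⟩ := (H30.mem_sup_of_commute c1').1 hg
    rcases (mem_zpowers_sq hx2).1 ha with rfl | rfl <;>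
      rcases (mem_zpowers_sq hy2).1 hb with rfl | rfl <;> simp
  have c2 : ∀ v ∈ zpowers x ⊔ zpowers y, v * w = w * v := by
    intro v hv
    rcases mem2 v hv with rfl | rfl | rfl | rfl
    · rw [one_mul, mul_one]
    · exact hxw
    · exact hyw
    · rw [mul_assoc, hyw, ← mul_assoc, hxw, mul_assoc]
  have n2 : w ∉ zpowers x ⊔ zpowers y := by
    intro h
    rcases mem2 w h with h | h | h | h
    · exact hw h
    · exact hw1 h
    · exact hw3 h
    · exact hw4 h
  have k2 := H30.card_sup_zpowers hw2 c2 n2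
  have k0 : Nat.card (zpowers x) = 2 := by
    rw [Nat.card_zpowers]; exact orderOf_eq_prime hx2 hx
  refine ⟨zpowers x ⊔ zpowers y ⊔ zpowers w, H30.isElementaryAbelian_sup_zpowers e2 hw2 c2,
    by rw [k2, k1, k0], mem_sup_left (mem_sup_left (mem_zpowers x)),
    mem_sup_left (mem_sup_right (mem_zpowers y)), mem_sup_right (mem_zpowers w), ?_⟩
  intro K h1 h2 h3
  exact sup_le (sup_le (zpowers_le.2 h1) (zpowers_le.2 h2)) (zpowers_le.2 h3)

variable [Finite G] {p n : ℕ} [hpf : Fact p.Prime]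

theorem HP.ne_bot (h : Hyp G p n) {A B : Subgroup G} (hA : Nat.card A = p ^ n) (hB : HP p A B) :
    B ≠ ⊥ := by
  intro h1
  have h2 := hB.card
  rw [hA, h1, Subgroup.card_bot, one_mul] at h2
  have h3 : p ^ 1 = p ^ n := by rw [pow_one]; exact h2
  have := Nat.pow_right_injective hpf.out.one_lt h3
  have := h.hn
  omega

/-- No elementary abelian subgroup of order 8 in `C(B)`, `B` of order `p^(n-1)`. -/
theorem no_rank3 (h : Hyp G p n) {A B : Subgroup G} (hA : Nat.card A = p ^ n)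
    (hB : HP p A B) (hBe : Cfsg.IsElementaryAbelian p B) {E : Subgroup G}
    (hE : Cfsg.IsElementaryAbelian 2 E) (hBE : ∀ b ∈ B, ∀ e ∈ E, b * e = e * b)
    (hc : 8 ≤ Nat.card E) : False := by
  have hp1 := hpf.out.one_lt
  have h5 := rb h hBe (hB.ne_bot h hA) hE hBE (m := 3) (by norm_num) (by omega)
  rw [← hA, ← hB.card] at h5
  have h6 : 0 < Nat.card B := Nat.card_pos
  have h7 := Nat.le_of_mul_le_mul_left h5 h6
  have h8 : p ^ 1 < p ^ (3 - 1) := Nat.pow_lt_pow_right hp1 (by norm_num)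
  rw [pow_one] at h8
  omega

/-- the pairs -/
structure Pr (p n : ℕ) (A : Subgroup G) (z : G) (T : Subgroup G) : Prop where
  h : Hyp G p n
  elem : Cfsg.IsElementaryAbelian p A
  card : Nat.card A = p ^ n
  z1 : z ≠ 1
  z2 : z ^ 2 = 1
  comm : ∀ a ∈ A, a * z = z * a
  o2 : O2C z T

variable {A T : Subgroup G} {z : G}

theorem Pr.isPA (P : Pr p n A z T) : IsPGroup p A := H30.isPGroup_of_isElementaryAbelian P.elem

theorem Pr.normT (P : Pr p n A z T) : A ≤ normalizer (T : Set G) := fun a ha => P.o2.norm a (P.comm a ha)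

theorem Pr.acomm (P : Pr p n A z T) : ∀ a ∈ A, ∀ b ∈ A, a * b = b * a :=
  (H30.isElementaryAbelian_iff.1 P.elem).1

theorem Pr.cop (P : Pr p n A z T) {D : Subgroup G} (hD : IsPGroup 2 D) :
    (Nat.card A).Coprime (Nat.card D) := by
  haveI := two_fact
  exact (card_coprime (coprime_two P.h.hp2) hD P.isPA).symm

theorem Pr.copB (P : Pr p n A z T) {D B : Subgroup G} (hB : B ≤ A) (hD : IsPGroup 2 D) :
    (Nat.card B).Coprime (Nat.card D) := by
  haveI := two_fact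
  exact (card_coprime (coprime_two P.h.hp2) hD (P.isPA.to_le hB)).symm

theorem Pr.elemB (P : Pr p n A z T) {B : Subgroup G} (hB : B ≤ A) : Cfsg.IsElementaryAbelian p B :=
  H30.IsElementaryAbelian.mono P.elem hB

/-- `z` is the only involution of `C(A) ∩ C(z)`. -/
theorem Pr.uniq (P : Pr p n A z T) {t : G} (ht2 : t ^ 2 = 1) (htz : t * z = z * t)
    (htA : ∀ a ∈ A, a * t = t * a) : t = 1 ∨ t = z := by
  by_contra hcon
  push Not at hcon
  haveI := two_fact
  have hp1 := hpf.out.one_lt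
  have e1 := H30.isElementaryAbelian_zpowers P.z2
  have c1 : ∀ v ∈ zpowers z, v * t = t * v := by
    intro v hv
    rcases (mem_zpowers_sq P.z2).1 hv with rfl | rfl
    · rw [one_mul, mul_one]
    · exact htz.symm
  have n1 : t ∉ zpowers z := by
    rw [mem_zpowers_sq P.z2]; push Not; exact hcon
  have k1 := H30.card_sup_zpowers ht2 c1 n1
  have e2 := H30.isElementaryAbelian_sup_zpowers e1 ht2 c1
  have k0 : Nat.card (zpowers z) = 2 := by
    rw [Nat.card_zpowers]; exact orderOf_eq_prime P.z2 P.z1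
  have hA1 : A ≠ ⊥ := by
    rintro rfl
    have := P.card
    rw [Subgroup.card_bot] at this
    have h3 : p ^ 0 = p ^ n := by rw [pow_zero]; exact this
    have := Nat.pow_right_injective hp1 h3
    have := P.h.hn
    omega
  have h5 := rb P.h P.elem hA1 e2 (by
    intro a ha
    have : zpowers z ⊔ zpowers t ≤ centralizer ({a} : Set G) :=
      sup_le (zpowers_le.2 (mem_cent1.2 (P.comm a ha).symm)) (zpowers_le.2 (mem_cent1.2 (htA a ha).symm))
    intro e he
    exact (mem_cent1.1 (this he)).symm) (m := 2) (by norm_num) (by rw [k1, k0]; norm_num)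
  rw [P.card, pow_one] at h5
  have h6 : 0 < p ^ n := by positivity
  nlinarith

theorem Pr.commABsup (P : Pr p n A z T) {B : Subgroup G} (hB : HP p A B) {a : G} (ha : a ∈ A)
    (haB : a ∉ B) : B ⊔ zpowers a = A := by
  rcases hB.eq_or_eq (X := B ⊔ zpowers a) le_sup_left (sup_le hB.le (zpowers_le.2 ha)) with h1 | h1
  · exfalso; apply haB
    rw [← h1]; exact mem_sup_right (mem_zpowers a)
  · exact h1

/-- every `A`-invariant abelian subgroup of `T` is centralized by `A`. -/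
theorem Pr.abel (P : Pr p n A z T) {D : Subgroup G} (hDT : D ≤ T)
    (hDc : ∀ x ∈ D, ∀ y ∈ D, x * y = y * x) (hAD : A ≤ normalizer (D : Set G)) :
    A ≤ centralizer (D : Set G) := by
  haveI := two_fact
  have hp2 := P.h.hp2
  have hD2 : IsPGroup 2 D := P.o2.isP.to_le hDT
  by_contra hcon
  set D₀ := ⁅D, A⁆ with hD₀
  have hD₀D : D₀ ≤ D := le_normalizer_iff_commutator_le_left.1 hAD
  have hD₀1 : D₀ ≠ ⊥ := by
    intro h1
    apply hcon
    rw [hD₀, commutator_eq_bot_iff_le_centralizer] at h1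
    exact Subgroup.le_centralizer_iff.1 h1
  haveI : IsMulCommutative D := H30.isMulCommutative_of_forall hDc
  have hdec := (H91.abelian_decomp A D hAD (P.cop hD2)).1
  have hC0 : D₀ ⊓ centralizer (A : Set G) = ⊥ := by
    rw [eq_bot_iff, ← hdec]
    intro x hx
    obtain ⟨h1, h2⟩ := Subgroup.mem_inf.1 hx
    exact Subgroup.mem_inf.2 ⟨Subgroup.mem_inf.2 ⟨hD₀D h1, h2⟩, h1⟩
  have hAD₀ : A ≤ normalizer (D₀ : Set G) := normalizer_commutator_ge_right D A
  have hD₀2 : IsPGroup 2 D₀ := hD2.to_le hD₀D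
  set E₀ := omZ 2 D₀ with hE₀
  have hE₀1 : E₀ ≠ ⊥ := omZ_ne_bot hD₀2 hD₀1
  have hAE₀ : A ≤ normalizer (E₀ : Set G) := omZ_norm hAD₀
  have hE₀D₀ : E₀ ≤ D₀ := omZ_le
  have hE₀2 : IsPGroup 2 E₀ := hD₀2.to_le hE₀D₀
  obtain ⟨B, hB, hB1⟩ : ∃ B, HP p A B ∧ E₀ ⊓ centralizer (B : Set G) ≠ ⊥ := by
    by_contra hno
    push Not at hno
    apply hE₀1
    rw [eq_bot_iff]
    refine gen_hyp hp2 P.elem hE₀2 hAE₀ ?_ (fun B hB => (hno B hB).le)
    rw [← hC0]
    exact inf_le_inf_right _ hE₀D₀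
  set E₁ := E₀ ⊓ centralizer (B : Set G) with hE₁
  have hE₁e : Cfsg.IsElementaryAbelian 2 E₁ := H30.IsElementaryAbelian.mono omZ_elem inf_le_left
  have hE₁C : E₁ ⊓ centralizer (A : Set G) = ⊥ := by
    rw [eq_bot_iff, ← hC0]
    exact inf_le_inf_right _ (inf_le_left.trans hE₀D₀)
  have hc4 : 4 ≤ Nat.card E₁ := four_le (hE₀2.to_le inf_le_left) hB1 (norm_inf hAE₀ (norm_cent_sub P.elem hB.le)) hE₁C
  have hE₁T : E₁ ≤ T := inf_le_left.trans (hE₀D₀.trans (hD₀D.trans hDT))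
  have hzE : z ∉ E₁ := by
    intro hz
    apply P.z1
    rw [← Subgroup.mem_bot, ← hE₁C]
    exact Subgroup.mem_inf.2 ⟨hz, mem_cent.2 fun a ha => (P.comm a ha).symm⟩
  have hcz : ∀ v ∈ E₁, v * z = z * v := fun v hv => P.o2.cz v (hE₁T hv)
  have k1 := H30.card_sup_zpowers P.z2 hcz hzE
  refine no_rank3 P.h P.card hB (P.elemB hB.le) (H30.isElementaryAbelian_sup_zpowers hE₁e P.z2 hcz)
    ?_ (by rw [k1]; omega)
  intro b hb e he
  have : E₁ ⊔ zpowers z ≤ centralizer ({b} : Set G) := by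
    refine sup_le ?_ (zpowers_le.2 (mem_cent1.2 (P.comm b (hB.le hb)).symm))
    intro x hx
    exact mem_cent1.2 (mem_cent.1 (Subgroup.mem_inf.1 hx).2 b hb)
  exact (mem_cent1.1 (this he)).symm

theorem Pr.A_ne_bot (P : Pr p n A z T) : A ≠ ⊥ := by
  rintro rfl
  have := P.card
  rw [Subgroup.card_bot] at this
  have h3 : p ^ 0 = p ^ n := by rw [pow_zero]; exact this
  have := Nat.pow_right_injective hpf.out.one_lt h3
  have := P.h.hn
  omega

/-- a subgroup of `A` centralizing `T` is trivial -/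
theorem Pr.faith (P : Pr p n A z T) {a : G} (ha : a ∈ A) (hc : ∀ x ∈ T, a * x = x * a) : a = 1 :=
  eq_one_of_pgroups P.h.hp2 P.o2.isP P.isPA (P.o2.cent a (P.comm a ha) hc) ha

/-- The extraspecial group `[T,A]`. -/
structure Ext (A : Subgroup G) (z : G) (Q : Subgroup G) : Prop where
  zQ : z ∈ Q
  comm2 : ∀ x ∈ Q, ∀ y ∈ Q, x * y = y * x ∨ x * y = z * (y * x)
  sq : ∀ x ∈ Q, x ^ 2 = 1 ∨ x ^ 2 = z
  cen : ∀ x ∈ Q, (∀ y ∈ Q, x * y = y * x) → x = 1 ∨ x = z
  cenA : ∀ x ∈ Q, (∀ a ∈ A, a * x = x * a) → x = 1 ∨ x = z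

theorem Pr.le (P : Pr p n A z T) : ⁅T, A⁆ ≤ T := le_normalizer_iff_commutator_le_left.1 P.normT

theorem Pr.solvA (P : Pr p n A z T) : Group.IsSolvable A := solv_p P.isPA

theorem Pr.norm1 (P : Pr p n A z T) : A ≤ normalizer ((⁅T, A⁆ : Subgroup G) : Set G) :=
  normalizer_commutator_ge_right T A

theorem Pr.norm1T (P : Pr p n A z T) : T ≤ normalizer ((⁅T, A⁆ : Subgroup G) : Set G) :=
  normalizer_commutator_ge_left T A

theorem Pr.T1_ne_bot (P : Pr p n A z T) : ⁅T, A⁆ ≠ ⊥ := by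
  intro h1
  rw [commutator_eq_bot_iff_le_centralizer] at h1
  have h2 : A ≤ centralizer (T : Set G) := Subgroup.le_centralizer_iff.1 h1
  apply P.A_ne_bot
  rw [eq_bot_iff]
  intro a ha
  rw [Subgroup.mem_bot]
  exact P.faith ha (mem_cent.1 (h2 ha))

theorem Pr.ext (P : Pr p n A z T) : Ext A z ⁅T, A⁆ := by
  haveI := two_fact
  set Q := ⁅T, A⁆ with hQ
  have hQT : Q ≤ T := P.le
  have hQ2 : IsPGroup 2 Q := P.o2.isP.to_le hQT
  have hQA : ⁅Q, A⁆ = Q := Cop.commutator_commutator_eq P.normT (P.cop P.o2.isP) (Or.inl P.solvA)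
  have hA2 : (Nat.card A).Coprime 2 := by
    rw [P.card]
    exact (Nat.Coprime.pow_right n (coprime_two P.h.hp2)).symm
  obtain ⟨hsp, hcen⟩ := Cop.special_of_invariant_abelian hQ2 P.norm1 hA2 hQA (by
    intro U hU hUc hN
    exact P.abel (hU.trans hQT) (fun x hx y hy => H30.mul_comm_of_isMulCommutative hUc hx hy)
      (P.norm1.trans hN))
  -- elements of the centre
  have hmemC : ∀ x : Q, x ∈ center Q → ∀ a ∈ A, a * (x : G) = x * a := by
    intro x hx a ha
    have : (x : G) ∈ Q ⊓ centralizer (A : Set G) := by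
      rw [← hcen]; exact ⟨x, hx, rfl⟩
    exact (mem_cent.1 (Subgroup.mem_inf.1 this).2 a ha).symm
  have hcomm' : ∀ a b : Q, ⁅a, b⁆ ∈ center Q := by
    intro a b
    rw [← hsp.2.2]
    exact commutator_mem_commutator (mem_top a) (mem_top b)
  have hsq' : ∀ a : Q, a ^ 2 ∈ center Q := by
    intro a
    rw [← hsp.2.1]
    exact Solv.pow_mem_frattini_of_pGroup hQ2 a
  have hcsq : ∀ a b : Q, ⁅a, b⁆ ^ 2 = 1 := by
    intro a b
    have h1 := mem_center_iff.1 (hsq' a) b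
    have h2 := mem_center_iff.1 (hcomm' a b) a
    have e : a * b * a⁻¹ = ⁅a, b⁆ * b := by rw [commutatorElement_def]; group
    have e2 : a ^ 2 * b * (a ^ 2)⁻¹ = ⁅a, b⁆ ^ 2 * b := by
      calc a ^ 2 * b * (a ^ 2)⁻¹ = a * (a * b * a⁻¹) * a⁻¹ := by rw [pow_two]; group
        _ = (a * ⁅a, b⁆) * b * a⁻¹ := by rw [e]; group
        _ = (⁅a, b⁆ * a) * b * a⁻¹ := by rw [h2]
        _ = ⁅a, b⁆ * (a * b * a⁻¹) := by group
        _ = ⁅a, b⁆ ^ 2 * b := by rw [e, pow_two]; group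
    rw [← h1, mul_inv_cancel_right] at e2
    have e3 : 1 * b = ⁅a, b⁆ ^ 2 * b := by rw [one_mul]; exact e2
    exact (mul_right_cancel e3).symm
  have hcz : ∀ a b : Q, ((⁅a, b⁆ : Q) : G) = 1 ∨ ((⁅a, b⁆ : Q) : G) = z := by
    intro a b
    apply P.uniq
    · have := congrArg Subtype.val (hcsq a b)
      simpa using this
    · exact P.o2.cz _ (hQT (⁅a, b⁆ : Q).2)
    · exact hmemC _ (hcomm' a b)
  have hcen' : ∀ x : Q, x ∈ center Q → (x : G) = 1 ∨ (x : G) = z := by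
    have h1 : (commutator Q).map Q.subtype ≤ zpowers z := by
      rw [commutator_def, map_le_iff_le_comap, commutator_le]
      intro a _ b _
      rw [mem_comap, mem_zpowers_sq P.z2]
      exact hcz a b
    intro x hx
    rw [← mem_zpowers_sq P.z2]
    rw [← hsp.2.2] at hx
    exact h1 ⟨x, hx, rfl⟩
  have hcenQ : ∀ x ∈ Q, (∀ y ∈ Q, x * y = y * x) → x = 1 ∨ x = z := by
    intro x hx hc
    refine hcen' ⟨x, hx⟩ (mem_center_iff.2 ?_)
    intro y
    apply Subtype.ext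
    exact (hc y y.2).symm
  refine ⟨?_, ?_, ?_, hcenQ, ?_⟩
  · have h1 := omZ_ne_bot hQ2 P.T1_ne_bot
    obtain ⟨x, hx⟩ := (Subgroup.ne_bot_iff_exists_ne_one).1 h1
    have h2 := mem_omZ.1 x.2
    rcases hcenQ x h2.1 h2.2.1 with h3 | h3
    · exact absurd (Subtype.ext h3) hx
    · rw [← h3]; exact h2.1
  · intro x hx y hy
    rcases hcz ⟨x, hx⟩ ⟨y, hy⟩ with h1 | h1
    · left
      have h2 : x * y * x⁻¹ * y⁻¹ = 1 := h1
      calc x * y = (x * y * x⁻¹ * y⁻¹) * (y * x) := by group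
        _ = y * x := by rw [h2, one_mul]
    · right
      have h2 : x * y * x⁻¹ * y⁻¹ = z := h1
      calc x * y = (x * y * x⁻¹ * y⁻¹) * (y * x) := by group
        _ = z * (y * x) := by rw [h2]
  · intro x hx
    exact hcen' (⟨x, hx⟩ ^ 2) (hsq' ⟨x, hx⟩)
  · intro x hx hc
    have h1 : x ∈ Q ⊓ centralizer (A : Set G) :=
      Subgroup.mem_inf.2 ⟨hx, mem_cent.2 fun a ha => (hc a ha).symm⟩
    rw [← hcen] at h1
    obtain ⟨x', hx', rfl⟩ := h1
    exact hcen' x' hx'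

end Cfsg.Agent.H64.KM
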