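import Cfsg.Agent.H64.KM3

set_option autoImplicit false
set_option linter.style.haveILetI false
set_option linter.unusedSectionVars false

/-! Klinger-Mason: the subgroups `S_B = C_{[T,A]}(B)`. -/

namespace Cfsg.Agent.H64.KM

open Subgroup
open scoped commutatorElement

variable {G : Type*} [Group G]

/-- elements commuting with `z` and with `x` modulo `z`. -/
def CZ (z x : G) (hz : z ^ 2 = 1) : Subgroup G where
  carrier := {g | g * z = z * g ∧ (g * x = x * g ∨ g * x = z * (x * g))}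
  one_mem' := ⟨by rw [one_mul, mul_one], Or.inl (by rw [one_mul, mul_one])⟩
  mul_mem' := by
    rintro g h ⟨hg1, hg2⟩ ⟨hh1, hh2⟩
    have hzz : z * z = 1 := by rw [← pow_two]; exact hz
    refine ⟨by rw [mul_assoc, hh1, ← mul_assoc, hg1, mul_assoc], ?_⟩
    rcases hg2 with hg2 | hg2 <;> rcases hh2 with hh2 | hh2
    · left; rw [mul_assoc, hh2, ← mul_assoc, hg2, mul_assoc]
    · right
      calc g * h * x = g * (h * x) := by group
        _ = (g * z) * x * h := by rw [hh2]; group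
        _ = z * (g * x) * h := by rw [hg1]; group
        _ = z * (x * (g * h)) := by rw [hg2]; group
    · right
      calc g * h * x = g * (h * x) := by group
        _ = (g * x) * h := by rw [hh2]; group
        _ = z * (x * (g * h)) := by rw [hg2]; group
    · left
      calc g * h * x = g * (h * x) := by group
        _ = (g * z) * x * h := by rw [hh2]; group
        _ = z * (g * x) * h := by rw [hg1]; group
        _ = (z * z) * (x * (g * h)) := by rw [hg2]; group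
        _ = x * (g * h) := by rw [hzz, one_mul]
  inv_mem' := by
    rintro g ⟨hg1, hg2⟩
    have hzz : z * z = 1 := by rw [← pow_two]; exact hz
    have hc : Commute g z := hg1
    refine ⟨hc.inv_left.eq, ?_⟩
    rcases hg2 with hg2 | hg2
    · left
      have : Commute g x := hg2
      exact this.inv_left.eq
    · right
      calc g⁻¹ * x = g⁻¹ * (z * z) * x := by rw [hzz, mul_one]
        _ = (g⁻¹ * z) * (z * (x * g)) * g⁻¹ := by group
        _ = (z * g⁻¹) * (g * x) * g⁻¹ := by rw [hc.inv_left.eq, ← hg2]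
        _ = z * (x * g⁻¹) := by group

theorem mem_CZ {z x g : G} {hz : z ^ 2 = 1} :
    g ∈ CZ z x hz ↔ g * z = z * g ∧ (g * x = x * g ∨ g * x = z * (x * g)) := Iff.rfl

theorem CZ_conj {z x g : G} {hz : z ^ 2 = 1} (hg : g ∈ CZ z x hz) :
    g * x * g⁻¹ = x ∨ g * x * g⁻¹ = z * x := by
  rcases hg.2 with h | h
  · left; rw [h, mul_inv_cancel_right]
  · right; rw [h]; group

variable [Finite G] {p n : ℕ} [hpf : Fact p.Prime] {A T : Subgroup G} {z : G}

theorem two_mem_one_z {z x : G} (hx : x = 1 ∨ x = z) {K : Subgroup G} (hz : z ∈ K) : x ∈ K := by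
  rcases hx with rfl | rfl
  · exact K.one_mem
  · exact hz

theorem Pr.zz (P : Pr p n A z T) : z * z = 1 := by rw [← pow_two]; exact P.z2

theorem Pr.zinv (P : Pr p n A z T) : z⁻¹ = z := by rw [inv_eq_iff_mul_eq_one]; exact P.zz

theorem Pr.cz1 (P : Pr p n A z T) {x : G} (hx : x ∈ ⁅T, A⁆) : x * z = z * x := P.o2.cz x (P.le hx)

theorem Pr.zA (P : Pr p n A z T) : z ∈ centralizer (A : Set G) := mem_cent.2 fun a ha => (P.comm a ha).symm

theorem Pr.isP1 (P : Pr p n A z T) : IsPGroup 2 (⁅T, A⁆ : Subgroup G) := P.o2.isP.to_le P.le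

/-- The subgroups `S_B` for different `B` commute. -/
theorem Pr.comm_SB (P : Pr p n A z T) {B B' : Subgroup G} (hB : HP p A B) (hB' : HP p A B')
    (hne : B ≠ B') {x y : G} (hx : x ∈ ⁅T, A⁆) (hxB : x ∈ centralizer (B' : Set G))
    (hy : y ∈ ⁅T, A⁆) (hyB : y ∈ centralizer (B : Set G)) : x * y = y * x := by
  haveI := two_fact
  have E := P.ext
  set Q := ⁅T, A⁆ with hQ
  set S := Q ⊓ centralizer (B : Set G) with hS
  have hS2 : IsPGroup 2 S := P.isP1.to_le inf_le_left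
  have hAS : A ≤ normalizer (S : Set G) := norm_inf P.norm1 (norm_cent_sub P.elem hB.le)
  have hB'S : B' ≤ normalizer (S : Set G) := hB'.le.trans hAS
  have hdec := Cop.commutator_sup_centralizer hB'S (P.copB hB'.le hS2)
    (Or.inl (solv_p (P.isPA.to_le hB'.le)))
  have hle : S ≤ centralizer ({x} : Set G) := by
    rw [← hdec]
    refine sup_le ?_ ?_
    · rw [commutator_le]
      intro y hy b hb
      have hyQ := (Subgroup.mem_inf.1 hy).1
      rw [mem_cent1, ← conj_eq_iff]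
      have hxb : x * b * x⁻¹ = b := conj_eq_iff.2 (mem_cent.1 hxB b hb)
      have e1 : ⁅y, b⁆ * x * ⁅y, b⁆⁻¹ = x ↔ x * ⁅y, b⁆ * x⁻¹ = ⁅y, b⁆ := by
        rw [conj_eq_iff, conj_eq_iff]; exact eq_comm
      rw [e1]
      have e2 : x * ⁅y, b⁆ * x⁻¹ = ⁅x * y * x⁻¹, x * b * x⁻¹⁆ := by
        rw [commutatorElement_def, commutatorElement_def]; group
      rw [e2, hxb]
      rcases E.comm2 x hx y hyQ with h | h
      · rw [h, mul_inv_cancel_right]
      · have hzb : z * b = b * z := (P.comm b (hB'.le hb)).symm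
        rw [h, commutatorElement_def, commutatorElement_def]
        have e3 : z * (y * x) * x⁻¹ = z * y := by group
        rw [e3]
        calc z * y * b * (z * y)⁻¹ * b⁻¹ = z * (y * b * y⁻¹) * z⁻¹ * b⁻¹ := by group
          _ = z * (y * b * y⁻¹) * (b * z)⁻¹ := by group
          _ = z * (y * b * y⁻¹ * b⁻¹) * z⁻¹ := by rw [← hzb]; group
          _ = y * b * y⁻¹ * b⁻¹ := by
            have h1 : y * b * y⁻¹ * b⁻¹ ∈ Q := by
              have h2 : y⁻¹ ∈ Q := Q.inv_mem hyQ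
              have h3 : b * y⁻¹ * b⁻¹ ∈ Q := norm_mem P.norm1 (hB'.le hb) h2
              have h4 := Q.mul_mem hyQ h3
              have h5 : y * b * y⁻¹ * b⁻¹ = y * (b * y⁻¹ * b⁻¹) := by group
              rw [h5]; exact h4
            rw [← P.cz1 h1, mul_inv_cancel_right]
    · intro y hy
      obtain ⟨hy1, hy2⟩ := Subgroup.mem_inf.1 hy
      obtain ⟨hy3, hy4⟩ := Subgroup.mem_inf.1 hy1
      have h1 := cent_sup (hB.sup hB' hne) hy4 hy2
      have h2 := E.cenA y hy3 (fun a ha => (mem_cent.1 h1 a ha).symm)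
      exact two_mem_one_z h2 (mem_cent1.2 (P.cz1 hx).symm)
  exact (mem_cent1.1 (hle (Subgroup.mem_inf.2 ⟨hy, hyB⟩))).symm

/-- `B` is a hyperplane with `S_B ≠ ⟨z⟩`. -/
structure Pr.Big (p : ℕ) (A : Subgroup G) (z : G) (T B : Subgroup G) : Prop where
  hp : HP p A B
  ex : ∃ x ∈ ⁅T, A⁆, x ∈ centralizer (B : Set G) ∧ x ≠ 1 ∧ x ≠ z

theorem Pr.exists_big (P : Pr p n A z T) {I : Subgroup G} (hI : I ≤ A) (hI1 : I ≠ ⊥) :
    ∃ B, Pr.Big p A z T B ∧ ¬ I ≤ B := by
  haveI := two_fact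
  have E := P.ext
  by_contra hcon
  push Not at hcon
  have hzI : z ∈ centralizer (I : Set G) := mem_cent.2 fun a ha => (P.comm a (hI ha)).symm
  have h1 : ⁅T, A⁆ ≤ centralizer (I : Set G) := by
    refine gen_hyp P.h.hp2 P.elem P.isP1 P.norm1 ?_ ?_
    · intro x hx
      obtain ⟨hx1, hx2⟩ := Subgroup.mem_inf.1 hx
      exact two_mem_one_z (E.cenA x hx1 (fun a ha => (mem_cent.1 hx2 a ha).symm)) hzI
    · intro B hB x hx
      obtain ⟨hx1, hx2⟩ := Subgroup.mem_inf.1 hx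
      by_cases hx3 : x = 1 ∨ x = z
      · exact two_mem_one_z hx3 hzI
      · push Not at hx3
        have h2 := hcon B ⟨hB, x, hx1, hx2, hx3.1, hx3.2⟩
        exact mem_cent.2 fun a ha => mem_cent.1 hx2 a (h2 ha)
  have hIT : I ≤ normalizer (T : Set G) := hI.trans P.normT
  have h2 : ⁅T, I⁆ ≤ centralizer (I : Set G) := (commutator_mono le_rfl hI).trans h1
  have h3 := Cop.commutator_commutator_eq hIT (P.copB hI P.o2.isP) (Or.inl (solv_p (P.isPA.to_le hI)))
  rw [(commutator_eq_bot_iff_le_centralizer).2 h2] at h3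
  have h4 : T ≤ centralizer (I : Set G) := (commutator_eq_bot_iff_le_centralizer).1 h3.symm
  apply hI1
  rw [eq_bot_iff]
  intro a ha
  rw [Subgroup.mem_bot]
  exact P.faith (hI ha) (fun x hx => (mem_cent.1 (h4 hx) a ha).symm)

theorem Pr.exists_three (P : Pr p n A z T) : ∃ B₁ B₂ B₃, Pr.Big p A z T B₁ ∧ Pr.Big p A z T B₂ ∧
    Pr.Big p A z T B₃ ∧ B₁ ≠ B₂ ∧ B₁ ≠ B₃ ∧ B₂ ≠ B₃ ∧ (B₁ ⊓ B₂ : Subgroup G) ≠ ⊥ := by
  obtain ⟨B₁, hB₁, -⟩ := P.exists_big le_rfl P.A_ne_bot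
  obtain ⟨B₂, hB₂, hne⟩ := P.exists_big hB₁.hp.le (hB₁.hp.ne_bot P.h P.card)
  have h12 : B₁ ≠ B₂ := fun h => hne h.le
  have hcard := HP.inf P.elem hB₁.hp hB₂.hp h12
  have hH : (B₁ ⊓ B₂ : Subgroup G) ≠ ⊥ := by
    intro h1
    have h2 := hB₁.hp.card
    rw [← hcard, h1, Subgroup.card_bot, one_mul, P.card, ← pow_two] at h2
    have := Nat.pow_right_injective hpf.out.one_lt h2
    have := P.h.hn
    omega
  obtain ⟨B₃, hB₃, hne3⟩ := P.exists_big (inf_le_left.trans hB₁.hp.le) hH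
  exact ⟨B₁, B₂, B₃, hB₁, hB₂, hB₃, h12, fun h => hne3 (inf_le_left.trans h.le),
    fun h => hne3 (inf_le_right.trans h.le), hH⟩

theorem Pr.card_inf (P : Pr p n A z T) {B : Subgroup G} (hB : HP p A B) :
    Nat.card (⁅T, A⁆ ⊓ centralizer (B : Set G) : Subgroup G) ≡ 2 [MOD p] := by
  haveI := two_fact
  have E := P.ext
  set S := ⁅T, A⁆ ⊓ centralizer (B : Set G) with hS
  have hAS : A ≤ normalizer (S : Set G) := norm_inf P.norm1 (norm_cent_sub P.elem hB.le)
  have h1 := card_fixed_modEq P.isPA hAS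
  have h2 : S ⊓ centralizer (A : Set G) = zpowers z := by
    apply le_antisymm
    · intro x hx
      obtain ⟨hx1, hx2⟩ := Subgroup.mem_inf.1 hx
      rw [mem_zpowers_sq P.z2]
      exact E.cenA x (Subgroup.mem_inf.1 hx1).1 (fun a ha => (mem_cent.1 hx2 a ha).symm)
    · rw [zpowers_le]
      exact Subgroup.mem_inf.2 ⟨Subgroup.mem_inf.2 ⟨E.zQ, mem_cent.2 fun b hb => (P.comm b (hB.le hb)).symm⟩,
        P.zA⟩
  rw [h2, Nat.card_zpowers, orderOf_eq_prime P.z2 P.z1] at h1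
  exact h1

/-- `|S_B| ≥ 8`. -/
theorem Pr.card_SB (P : Pr p n A z T) {B : Subgroup G} (hB : Pr.Big p A z T B) :
    ∃ k, 3 ≤ k ∧ Nat.card (⁅T, A⁆ ⊓ centralizer (B : Set G) : Subgroup G) = 2 ^ k ∧
      (p ≠ 3 → 4 ≤ k) := by
  haveI := two_fact
  have E := P.ext
  have h1 := P.card_inf hB.hp
  obtain ⟨x, hx, hxB, hx1, hxz⟩ := hB.ex
  set S := ⁅T, A⁆ ⊓ centralizer (B : Set G) with hS
  have hS2 : IsPGroup 2 S := P.isP1.to_le inf_le_left
  obtain ⟨k, hk⟩ := IsPGroup.iff_card.1 hS2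
  have hzS : z ∈ S := Subgroup.mem_inf.2 ⟨E.zQ, mem_cent.2 fun b hb => (P.comm b (hB.hp.le hb)).symm⟩
  have hxS : x ∈ S := Subgroup.mem_inf.2 ⟨hx, hxB⟩
  have h3 : ({1, z, x} : Set G).ncard = 3 := by
    rw [Set.ncard_eq_three]
    exact ⟨1, z, x, P.z1.symm, hx1.symm, hxz.symm, rfl⟩
  have h4 : ({1, z, x} : Set G) ⊆ S := by
    rintro a (rfl | rfl | rfl)
    · exact S.one_mem
    · exact hzS
    · exact hxS
  have h5 := Set.ncard_le_ncard h4 (Set.toFinite _)
  have h6 : (S : Set G).ncard = 2 ^ k := hk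
  have hp := hpf.out
  have hp2 := P.h.hp2
  have hp3 : 3 ≤ p := by
    have := hp.two_le
    omega
  rw [hk] at h1
  refine ⟨k, ?_, hk, ?_⟩
  · by_contra hk3
    have : k = 0 ∨ k = 1 ∨ k = 2 := by omega
    rcases this with rfl | rfl | rfl
    · omega
    · omega
    · have h7 : p ∣ 2 ^ 2 - 2 := (Nat.modEq_iff_dvd' (by norm_num)).1 h1.symm
      have h8 := Nat.le_of_dvd (by norm_num) h7
      omega
  · intro hp3'
    by_contra hk3
    have : k = 0 ∨ k = 1 ∨ k = 2 ∨ k = 3 := by omega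
    rcases this with rfl | rfl | rfl | rfl
    · omega
    · omega
    · have h7 : p ∣ 2 ^ 2 - 2 := (Nat.modEq_iff_dvd' (by norm_num)).1 h1.symm
      have h8 := Nat.le_of_dvd (by norm_num) h7
      omega
    · have h7 : p ∣ 2 ^ 3 - 2 := (Nat.modEq_iff_dvd' (by norm_num)).1 h1.symm
      have h8 : p ∣ 2 * 3 := h7
      rcases (Nat.Prime.dvd_mul hp).1 h8 with h9 | h9
      · have := Nat.le_of_dvd (by norm_num) h9
        omega
      · have := (Nat.prime_dvd_prime_iff_eq hp Nat.prime_three).1 h9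
        exact hp3' this

/-- Elements of `S_B` outside `⟨z⟩` are moved by `A ∖ B`. -/
theorem Pr.moved (P : Pr p n A z T) {B : Subgroup G} (hB : HP p A B) {x a : G} (hx : x ∈ ⁅T, A⁆)
    (hxB : x ∈ centralizer (B : Set G)) (hx1 : x ≠ 1) (hxz : x ≠ z) (ha : a ∈ A) (haB : a ∉ B) :
    a ∉ CZ z x P.z2 := by
  intro hM
  have E := P.ext
  have hodd : p % 2 = 1 := by
    rcases hpf.out.eq_two_or_odd with h3 | h3
    · exact absurd h3 P.h.hp2
    · exact h3
  have hap : a ^ p = 1 := (H30.isElementaryAbelian_iff.1 P.elem).2 a ha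
  -- a commutes with x
  have hax : a * x = x * a := by
    rcases hM.2 with h | h
    · exact h
    · have h1 : Commute (a ^ 2) x := by
        show a ^ 2 * x = x * a ^ 2
        have haz := P.comm a ha
        calc a ^ 2 * x = a * (a * x) := by rw [pow_two]; group
          _ = (a * z) * x * a := by rw [h]; group
          _ = z * (a * x) * a := by rw [haz]; group
          _ = (z * z) * x * a ^ 2 := by rw [h, pow_two]; group
          _ = x * a ^ 2 := by rw [P.zz, one_mul]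
      have h2 : a = (a ^ 2) ^ ((p + 1) / 2) := by
        rw [← pow_mul, Nat.mul_div_cancel' (by omega), pow_succ, hap, one_mul]
      rw [h2]
      exact (h1.pow_left _).eq
  have h1 : x ∈ centralizer (A : Set G) := by
    refine cent_sup (B := B) (B' := zpowers a) (P.commABsup hB ha haB) hxB ?_
    exact mem_cent_zpowers hax.symm
  rcases E.cenA x hx (fun a ha => (mem_cent.1 h1 a ha).symm) with h | h
  · exact hx1 h
  · exact hxz h

theorem HP.exists_not_mem {A B : Subgroup G} (h : HP p A B) : ∃ a ∈ A, a ∉ B := by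
  by_contra hcon
  push Not at hcon
  exact h.ne (le_antisymm h.le hcon)

/-- An abelian subgroup of order at least 8 of `S_B`. -/
theorem Pr.exists_ab (P : Pr p n A z T) {B : Subgroup G} (hB : Pr.Big p A z T B) (hp3 : p ≠ 3) :
    ∃ L : Subgroup G, L ≤ ⁅T, A⁆ ⊓ centralizer (B : Set G) ∧ (∀ a ∈ L, ∀ b ∈ L, a * b = b * a) ∧
      8 ≤ Nat.card L := by
  haveI := two_fact
  have E := P.ext
  obtain ⟨k, -, hk, hk4⟩ := P.card_SB hB
  have hk4 := hk4 hp3
  obtain ⟨x, hx, hxB, hx1, hxz⟩ := hB.ex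
  set S := ⁅T, A⁆ ⊓ centralizer (B : Set G) with hS
  have hS2 : IsPGroup 2 S := P.isP1.to_le inf_le_left
  have hzS : z ∈ S := Subgroup.mem_inf.2 ⟨E.zQ, mem_cent.2 fun b hb => (P.comm b (hB.hp.le hb)).symm⟩
  have hxS : x ∈ S := Subgroup.mem_inf.2 ⟨hx, hxB⟩
  set C := S ⊓ centralizer ({x} : Set G) with hC
  have hcard : Nat.card S ≤ 2 * Nat.card C := by
    apply card_le_two_mul
    intro s hs t ht hs1 ht1
    have key : ∀ s ∈ S, s ∉ C → s * x = z * (x * s) := by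
      intro s hs hs1
      rcases E.comm2 s (Subgroup.mem_inf.1 hs).1 x hx with h1 | h1
      · exact absurd (Subgroup.mem_inf.2 ⟨hs, mem_cent1.2 h1⟩) hs1
      · exact h1
    refine Subgroup.mem_inf.2 ⟨S.mul_mem (S.inv_mem hs) ht, mem_cent1.2 (conj_eq_iff.1 ?_)⟩
    have h1 : s * x * s⁻¹ = z * x := by rw [key s hs hs1]; group
    have h2 : t * x * t⁻¹ = z * x := by rw [key t ht ht1]; group
    calc s⁻¹ * t * x * (s⁻¹ * t)⁻¹ = s⁻¹ * (t * x * t⁻¹) * s := by group
      _ = s⁻¹ * (s * x * s⁻¹) * s := by rw [h2, h1]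
      _ = x := by group
  have h16 : 16 ≤ Nat.card S := by
    rw [hk]
    calc 16 = 2 ^ 4 := rfl
      _ ≤ 2 ^ k := Nat.pow_le_pow_right (by norm_num) hk4
  have hzx : z * x = x * z := (P.cz1 hx).symm
  -- L₀ = {1, x, z, xz}
  have hL₀c : ∀ h ∈ zpowers z, ∀ k ∈ zpowers x, h * k = k * h := by
    rintro _ ⟨a, rfl⟩ _ ⟨b, rfl⟩
    exact (Commute.zpow_zpow (show Commute z x from hzx) a b).eq
  have hL₀m : ∀ g, g ∈ zpowers z ⊔ zpowers x → g = 1 ∨ g = z ∨ g = x ∨ g = z * x := by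
    intro g hg
    obtain ⟨a, ha, b, hb, rfl⟩ := (H30.mem_sup_of_commute hL₀c).1 hg
    obtain ⟨m, rfl⟩ := hb
    have hx2 : ∃ c, (c = 1 ∨ c = z) ∧ x ^ (2 : ℤ) = c := by
      refine ⟨x ^ (2 : ℕ), E.sq x hx, ?_⟩
      norm_cast
    obtain ⟨c, hc, hxc⟩ := hx2
    have hcm : ∀ j : ℤ, c ^ j = 1 ∨ c ^ j = z := by
      intro j
      rcases hc with rfl | rfl
      · left; exact one_zpow j
      · exact (mem_zpowers_sq P.z2).1 (zpow_mem (mem_zpowers c) j)
    have hxm : ∃ c, (c = 1 ∨ c = z) ∧ (x ^ m = c ∨ x ^ m = c * x) := by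
      rcases Int.even_or_odd' m with ⟨j, rfl | rfl⟩
      · refine ⟨c ^ j, hcm j, ?_⟩
        left; rw [zpow_mul, hxc]
      · refine ⟨c ^ j, hcm j, ?_⟩
        right; rw [zpow_add, zpow_mul, zpow_one, hxc]
    obtain ⟨c', hc', hxm⟩ := hxm
    show a * x ^ m = 1 ∨ a * x ^ m = z ∨ a * x ^ m = x ∨ a * x ^ m = z * x
    rcases (mem_zpowers_sq P.z2).1 ha with rfl | rfl <;> rcases hc' with rfl | rfl <;>
      rcases hxm with h | h <;> rw [h] <;> simp [← mul_assoc, P.zz]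
  have hL₀4 : Nat.card (zpowers z ⊔ zpowers x : Subgroup G) ≤ 4 := by
    have h1 : ((zpowers z ⊔ zpowers x : Subgroup G) : Set G) ⊆ {1, z, x, z * x} := by
      intro g hg
      simpa using hL₀m g hg
    have h2 := Set.ncard_le_ncard h1 (Set.toFinite _)
    have h3 : ({1, z, x, z * x} : Set G).ncard ≤ 4 := by
      refine (Set.ncard_insert_le _ _).trans ?_
      have := Set.ncard_insert_le z {x, z * x}
      have := Set.ncard_insert_le x {z * x}
      have := Set.ncard_singleton (z * x)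
      omega
    exact h2.trans h3
  set L₀ := (zpowers z ⊔ zpowers x : Subgroup G) with hL₀
  obtain ⟨y, hyC, hyL⟩ : ∃ y ∈ C, y ∉ L₀ := by
    by_contra hcon
    push Not at hcon
    have : C ≤ L₀ := hcon
    have := Nat.card_le_card_of_injective _ (Subgroup.inclusion_injective this)
    omega
  obtain ⟨hyS, hyx⟩ := Subgroup.mem_inf.1 hyC
  have hyx' := mem_cent1.1 hyx
  have hyz : y * z = z * y := P.cz1 (Subgroup.mem_inf.1 hyS).1
  have hL₀S : L₀ ≤ S := sup_le (zpowers_le.2 hzS) (zpowers_le.2 hxS)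
  have hL₀cc : ∀ a ∈ L₀, ∀ b ∈ L₀, a * b = b * a := by
    refine comm_sup ?_ ?_ hL₀c
    · rintro _ ⟨a, rfl⟩ _ ⟨b, rfl⟩
      exact (Commute.zpow_zpow (Commute.refl z) a b).eq
    · rintro _ ⟨a, rfl⟩ _ ⟨b, rfl⟩
      exact (Commute.zpow_zpow (Commute.refl x) a b).eq
  have hL₀y : ∀ a ∈ L₀, a * y = y * a := by
    have : L₀ ≤ centralizer ({y} : Set G) :=
      sup_le (zpowers_le.2 (mem_cent1.2 hyz.symm)) (zpowers_le.2 (mem_cent1.2 hyx'.symm))
    intro a ha
    exact mem_cent1.1 (this ha)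
  refine ⟨L₀ ⊔ zpowers y, sup_le hL₀S (zpowers_le.2 hyS), ?_, ?_⟩
  · refine comm_sup hL₀cc ?_ ?_
    · rintro _ ⟨a, rfl⟩ _ ⟨b, rfl⟩
      exact (Commute.zpow_zpow (Commute.refl y) a b).eq
    · rintro a ha _ ⟨b, rfl⟩
      exact (Commute.zpow_right (show Commute a y from hL₀y a ha) b).eq
  · -- cardinality
    have hlt : L₀ < L₀ ⊔ zpowers y := by
      refine lt_of_le_of_ne le_sup_left ?_
      intro h
      apply hyL
      rw [h]
      exact mem_sup_right (mem_zpowers y)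
    have h3 : ({1, z, x} : Set G).ncard = 3 := by
      rw [Set.ncard_eq_three]
      exact ⟨1, z, x, P.z1.symm, hx1.symm, hxz.symm, rfl⟩
    have h4 : ({1, z, x} : Set G) ⊆ L₀ := by
      rintro a (rfl | rfl | rfl)
      · exact L₀.one_mem
      · exact mem_sup_left (mem_zpowers _)
      · exact mem_sup_right (mem_zpowers _)
    have h5 := Set.ncard_le_ncard h4 (Set.toFinite _)
    have h6 : (L₀ : Set G).ncard = Nat.card L₀ := rfl
    have hL2 : IsPGroup 2 L₀ := hS2.to_le hL₀S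
    obtain ⟨j, hj⟩ := IsPGroup.iff_card.1 hL2
    have hLy2 : IsPGroup 2 (L₀ ⊔ zpowers y : Subgroup G) := hS2.to_le (sup_le hL₀S (zpowers_le.2 hyS))
    obtain ⟨i, hi⟩ := IsPGroup.iff_card.1 hLy2
    have hlt' : Nat.card L₀ < Nat.card (L₀ ⊔ zpowers y : Subgroup G) := by
      by_contra hge
      push Not at hge
      exact hlt.ne (Subgroup.eq_of_le_of_card_ge hlt.le hge)
    rw [hi, hj] at hlt'
    have hji := (Nat.pow_lt_pow_iff_right (by norm_num : 1 < 2)).1 hlt'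
    have hj2 : 2 ≤ j := by
      by_contra hj2
      have : 2 ^ j ≤ 2 ^ 1 := Nat.pow_le_pow_right (by norm_num) (by omega)
      omega
    rw [hi]
    calc 8 = 2 ^ 3 := rfl
      _ ≤ 2 ^ i := Nat.pow_le_pow_right (by norm_num) (by omega)

/-- `p = 3`. -/
theorem Pr.eq_three (P : Pr p n A z T) : p = 3 := by
  haveI := two_fact
  by_contra hp3
  have E := P.ext
  have hp1 := hpf.out.one_lt
  obtain ⟨B₁, B₂, -, hB₁, hB₂, -, h12, -, -, hH⟩ := P.exists_three
  obtain ⟨L₁, hL₁, hL₁c, hL₁8⟩ := P.exists_ab hB₁ hp3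
  obtain ⟨L₂, hL₂, hL₂c, hL₂8⟩ := P.exists_ab hB₂ hp3
  have hcc : ∀ a ∈ L₁, ∀ b ∈ L₂, a * b = b * a := by
    intro a ha b hb
    exact P.comm_SB hB₂.hp hB₁.hp h12.symm (Subgroup.mem_inf.1 (hL₁ ha)).1
      (Subgroup.mem_inf.1 (hL₁ ha)).2 (Subgroup.mem_inf.1 (hL₂ hb)).1 (Subgroup.mem_inf.1 (hL₂ hb)).2
  have hLc := comm_sup hL₁c hL₂c hcc
  set L := L₁ ⊔ L₂ with hL
  have hLQ : L ≤ ⁅T, A⁆ := sup_le (hL₁.trans inf_le_left) (hL₂.trans inf_le_left)
  have hinf : Nat.card (L₁ ⊓ L₂ : Subgroup G) ≤ 2 := by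
    have h1 : L₁ ⊓ L₂ ≤ zpowers z := by
      intro x hx
      obtain ⟨hx1, hx2⟩ := Subgroup.mem_inf.1 hx
      rw [mem_zpowers_sq P.z2]
      have h3 := cent_sup (hB₁.hp.sup hB₂.hp h12) (Subgroup.mem_inf.1 (hL₁ hx1)).2
        (Subgroup.mem_inf.1 (hL₂ hx2)).2
      exact E.cenA x (Subgroup.mem_inf.1 (hL₁ hx1)).1 (fun a ha => (mem_cent.1 h3 a ha).symm)
    have h2 := Nat.card_le_card_of_injective _ (Subgroup.inclusion_injective h1)
    rwa [Nat.card_zpowers, orderOf_eq_prime P.z2 P.z1] at h2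
  have hprod := card_sup_mul_inf (H := L₁) (K := L₂) (norm_of (by
    intro a ha x hx
    rw [hcc a ha x hx, mul_inv_cancel_right]; exact hx))
  rw [← hL] at hprod
  have hL32 : 32 ≤ Nat.card L := by
    have h1 : Nat.card L * Nat.card (L₁ ⊓ L₂ : Subgroup G) ≤ Nat.card L * 2 :=
      Nat.mul_le_mul_left _ hinf
    rw [hprod] at h1
    nlinarith
  -- the involutions of L
  let Ω : Subgroup G :=
    { carrier := {g | g ∈ L ∧ g ^ 2 = 1}
      one_mem' := ⟨L.one_mem, one_pow 2⟩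
      mul_mem' := by
        rintro a b ⟨ha, ha2⟩ ⟨hb, hb2⟩
        refine ⟨L.mul_mem ha hb, ?_⟩
        rw [(show Commute a b from hLc a ha b hb).mul_pow, ha2, hb2, one_mul]
      inv_mem' := by
        rintro a ⟨ha, ha2⟩
        exact ⟨L.inv_mem ha, by rw [inv_pow, ha2, inv_one]⟩ }
  have hΩL : Ω ≤ L := fun x hx => hx.1
  have hΩe : Cfsg.IsElementaryAbelian 2 Ω :=
    H30.isElementaryAbelian_iff.2 ⟨fun a ha b hb => hLc a ha.1 b hb.1, fun a ha => ha.2⟩
  have hΩc : Nat.card L ≤ 2 * Nat.card Ω := by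
    apply card_le_two_mul
    intro s hs t ht hs1 ht1
    have key : ∀ s ∈ L, s ∉ Ω → s ^ 2 = z := by
      intro s hs hs1
      rcases E.sq s (hLQ hs) with h1 | h1
      · exact absurd (show s ∈ Ω from ⟨hs, h1⟩) hs1
      · exact h1
    refine ⟨L.mul_mem (L.inv_mem hs) ht, ?_⟩
    rw [(show Commute s⁻¹ t from hLc s⁻¹ (L.inv_mem hs) t ht).mul_pow, inv_pow, key s hs hs1,
      key t ht ht1, inv_mul_cancel]
  have hH' : (B₁ ⊓ B₂ : Subgroup G) ≤ A := inf_le_left.trans hB₁.hp.le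
  have h5 := rb P.h (P.elemB hH') hH hΩe (by
    intro b hb e he
    obtain ⟨hb1, hb2⟩ := Subgroup.mem_inf.1 hb
    obtain ⟨x, hx, y, hy, rfl⟩ := (H30.mem_sup_of_commute hcc).1 (hΩL he)
    have h6 : x * b = b * x := mem_cent.1 (Subgroup.mem_inf.1 (hL₁ hx)).2 b hb1
    have h7 : y * b = b * y := mem_cent.1 (Subgroup.mem_inf.1 (hL₂ hy)).2 b hb2
    rw [← mul_assoc, ← h6, mul_assoc, ← h7, mul_assoc]) (m := 4) (by norm_num) (by
      have : 2 ^ 4 = 16 := by norm_num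
      omega)
  have h6 : 0 < Nat.card (B₁ ⊓ B₂ : Subgroup G) := Nat.card_pos
  have hcard : Nat.card (B₁ ⊓ B₂ : Subgroup G) * p * p = p ^ n := by
    rw [HP.inf P.elem hB₁.hp hB₂.hp h12, hB₁.hp.card, P.card]
  rw [← hcard] at h5
  have h7 : p ^ (4 - 1) ≤ p * p := by
    apply Nat.le_of_mul_le_mul_left _ h6
    calc _ ≤ _ := h5
      _ = _ := by ring
  rw [← pow_two] at h7
  have := (Nat.pow_le_pow_iff_right hp1).1 h7
  omega

end Cfsg.Agent.H64.KM
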