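import Cfsg.Agent.H64.KM4

set_option autoImplicit false
set_option linter.style.haveILetI false
set_option linter.unusedSectionVars false

/-! Klinger-Mason: `S_B` is a quaternion group; `[T, [T,A]] ≤ ⟨z⟩`. -/

namespace Cfsg.Agent.H64.KM

open Subgroup
open scoped commutatorElement

variable {G : Type*} [Group G]

variable [Finite G] {p n : ℕ} [hpf : Fact p.Prime] {A T : Subgroup G} {z : G}

theorem Pr.SB_norm (P : Pr p n A z T) {B : Subgroup G} (hB : HP p A B) :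
    A ≤ normalizer ((⁅T, A⁆ ⊓ centralizer (B : Set G) : Subgroup G) : Set G) :=
  norm_inf P.norm1 (norm_cent_sub P.elem hB.le)

/-- (e1): elements of `S_B ∖ ⟨z⟩` have square `z`. -/
theorem Pr.e1 (P : Pr p n A z T) {B : Subgroup G} (hB : HP p A B) {u : G} (hu : u ∈ ⁅T, A⁆)
    (huB : u ∈ centralizer (B : Set G)) (hu1 : u ≠ 1) (huz : u ≠ z) : u ^ 2 = z := by
  haveI := two_fact
  have E := P.ext
  rcases E.sq u hu with hu2 | hu2
  swap
  · exact hu2
  exfalso
  have hp3 := P.eq_three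
  subst hp3
  obtain ⟨a, ha, haB⟩ := hB.exists_not_mem
  have ha3 : a ^ 3 = 1 := (H30.isElementaryAbelian_iff.1 P.elem).2 a ha
  set Q := ⁅T, A⁆ with hQ
  set S := Q ⊓ centralizer (B : Set G) with hS
  have hAS := P.SB_norm hB
  have huS : u ∈ S := Subgroup.mem_inf.2 ⟨hu, huB⟩
  set u₁ := a * u * a⁻¹ with hu₁
  have hu₁S : u₁ ∈ S := norm_mem hAS ha huS
  set u₂ := a * u₁ * a⁻¹ with hu₂
  have hu₂S : u₂ ∈ S := norm_mem hAS ha hu₁S
  have h3 : a * u₂ * a⁻¹ = u := by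
    calc a * u₂ * a⁻¹ = a ^ 3 * u * (a ^ 3)⁻¹ := by
          rw [hu₂, hu₁, pow_succ, pow_two]; group
      _ = u := by rw [ha3]; group
  have haz := P.comm a ha
  have hzc : a * z * a⁻¹ = z := conj_eq_iff.2 haz
  have hQS : S ≤ Q := inf_le_left
  have hu₁2 : u₁ ^ 2 = 1 := by rw [hu₁, conj_pow, hu2, mul_one, mul_inv_cancel]
  have hu₂2 : u₂ ^ 2 = 1 := by rw [hu₂, conj_pow, hu₁2, mul_one, mul_inv_cancel]
  have hmov := P.moved hB hu huB hu1 huz ha haB
  have hne1 : u₁ ≠ u := by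
    intro h
    apply hmov
    exact ⟨haz, Or.inl (conj_eq_iff.1 h)⟩
  have hne2 : u₁ ≠ z * u := by
    intro h
    apply hmov
    refine ⟨haz, Or.inr ?_⟩
    have : a * u * a⁻¹ = z * u := h
    calc a * u = (a * u * a⁻¹) * a := by group
      _ = z * (u * a) := by rw [this]; group
  have hu₁1 : u₁ ≠ 1 := by
    intro h
    apply hu1
    calc u = a⁻¹ * u₁ * a := by rw [hu₁]; group
      _ = 1 := by rw [h]; group
  have hu₁z : u₁ ≠ z := by
    intro h
    apply huz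
    calc u = a⁻¹ * u₁ * a := by rw [hu₁]; group
      _ = a⁻¹ * (z * a) := by rw [h]; group
      _ = z := by rw [← haz]; group
  have hzu : z * u = u * z := (P.cz1 hu).symm
  have hzu₁ : z * u₁ = u₁ * z := (P.cz1 (hQS hu₁S)).symm
  -- u and u₁ do not commute
  have hnc : u * u₁ = z * (u₁ * u) := by
    rcases E.comm2 u hu u₁ (hQS hu₁S) with h | h
    · exfalso
      obtain ⟨F, hF, hF8, -, -, -, hFm⟩ := exists_elem8 P.z2 hu2 hu₁2 hzu hzu₁ h P.z1 hu1 huz
        hu₁1 hu₁z hne1 hne2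
      refine no_rank3 P.h P.card hB (P.elemB hB.le) hF ?_ hF8.ge
      intro b hb e he
      have h1 : F ≤ centralizer (B : Set G) :=
        hFm _ (mem_cent.2 fun b hb => (P.comm b (hB.le hb)).symm) huB (Subgroup.mem_inf.1 hu₁S).2
      exact (mem_cent.1 (h1 he) b hb).symm
    · exact h
  have hconj : ∀ x y w : G, x * y = z * w → (a * x * a⁻¹) * (a * y * a⁻¹) = z * (a * w * a⁻¹) := by
    intro x y w hxy
    calc (a * x * a⁻¹) * (a * y * a⁻¹) = a * (x * y) * a⁻¹ := by group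
      _ = (a * z * a⁻¹) * (a * w * a⁻¹) := by rw [hxy]; group
      _ = z * (a * w * a⁻¹) := by rw [hzc]
  have hnc1 : u₁ * u₂ = z * (u₂ * u₁) := by
    have := hconj _ _ _ hnc
    rw [← hu₁, ← hu₂] at this
    rw [this, hu₂, hu₁]; group
  have hnc2 : u₂ * u = z * (u * u₂) := by
    have := hconj _ _ _ hnc1
    rw [← hu₂, h3] at this
    rw [this]
    have h4 : a * (u₂ * u₁) * a⁻¹ = (a * u₂ * a⁻¹) * (a * u₁ * a⁻¹) := by group
    rw [h4, h3]
  have hnc' : u₁ * u = z * (u * u₁) := by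
    rw [hnc, ← mul_assoc, P.zz, one_mul]
  set v := u * u₁ * u₂ with hv
  have hvS : v ∈ S := S.mul_mem (S.mul_mem huS hu₁S) hu₂S
  have hav : a * v * a⁻¹ = v := by
    have h4 : a * v * a⁻¹ = (a * u * a⁻¹) * (a * u₁ * a⁻¹) * (a * u₂ * a⁻¹) := by rw [hv]; group
    rw [h4, h3, ← hu₁, ← hu₂]
    calc u₁ * u₂ * u = u₁ * (u₂ * u) := by group
      _ = (u₁ * z) * (u * u₂) := by rw [hnc2]; group
      _ = z * (u₁ * u) * u₂ := by rw [← hzu₁]; group
      _ = (z * z) * (u * u₁) * u₂ := by rw [hnc']; group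
      _ = v := by rw [P.zz, hv]; group
  have hvA : v ∈ centralizer (A : Set G) := by
    refine cent_sup (B := B) (B' := zpowers a) (P.commABsup hB ha haB) (Subgroup.mem_inf.1 hvS).2 ?_
    exact mem_cent_zpowers (conj_eq_iff.1 hav).symm
  have hv2 : v ^ 2 = 1 := by
    rcases E.cenA v (hQS hvS) (fun a ha => (mem_cent.1 hvA a ha).symm) with h | h
    · rw [h, one_pow]
    · rw [h]; exact P.z2
  have hv2' : v ^ 2 = z := by
    have e1 : u₂ * u * u₁ = u * u₁ * u₂ := by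
      calc u₂ * u * u₁ = z * u * (u₂ * u₁) := by rw [hnc2]; group
        _ = u * (z * (u₂ * u₁)) := by rw [hzu]; group
        _ = u * u₁ * u₂ := by rw [← hnc1]; group
    have hu₂u₂ : u₂ * u₂ = 1 := by rw [← pow_two]; exact hu₂2
    have huu : u * u = 1 := by rw [← pow_two]; exact hu2
    have hu₁u₁ : u₁ * u₁ = 1 := by rw [← pow_two]; exact hu₁2
    calc v ^ 2 = u * u₁ * (u₂ * u * u₁) * u₂ := by rw [hv, pow_two]; group
      _ = u * u₁ * (u * u₁) * (u₂ * u₂) := by rw [e1]; group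
      _ = u * (u₁ * u) * u₁ := by rw [hu₂u₂]; group
      _ = (u * z) * u * (u₁ * u₁) := by rw [hnc']; group
      _ = z * (u * u) := by rw [hu₁u₁, ← hzu]; group
      _ = z := by rw [huu, mul_one]
  exact P.z1 (hv2'.symm.trans hv2)

/-- (e2) -/
theorem Pr.e2 (P : Pr p n A z T) {B : Subgroup G} (hB : HP p A B) {x y : G} (hx : x ∈ ⁅T, A⁆)
    (hxB : x ∈ centralizer (B : Set G)) (hx1 : x ≠ 1) (hxz : x ≠ z) (hy : y ∈ ⁅T, A⁆)
    (hyB : y ∈ centralizer (B : Set G)) (hy1 : y ≠ 1) (hyz : y ≠ z) (hyx : y ≠ x) (hyzx : y ≠ z * x) :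
    x * y = z * (y * x) := by
  have E := P.ext
  rcases E.comm2 x hx y hy with h | h
  swap
  · exact h
  exfalso
  have hx2 := P.e1 hB hx hxB hx1 hxz
  have hy2 := P.e1 hB hy hyB hy1 hyz
  have hxy2 : (x * y) ^ 2 = 1 := by
    rw [(show Commute x y from h).mul_pow, hx2, hy2, P.zz]
  have hzx := (P.cz1 hx).symm
  have hxinv : x⁻¹ = z * x := by
    rw [inv_eq_iff_mul_eq_one]
    calc x * (z * x) = (x * z) * x := by group
      _ = z * (x ^ 2) := by rw [← hzx, pow_two]; group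
      _ = 1 := by rw [hx2, P.zz]
  by_cases h1 : x * y = 1
  · apply hyzx
    rw [← hxinv]
    exact (eq_inv_of_mul_eq_one_right h1)
  · by_cases h2 : x * y = z
    · apply hyx
      have h3 : y = x⁻¹ * z := by rw [← h2]; group
      rw [h3, hxinv, mul_assoc, ← hzx, ← mul_assoc, P.zz, one_mul]
    · have h3 := P.e1 hB (mul_mem hx hy) (mul_mem hxB hyB) h1 h2
      rw [hxy2] at h3
      exact P.z1 h3.symm

/-- (e4) -/
theorem Pr.e4 (P : Pr p n A z T) {B : Subgroup G} (hB : HP p A B) {x w y : G} (hx : x ∈ ⁅T, A⁆)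
    (hxB : x ∈ centralizer (B : Set G)) (hx1 : x ≠ 1) (hxz : x ≠ z)
    (hw : w ∈ ⁅T, A⁆) (hwB : w ∈ centralizer (B : Set G)) (hw1 : w ≠ 1) (hwz : w ≠ z)
    (hwx : w ≠ x) (hwzx : w ≠ z * x) (hy : y ∈ ⁅T, A⁆)
    (hyB : y ∈ centralizer (B : Set G)) (hy1 : y ≠ 1) (hyz : y ≠ z) :
    y = x ∨ y = z * x ∨ y = w ∨ y = z * w ∨ y = x * w ∨ y = z * (x * w) := by
  by_contra hcon
  push Not at hcon
  obtain ⟨c1, c2, c3, c4, c5, c6⟩ := hcon
  have hx2 := P.e1 hB hx hxB hx1 hxz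
  have hzx := (P.cz1 hx).symm
  have hzw := (P.cz1 hw).symm
  have h1 := P.e2 hB hx hxB hx1 hxz hy hyB hy1 hyz c1 c2
  have h2 := P.e2 hB hw hwB hw1 hwz hy hyB hy1 hyz c3 c4
  have hxinv : x⁻¹ = z * x := by
    rw [inv_eq_iff_mul_eq_one]
    calc x * (z * x) = (x * z) * x := by group
      _ = z * (x ^ 2) := by rw [← hzx, pow_two]; group
      _ = 1 := by rw [hx2, P.zz]
  have hxw1 : x * w ≠ 1 := by
    intro h
    apply hwzx
    rw [← hxinv]
    exact eq_inv_of_mul_eq_one_right h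
  have hxwz : x * w ≠ z := by
    intro h
    apply hwx
    have h3 : w = x⁻¹ * z := by rw [← h]; group
    rw [h3, hxinv, mul_assoc, ← hzx, ← mul_assoc, P.zz, one_mul]
  have h3 := P.e2 hB (mul_mem hx hw) (mul_mem hxB hwB) hxw1 hxwz hy hyB hy1 hyz c5 c6
  have h4 : x * w * y = y * (x * w) := by
    calc x * w * y = x * (w * y) := by group
      _ = (x * z) * y * w := by rw [h2]; group
      _ = z * (x * y) * w := by rw [← hzx]; group
      _ = (z * z) * (y * x) * w := by rw [h1]; group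
      _ = y * (x * w) := by rw [P.zz]; group
  rw [h4] at h3
  apply P.z1
  have h5 : z = z * (y * (x * w)) * (y * (x * w))⁻¹ := by group
  rw [h5, ← h3, mul_inv_cancel]

theorem Pr.conjSB (P : Pr p n A z T) {B : Subgroup G} (hB : HP p A B) {x a : G} (hx : x ∈ ⁅T, A⁆)
    (hxB : x ∈ centralizer (B : Set G)) (hx1 : x ≠ 1) (hxz : x ≠ z) (ha : a ∈ A) (haB : a ∉ B) :
    a * x * a⁻¹ ∈ ⁅T, A⁆ ∧ a * x * a⁻¹ ∈ centralizer (B : Set G) ∧ a * x * a⁻¹ ≠ 1 ∧
      a * x * a⁻¹ ≠ z ∧ a * x * a⁻¹ ≠ x ∧ a * x * a⁻¹ ≠ z * x := by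
  have h1 := norm_mem (P.SB_norm hB) ha (Subgroup.mem_inf.2 ⟨hx, hxB⟩)
  have hmov := P.moved hB hx hxB hx1 hxz ha haB
  have haz := P.comm a ha
  refine ⟨(Subgroup.mem_inf.1 h1).1, (Subgroup.mem_inf.1 h1).2, ?_, ?_, ?_, ?_⟩
  · intro h
    apply hx1
    calc x = a⁻¹ * (a * x * a⁻¹) * a := by group
      _ = 1 := by rw [h]; group
  · intro h
    apply hxz
    calc x = a⁻¹ * (a * x * a⁻¹) * a := by group
      _ = a⁻¹ * (z * a) := by rw [h]; group
      _ = z := by rw [← haz]; group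
  · intro h
    exact hmov ⟨haz, Or.inl (conj_eq_iff.1 h)⟩
  · intro h
    refine hmov ⟨haz, Or.inr ?_⟩
    calc a * x = (a * x * a⁻¹) * a := by group
      _ = z * (x * a) := by rw [h]; group

/-- an element of order 3 (mod stuff) and a commuting 2-element -/
theorem Pr.not_CZ_aux (P : Pr p n A z T) {B : Subgroup G} (hB : HP p A B) {x a c : G} (hx : x ∈ ⁅T, A⁆)
    (hxB : x ∈ centralizer (B : Set G)) (hx1 : x ≠ 1) (hxz : x ≠ z) (ha : a ∈ A) (haB : a ∉ B)
    (hc : c ∈ T) (hca : c * a = a * c) : a⁻¹ * c ∉ CZ z x P.z2 := by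
  intro hM
  obtain ⟨k, hk⟩ := P.o2.isP ⟨c, hc⟩
  have hk' : c ^ 2 ^ k = 1 := congrArg Subtype.val hk
  have h1 : (a⁻¹ * c) ^ 2 ^ k = a⁻¹ ^ 2 ^ k := by
    have : Commute a⁻¹ c := (show Commute a c from hca.symm).inv_left
    rw [this.mul_pow, hk', mul_one]
  have h2 : a⁻¹ ^ 2 ^ k ∈ CZ z x P.z2 := by rw [← h1]; exact pow_mem hM _
  have hap : a ^ p = 1 := (H30.isElementaryAbelian_iff.1 P.elem).2 a ha
  have hcop : Nat.Coprime (2 ^ k) p := Nat.Coprime.pow_left _ (coprime_two P.h.hp2)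
  have h3 : a ^ 2 ^ k ∈ CZ z x P.z2 := by
    rw [inv_pow] at h2
    exact (Subgroup.inv_mem_iff _).1 h2
  have h4 : a ∈ CZ z x P.z2 := by
    have h5 : a ∈ zpowers (a ^ 2 ^ k) := by
      have h6 : orderOf a ∣ p := orderOf_dvd_of_pow_eq_one hap
      have h7 : (orderOf a).Coprime (2 ^ k) := (hcop.coprime_dvd_right h6).symm
      have h8 : Nat.Coprime (Nat.card (zpowers a)) (2 ^ k) := by rw [Nat.card_zpowers]; exact h7
      obtain ⟨j, hj⟩ := exists_pow_eq_self_of_coprime h7.symm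
      exact ⟨j, by simpa using hj⟩
    exact (zpowers_le.2 h3) h5
  exact P.moved hB hx hxB hx1 hxz ha haB h4

/-- (f1) -/
theorem Pr.f1 (P : Pr p n A z T) {c : G} (hc : c ∈ T) (hcA : ∀ a ∈ A, a * c = c * a) :
    ⁅T, A⁆ ≤ CZ z c P.z2 := by
  haveI := two_fact
  have E := P.ext
  have hcz := P.o2.cz c hc
  have h1z : ∀ x, (x = 1 ∨ x = z) → x ∈ CZ z c P.z2 := by
    rintro x (rfl | rfl)
    · exact one_mem _
    · exact ⟨rfl, Or.inl hcz.symm⟩
  refine gen_hyp P.h.hp2 P.elem P.isP1 P.norm1 ?_ ?_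
  · intro x hx
    obtain ⟨hx1, hx2⟩ := Subgroup.mem_inf.1 hx
    exact h1z x (E.cenA x hx1 (fun a ha => (mem_cent.1 hx2 a ha).symm))
  · intro B hB x hx
    obtain ⟨hx1, hx2⟩ := Subgroup.mem_inf.1 hx
    by_cases hx3 : x = 1 ∨ x = z
    · exact h1z x hx3
    push Not at hx3
    obtain ⟨a, ha, haB⟩ := hB.exists_not_mem
    have hcac := (hcA a ha).symm
    have haz := P.comm a ha
    -- y = c x c⁻¹
    have hcB : c ∈ centralizer (B : Set G) := mem_cent.2 fun b hb => (hcA b (hB.le hb)).symm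
    set y := c * x * c⁻¹ with hy
    have hyQ : y ∈ ⁅T, A⁆ := norm_mem P.norm1T hc hx1
    have hyB : y ∈ centralizer (B : Set G) := mul_mem (mul_mem hcB hx2) (inv_mem hcB)
    have hxy : x = c⁻¹ * y * c := by rw [hy]; group
    have hy1 : y ≠ 1 := by
      intro h
      apply hx3.1
      rw [hxy, h]; group
    have hyz : y ≠ z := by
      intro h
      apply hx3.2
      rw [hxy, h, mul_assoc, ← hcz]; group
    obtain ⟨w1, w2, w3, w4, w5, w6⟩ := P.conjSB hB hx1 hx2 hx3.1 hx3.2 ha haB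
    have ha2 : a ^ 2 ∈ A := A.pow_mem ha 2
    have ha2B : a ^ 2 ∉ B := by
      intro h
      apply haB
      have hap : a ^ p = 1 := (H30.isElementaryAbelian_iff.1 P.elem).2 a ha
      have hodd : p % 2 = 1 := by
        rcases hpf.out.eq_two_or_odd with h3 | h3
        · exact absurd h3 P.h.hp2
        · exact h3
      have h2 : a = (a ^ 2) ^ ((p + 1) / 2) := by
        rw [← pow_mul, Nat.mul_div_cancel' (by omega), pow_succ, hap, one_mul]
      rw [h2]; exact pow_mem h _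
    obtain ⟨v1, v2, v3, v4, v5, v6⟩ := P.conjSB hB hx1 hx2 hx3.1 hx3.2 ha2 ha2B
    -- general contradiction
    have hzx : z * x = x * z := (P.cz1 hx1).symm
    have hbad : ∀ b ∈ A, b ∉ B → ¬ (y = b * x * b⁻¹ ∨ y = z * (b * x * b⁻¹)) := by
      intro b hb hbB hyb
      apply P.not_CZ_aux hB hx1 hx2 hx3.1 hx3.2 hb hbB hc (hcA b hb).symm
      have hbz := P.comm b hb
      have hbz' : b⁻¹ * z = z * b⁻¹ := (show Commute b z from hbz).inv_left.eq
      refine ⟨by rw [mul_assoc, hcz, ← mul_assoc, hbz', mul_assoc], ?_⟩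
      have h0 : c * x = y * c := by rw [hy]; group
      rcases hyb with h | h
      · left
        calc b⁻¹ * c * x = b⁻¹ * (c * x) := by group
          _ = x * (b⁻¹ * c) := by rw [h0, h]; group
      · right
        calc b⁻¹ * c * x = b⁻¹ * (c * x) := by group
          _ = (b⁻¹ * z) * (b * x * b⁻¹) * c := by rw [h0, h]; group
          _ = z * (x * (b⁻¹ * c)) := by rw [hbz']; group
    have hzz := P.zz
    have h4 := P.e4 hB hx1 hx2 hx3.1 hx3.2 w1 w2 w3 w4 w5 w6 hyQ hyB hy1 hyz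
    have h5 := P.e4 hB hx1 hx2 hx3.1 hx3.2 w1 w2 w3 w4 w5 w6 v1 v2 v3 v4
    -- a²xa⁻² ∈ {xw, zxw}
    have hmov := P.moved hB hx1 hx2 hx3.1 hx3.2 ha haB
    have hb1 : a ^ 2 * x * (a ^ 2)⁻¹ ≠ a * x * a⁻¹ := by
      intro h
      apply w5
      have e1 : a ^ 2 * x * (a ^ 2)⁻¹ = a * (a * x * a⁻¹) * a⁻¹ := by rw [pow_two]; group
      rw [e1] at h
      have e2 : a * x * a⁻¹ = a⁻¹ * (a * (a * x * a⁻¹) * a⁻¹) * a := by group
      rw [e2, h]; group
    have hb2 : a ^ 2 * x * (a ^ 2)⁻¹ ≠ z * (a * x * a⁻¹) := by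
      intro h
      apply w6
      have e1 : a ^ 2 * x * (a ^ 2)⁻¹ = a * (a * x * a⁻¹) * a⁻¹ := by rw [pow_two]; group
      rw [e1] at h
      have haz' : a⁻¹ * z = z * a⁻¹ := (show Commute a z from haz).inv_left.eq
      calc a * x * a⁻¹ = a⁻¹ * (a * (a * x * a⁻¹) * a⁻¹) * a := by group
        _ = (a⁻¹ * z) * (a * x * a⁻¹) * a := by rw [h]; group
        _ = z * x := by rw [haz']; group
    have h6 : a ^ 2 * x * (a ^ 2)⁻¹ = x * (a * x * a⁻¹) ∨ a ^ 2 * x * (a ^ 2)⁻¹ = z * (x * (a * x * a⁻¹)) := by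
      rcases h5 with h | h | h | h | h | h
      · exact absurd h v5
      · exact absurd h v6
      · exact absurd h hb1
      · exact absurd h hb2
      · exact Or.inl h
      · exact Or.inr h
    have hxz' : x * z = z * x := hzx.symm
    refine ⟨hxz', ?_⟩
    have hfin : y = x ∨ y = z * x := by
      rcases h4 with h | h | h | h | h | h
      · exact Or.inl h
      · exact Or.inr h
      · exact absurd (Or.inl h) (hbad a ha haB)
      · exact absurd (Or.inr h) (hbad a ha haB)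
      · exfalso
        apply hbad (a ^ 2) ha2 ha2B
        rcases h6 with h7 | h7
        · left; rw [h7]; exact h
        · right; rw [h7, h, ← mul_assoc z z, hzz, one_mul]
      · exfalso
        apply hbad (a ^ 2) ha2 ha2B
        rcases h6 with h7 | h7
        · right; rw [h7]; exact h
        · left; rw [h7]; exact h
    have h0 : c * x = y * c := by rw [hy]; group
    rcases hfin with h | h
    · left; rw [h0, h]
    · right
      rw [h0, h, ← mul_assoc, ← mul_assoc, hzz, one_mul]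

/-- (f2): `[T, [T,A]] ≤ ⟨z⟩`. -/
theorem Pr.f2 (P : Pr p n A z T) {t x : G} (ht : t ∈ T) (hx : x ∈ ⁅T, A⁆) :
    t * x = x * t ∨ t * x = z * (x * t) := by
  haveI := two_fact
  have E := P.ext
  have hdec := Cop.commutator_sup_centralizer P.normT (P.cop P.o2.isP) (Or.inl P.solvA)
  have h1 : T ≤ CZ z x P.z2 := by
    refine hdec.ge.trans (sup_le ?_ ?_)
    · intro y hy
      exact ⟨P.cz1 hy, E.comm2 y hy x hx⟩
    · intro c hc
      obtain ⟨hc1, hc2⟩ := Subgroup.mem_inf.1 hc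
      have h2 := P.f1 hc1 (fun a ha => (mem_cent.1 hc2 a ha).symm) hx
      refine ⟨P.o2.cz c hc1, ?_⟩
      rcases h2.2 with h | h
      · left; exact h.symm
      · right; rw [h, ← mul_assoc, P.zz, one_mul]
  exact (h1 ht).2

/-- (f3) -/
theorem Pr.f3 (P : Pr p n A z T) {g : G} (hg : g ∈ T) (hc : ∀ x ∈ ⁅T, A⁆, g * x = x * g) :
    ∀ a ∈ A, a * g = g * a := by
  haveI := two_fact
  have E := P.ext
  set X := T ⊓ centralizer ((⁅T, A⁆ : Subgroup G) : Set G) with hX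
  have hAX : A ≤ normalizer (X : Set G) := norm_inf P.normT (norm_cent P.norm1)
  have hX2 : IsPGroup 2 X := P.o2.isP.to_le inf_le_left
  have h1 : ⁅X, A⁆ ≤ centralizer (A : Set G) := by
    intro x hx
    have h2 : x ∈ ⁅T, A⁆ := (commutator_mono inf_le_left le_rfl) hx
    have h3 : x ∈ X := (le_normalizer_iff_commutator_le_left.1 hAX) hx
    exact two_mem_one_z (E.cen x h2 (mem_cent.1 (Subgroup.mem_inf.1 h3).2)) P.zA
  have h3 := Cop.commutator_commutator_eq hAX (P.cop hX2) (Or.inl P.solvA)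
  rw [(commutator_eq_bot_iff_le_centralizer).2 h1] at h3
  have h4 : X ≤ centralizer (A : Set G) := (commutator_eq_bot_iff_le_centralizer).1 h3.symm
  have h5 : g ∈ X := Subgroup.mem_inf.2 ⟨hg, mem_cent.2 hc⟩
  intro a ha
  exact (mem_cent.1 (h4 h5) a ha).symm

/-- (f4) -/
theorem Pr.f4 (P : Pr p n A z T) {g : G} (hg : g ∈ T) (hg1 : g ≠ 1)
    (hc : ∀ a ∈ A, a * g = g * a) : ∃ k : ℕ, g ^ k = z := by
  haveI := two_fact
  obtain ⟨k, hk1, hk2⟩ := exists_pow_order P.o2.isP hg hg1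
  refine ⟨k, ?_⟩
  rcases P.uniq hk2 (P.o2.cz _ (T.pow_mem hg k))
    (fun a ha => (Commute.pow_right (show Commute a g from hc a ha) k).eq) with h | h
  · exact absurd h hk1
  · exact h

end Cfsg.Agent.H64.KM
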