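import Cfsg.Agent.H64.KM5

set_option autoImplicit false
set_option linter.style.haveILetI false
set_option linter.unusedSectionVars false

/-! Klinger-Mason: `S_B` centralizes `C_{P_H}(z)`. -/

namespace Cfsg.Agent.H64.KM

open Subgroup
open scoped commutatorElement

variable {G : Type*} [Group G]

variable [Finite G] {p n : ℕ} [hpf : Fact p.Prime] {A T : Subgroup G} {z : G}

theorem Pr.exists_quat (P : Pr p n A z T) {B : Subgroup G} (hB : Pr.Big p A z T B) :
    ∃ i j : G, i ∈ ⁅T, A⁆ ∧ i ∈ centralizer (B : Set G) ∧ j ∈ ⁅T, A⁆ ∧ j ∈ centralizer (B : Set G) ∧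
      i ^ 2 = z ∧ j ^ 2 = z ∧ i * j = z * (j * i) := by
  obtain ⟨x, hx, hxB, hx1, hxz⟩ := hB.ex
  obtain ⟨a, ha, haB⟩ := hB.hp.exists_not_mem
  obtain ⟨w1, w2, w3, w4, w5, w6⟩ := P.conjSB hB.hp hx hxB hx1 hxz ha haB
  exact ⟨x, a * x * a⁻¹, hx, hxB, w1, w2, P.e1 hB.hp hx hxB hx1 hxz, P.e1 hB.hp w1 w2 w3 w4,
    P.e2 hB.hp hx hxB hx1 hxz w1 w2 w3 w4 w5 w6⟩

/-- a coprime fixed point lemma -/
theorem fix_lemma {e c : G} (he : e ^ 2 = 1) {X H : Subgroup G} (hHX : H ≤ normalizer (X : Set G))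
    (hcop : (Nat.card H).Coprime (Nat.card X)) (hsol : Group.IsSolvable H)
    (hX : X ≤ CZ e c he) (hHe : ∀ h ∈ H, h * e = e * h) (hHc : ∀ h ∈ H, h * c = c * h)
    (hfix : X ⊓ centralizer (H : Set G) ≤ centralizer ({c} : Set G)) :
    X ≤ centralizer ({c} : Set G) := by
  have hdec := Cop.commutator_sup_centralizer hHX hcop (Or.inl hsol)
  refine hdec.ge.trans (sup_le ?_ hfix)
  rw [commutator_le]
  intro y hy b hb
  rw [mem_cent1, ← conj_eq_iff]
  have e1 : ⁅y, b⁆ * c * ⁅y, b⁆⁻¹ = c ↔ c * ⁅y, b⁆ * c⁻¹ = ⁅y, b⁆ := by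
    rw [conj_eq_iff, conj_eq_iff]; exact eq_comm
  rw [e1]
  have hcb : c * b * c⁻¹ = b := conj_eq_iff.2 (hHc b hb).symm
  have e2 : c * ⁅y, b⁆ * c⁻¹ = ⁅c * y * c⁻¹, c * b * c⁻¹⁆ := by
    rw [commutatorElement_def, commutatorElement_def]; group
  rw [e2, hcb]
  obtain ⟨hye, hyc⟩ := mem_CZ.1 (hX hy)
  have hee : e * e = 1 := by rw [← pow_two]; exact he
  rcases hyc with h | h
  · rw [← h, mul_inv_cancel_right]
  · have h1 : c * y * c⁻¹ = e * y := by
      have h2 : c * y = e * (y * c) := by rw [h, ← mul_assoc, hee, one_mul]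
      rw [h2]; group
    have hbe : b * e = e * b := hHe b hb
    rw [h1, commutatorElement_def, commutatorElement_def]
    have hb' : Commute e b := hbe.symm
    have hy' : Commute e y := hye.symm
    have h3 : Commute e (y * b * y⁻¹ * b⁻¹) :=
      ((hy'.mul_right hb').mul_right hy'.inv_right).mul_right hb'.inv_right
    calc e * y * b * (e * y)⁻¹ * b⁻¹ = e * (y * b * y⁻¹) * (e⁻¹ * b⁻¹) := by group
      _ = e * (y * b * y⁻¹) * (b⁻¹ * e⁻¹) := by rw [hb'.inv_inv.eq]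
      _ = (e * (y * b * y⁻¹ * b⁻¹)) * e⁻¹ := by group
      _ = y * b * y⁻¹ * b⁻¹ := by rw [h3.eq, mul_inv_cancel_right]

/-- (**) -/
theorem Pr.star (P : Pr p n A z T) {B H' R : Subgroup G} (hB : HP p A B) (hH' : H' ≤ B)
    (hR : PB p H' R) {s x : G} (hs : s ∈ ⁅T, A⁆) (hsB : s ∈ centralizer (B : Set G))
    (hx : x ∈ R) (hxz : x * z = z * x) : s * x = x * s := by
  haveI := two_fact
  have E := P.ext
  by_cases hs' : s = 1 ∨ s = z
  · rcases hs' with rfl | rfl
    · rw [one_mul, mul_one]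
    · exact hxz.symm
  push Not at hs'
  have hBig : Pr.Big p A z T B := ⟨hB, s, hs, hsB, hs'.1, hs'.2⟩
  obtain ⟨k, hk3, hk, -⟩ := P.card_SB hBig
  set S := ⁅T, A⁆ ⊓ centralizer (B : Set G) with hS
  have hS2 : IsPGroup 2 S := P.isP1.to_le inf_le_left
  have hsS : s ∈ S := Subgroup.mem_inf.2 ⟨hs, hsB⟩
  have hSQ : S ≤ ⁅T, A⁆ := inf_le_left
  have hSB : S ≤ centralizer (B : Set G) := inf_le_right
  have hSz : ∀ y ∈ S, y * z = z * y := fun y hy => P.cz1 (hSQ hy)
  have hzS : z ∈ S := Subgroup.mem_inf.2 ⟨E.zQ, mem_cent.2 fun b hb => (P.comm b (hB.le hb)).symm⟩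
  have hCC : centralizer (B : Set G) ≤ centralizer (H' : Set G) := centralizer_le hH'
  have hAH' : A ≤ centralizer (H' : Set G) := fun a ha =>
    mem_cent.2 fun b hb => P.acomm a ha b (hB.le (hH' hb))
  set U := R ⊓ centralizer ({z} : Set G) with hU
  have hSU : S ≤ normalizer (U : Set G) := norm_inf (hSB.trans (hCC.trans hR.norm)) (norm_cent1 hSz)
  have hAU : A ≤ normalizer (U : Set G) := norm_inf (hAH'.trans hR.norm) (norm_cent1 P.comm)
  set Rz := U ⊓ centralizer (B : Set G) with hRz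
  have hSRz : S ≤ normalizer (Rz : Set G) := norm_inf hSU (hSB.trans le_normalizer)
  have hARz : A ≤ normalizer (Rz : Set G) := norm_inf hAU (norm_cent_sub P.elem hB.le)
  have hRzz : ∀ y ∈ Rz, y * z = z * y := fun y hy =>
    mem_cent1.1 (Subgroup.mem_inf.1 (Subgroup.mem_inf.1 hy).1).2
  have hRz' : IsPGroup p Rz := hR.isP.to_le (inf_le_left.trans inf_le_left)
  have hrel : RelAct S Rz := by
    refine ⟨hSRz, hS2, ?_, ?_⟩
    · intro s hs t ht x hx
      rcases E.comm2 s (hSQ hs) t (hSQ ht) with h | h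
      · rw [h]
      · have h1 : (t * s) * x * (t * s)⁻¹ ∈ Rz := norm_mem hSRz (S.mul_mem ht hs) hx
        have h2 := hRzz _ h1
        rw [h]
        calc z * (t * s) * x * (z * (t * s))⁻¹ = z * ((t * s) * x * (t * s)⁻¹) * z⁻¹ := by group
          _ = (t * s) * x * (t * s)⁻¹ := by rw [← h2, mul_inv_cancel_right]
    · intro s hs x hx
      have h1 : s * (s * x * s⁻¹) * s⁻¹ = s ^ 2 * x * (s ^ 2)⁻¹ := by rw [pow_two]; group
      rw [h1]
      rcases E.sq s (hSQ hs) with h | h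
      · rw [h]; group
      · rw [h, ← hRzz x hx, mul_inv_cancel_right]
  have claim1 : S ≤ centralizer (Rz : Set G) := by
    by_contra hnc
    obtain ⟨s₀, hs₀, hs₀'⟩ := SetLike.not_le_iff_exists.1 hnc
    have hK : ∀ y ∈ S, y ∈ centralizer (Rz : Set G) → y = 1 ∨ y = z := by
      intro y hy hyc
      by_contra hyn
      push Not at hyn
      apply hs₀'
      obtain ⟨a, ha, haB⟩ := hB.exists_not_mem
      obtain ⟨w1, w2, w3, w4, w5, w6⟩ := P.conjSB hB (hSQ hy) (hSB hy) hyn.1 hyn.2 ha haB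
      have hwc : a * y * a⁻¹ ∈ centralizer (Rz : Set G) := norm_mem (norm_cent hARz) ha hyc
      have hzc : z ∈ centralizer (Rz : Set G) := mem_cent.2 fun v hv => (hRzz v hv).symm
      by_cases h1 : s₀ = 1 ∨ s₀ = z
      · exact two_mem_one_z h1 hzc
      push Not at h1
      rcases P.e4 hB (hSQ hy) (hSB hy) hyn.1 hyn.2 w1 w2 w3 w4 w5 w6 (hSQ hs₀) (hSB hs₀) h1.1 h1.2 with
        h | h | h | h | h | h <;> rw [h]
      · exact hyc
      · exact mul_mem hzc hyc
      · exact hwc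
      · exact mul_mem hzc hwc
      · exact mul_mem hyc hwc
      · exact mul_mem hzc (mul_mem hyc hwc)
    obtain ⟨W, hWR, hW, hSW, hWf⟩ := exists_elem P.h.hp2 _ rfl hrel hRz'
    have hinf : Nat.card (S ⊓ centralizer (W : Set G) : Subgroup G) ≤ 2 := by
      have h1 : S ⊓ centralizer (W : Set G) ≤ zpowers z := by
        intro y hy
        obtain ⟨hy1, hy2⟩ := Subgroup.mem_inf.1 hy
        rw [mem_zpowers_sq P.z2]
        exact hK y hy1 (mem_cent.2 (hWf y hy1 (mem_cent.1 hy2)))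
      have h2 := Nat.card_le_card_of_injective _ (Subgroup.inclusion_injective h1)
      rwa [Nat.card_zpowers, orderOf_eq_prime P.z2 P.z1] at h2
    have h8 : 8 ≤ Nat.card S := by
      rw [hk]
      calc 8 = 2 ^ 3 := rfl
        _ ≤ 2 ^ k := Nat.pow_le_pow_right (by norm_num) hk3
    have hV := (rank_bound P.h.hp2 hW 2 (hrel.sub hWR hSW) (by
      have : (2 : ℕ) ^ 2 = 4 := by norm_num
      rw [this]; omega)).1
    haveI : IsMulCommutative W := hW.1
    have hWp : IsPGroup p W := H30.isPGroup_of_isElementaryAbelian hW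
    have hdec := (H91.abelian_decomp S W hSW (card_coprime (coprime_two P.h.hp2) hS2 hWp)).1
    have hVW : ⁅W, S⁆ ≤ W := le_normalizer_iff_commutator_le_left.1 hSW
    set V := (⁅W, S⁆ : Subgroup G) with hVdef
    have hcomm : ∀ b ∈ B, ∀ v ∈ V, b * v = v * b := fun b hb v hv =>
      (mem_cent.1 (Subgroup.mem_inf.1 (hWR (hVW hv))).2 b hb).symm
    have hd : B ⊓ V = ⊥ := by
      rw [eq_bot_iff, ← hdec]
      intro y hy
      obtain ⟨hy1, hy2⟩ := Subgroup.mem_inf.1 hy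
      refine Subgroup.mem_inf.2 ⟨Subgroup.mem_inf.2 ⟨hVW hy2, mem_cent.2 ?_⟩, hy2⟩
      intro t ht
      exact (mem_cent.1 (hSB ht) y hy1).symm
    have h1 := H30.card_sup_of_commute hcomm hd
    have h2 := H30.isElementaryAbelian_sup (P.elemB hB.le) (H30.IsElementaryAbelian.mono hW hVW) hcomm
    have h3 := P.h.max h2 P.z1 P.z2 (by
      intro y hy
      obtain ⟨b, hb, v, hv, rfl⟩ := (H30.mem_sup_of_commute hcomm).1 hy
      rw [mul_assoc, hRzz v (hWR (hVW hv)), ← mul_assoc, P.comm b (hB.le hb), mul_assoc])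
    rw [h1, ← P.card, ← hB.card] at h3
    have h4 := Nat.le_of_mul_le_mul_left h3 Nat.card_pos
    have h5 : p ^ 1 < p ^ 2 := Nat.pow_lt_pow_right hpf.out.one_lt (by norm_num)
    rw [pow_one] at h5
    omega
  have hBp : IsPGroup p B := P.isPA.to_le hB.le
  have hScop : (Nat.card S).Coprime p := by
    rw [hk]; exact Nat.Coprime.pow_left _ (coprime_two P.h.hp2)
  have h1 := Cop.le_centralizer_of_AxB p (P := B) (Q := S) (U := U) hBp hScop
    (hR.isP.to_le inf_le_left)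
    (fun b hb => mem_cent.2 fun t ht => (mem_cent.1 (hSB ht) b hb).symm)
    (hB.le.trans hAU) hSU
    (by
      intro y hy
      exact mem_cent.2 fun t ht => (mem_cent.1 (claim1 ht) y hy).symm)
  exact mem_cent.1 (h1 hsS) x (Subgroup.mem_inf.2 ⟨hx, mem_cent1.2 hxz⟩)

end Cfsg.Agent.H64.KM
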