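import Cfsg.Agent.H64.KM6

set_option autoImplicit false
set_option linter.style.haveILetI false
set_option linter.unusedSectionVars false

/-! Klinger-Mason: the second pair `(A', e)`. -/

namespace Cfsg.Agent.H64.KM

open Subgroup
open scoped commutatorElement

variable {G : Type*} [Group G]

/-- the situation of the last step -/
structure Ctx (p n : ℕ) (A : Subgroup G) (z : G) (T A' : Subgroup G) (e : G) (T' H U : Subgroup G)
    (r r' : G) : Prop where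
  P : Pr p n A z T
  P' : Pr p n A' e T'
  eQ : e ∈ ⁅T, A⁆
  zT' : z ∉ T'
  HA' : H ≤ A'
  Hz : ∀ h ∈ H, h * z = z * h
  CQH : ∀ q ∈ ⁅T', A'⁆, (∀ h ∈ H, h * q = q * h) → q = 1 ∨ q = e
  zA' : ∀ a ∈ A', z * a * z⁻¹ ∈ A'
  UA' : U ≤ A'
  U1 : U ≠ ⊥
  Uz : ∀ u ∈ U, z * u * z⁻¹ = u⁻¹
  rT : r ∈ T
  r'T : r' ∈ T
  re : r * e = e * r
  r'e : r' * e = e * r'
  rr' : r * r' = z * (r' * r)

variable [Finite G] {p n : ℕ} [hpf : Fact p.Prime] {A T : Subgroup G} {z : G}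

theorem Pr.exists_ctx (P : Pr p n A z T) :
    ∃ (A' : Subgroup G) (e : G) (T' H U : Subgroup G) (r r' : G), Ctx p n A z T A' e T' H U r r' := by
  haveI := two_fact
  have E := P.ext
  have hp1 := hpf.out.one_lt
  have hp2 := P.h.hp2
  obtain ⟨B₁, B₂, B₃, hB₁, hB₂, hB₃, h12, h13, h23, hH⟩ := P.exists_three
  obtain ⟨i₁, j₁, i₁Q, i₁B, j₁Q, j₁B, i₁2, j₁2, ij₁⟩ := P.exists_quat hB₁
  obtain ⟨i₂, j₂, i₂Q, i₂B, j₂Q, j₂B, i₂2, j₂2, ij₂⟩ := P.exists_quat hB₂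
  obtain ⟨r, r', rQ, rB, r'Q, r'B, -, -, hrr'⟩ := P.exists_quat hB₃
  have hzz := P.zz
  -- commuting relations between the S_B
  have c12 : ∀ x y, x ∈ ⁅T, A⁆ → x ∈ centralizer (B₁ : Set G) → y ∈ ⁅T, A⁆ →
      y ∈ centralizer (B₂ : Set G) → x * y = y * x := fun x y hx hx' hy hy' =>
    P.comm_SB hB₂.hp hB₁.hp h12.symm hx hx' hy hy'
  have c13 : ∀ x y, x ∈ ⁅T, A⁆ → x ∈ centralizer (B₁ : Set G) → y ∈ ⁅T, A⁆ →
      y ∈ centralizer (B₃ : Set G) → x * y = y * x := fun x y hx hx' hy hy' =>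
    P.comm_SB hB₃.hp hB₁.hp h13.symm hx hx' hy hy'
  have c23 : ∀ x y, x ∈ ⁅T, A⁆ → x ∈ centralizer (B₂ : Set G) → y ∈ ⁅T, A⁆ →
      y ∈ centralizer (B₃ : Set G) → x * y = y * x := fun x y hx hx' hy hy' =>
    P.comm_SB hB₃.hp hB₂.hp h23.symm hx hx' hy hy'
  have hboth : ∀ x, x ∈ ⁅T, A⁆ → x ∈ centralizer (B₁ : Set G) → x ∈ centralizer (B₂ : Set G) →
      x = 1 ∨ x = z := fun x hx hx1 hx2 =>
    E.cenA x hx (fun a ha => (mem_cent.1 (cent_sup (hB₁.hp.sup hB₂.hp h12) hx1 hx2) a ha).symm)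
  have zB₁ : z ∈ centralizer (B₁ : Set G) := mem_cent.2 fun b hb => (P.comm b (hB₁.hp.le hb)).symm
  have zB₂ : z ∈ centralizer (B₂ : Set G) := mem_cent.2 fun b hb => (P.comm b (hB₂.hp.le hb)).symm
  set α := i₁ * i₂ with hα
  set β := j₁ * j₂ with hβ
  have αQ : α ∈ ⁅T, A⁆ := mul_mem i₁Q i₂Q
  have βQ : β ∈ ⁅T, A⁆ := mul_mem j₁Q j₂Q
  have hα2 : α ^ 2 = 1 := by
    rw [hα, (show Commute i₁ i₂ from c12 _ _ i₁Q i₁B i₂Q i₂B).mul_pow, i₁2, i₂2, hzz]
  have hβ2 : β ^ 2 = 1 := by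
    rw [hβ, (show Commute j₁ j₂ from c12 _ _ j₁Q j₁B j₂Q j₂B).mul_pow, j₁2, j₂2, hzz]
  have hzα : z * α = α * z := (P.cz1 αQ).symm
  have hzβ : z * β = β * z := (P.cz1 βQ).symm
  have hαβ : α * β = β * α := by
    have e1 : i₂ * j₁ = j₁ * i₂ := (c12 _ _ j₁Q j₁B i₂Q i₂B).symm
    have e2 : j₂ * i₁ = i₁ * j₂ := (c12 _ _ i₁Q i₁B j₂Q j₂B).symm
    have e3 : (j₁ * i₁) * z = z * (j₁ * i₁) := P.cz1 (mul_mem j₁Q i₁Q)
    calc α * β = i₁ * (i₂ * j₁) * j₂ := by rw [hα, hβ]; group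
      _ = (i₁ * j₁) * (i₂ * j₂) := by rw [e1]; group
      _ = z * ((j₁ * i₁) * z) * (j₂ * i₂) := by rw [ij₁, ij₂]; group
      _ = (z * z) * (j₁ * i₁) * (j₂ * i₂) := by rw [e3]; group
      _ = j₁ * (i₁ * j₂) * i₂ := by rw [hzz]; group
      _ = β * α := by rw [← e2, hα, hβ]; group
  have hsqne : ∀ x, x ^ 2 = z → ¬ (x = 1 ∨ x = z) := by
    rintro x hx (rfl | rfl)
    · rw [one_pow] at hx; exact P.z1 hx.symm
    · rw [P.z2] at hx; exact P.z1 hx.symm
  have hα1 : α ≠ 1 := by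
    intro h
    apply hsqne i₁ i₁2
    have h1 : i₁ = i₂⁻¹ := by rw [hα] at h; exact eq_inv_of_mul_eq_one_left h
    exact hboth i₁ i₁Q i₁B (by rw [h1]; exact inv_mem i₂B)
  have hαz : α ≠ z := by
    intro h
    apply hsqne i₁ i₁2
    have h1 : i₁ = z * i₂⁻¹ := by rw [← h, hα]; group
    exact hboth i₁ i₁Q i₁B (by rw [h1]; exact mul_mem zB₂ (inv_mem i₂B))
  have hβ1 : β ≠ 1 := by
    intro h
    apply hsqne j₁ j₁2
    have h1 : j₁ = j₂⁻¹ := by rw [hβ] at h; exact eq_inv_of_mul_eq_one_left h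
    exact hboth j₁ j₁Q j₁B (by rw [h1]; exact inv_mem j₂B)
  have hβz : β ≠ z := by
    intro h
    apply hsqne j₁ j₁2
    have h1 : j₁ = z * j₂⁻¹ := by rw [← h, hβ]; group
    exact hboth j₁ j₁Q j₁B (by rw [h1]; exact mul_mem zB₂ (inv_mem j₂B))
  have hkey : ¬ (i₁⁻¹ * j₁ = 1 ∨ i₁⁻¹ * j₁ = z) := by
    intro h
    have h1 : i₁ * j₁ = j₁ * i₁ := by
      rcases h with h | h
      · rw [inv_mul_eq_one] at h; rw [h]
      · have h2 : j₁ = i₁ * z := by rw [← h]; group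
        rw [h2]
        calc i₁ * (i₁ * z) = i₁ * (z * i₁) := by rw [P.cz1 i₁Q]
          _ = i₁ * z * i₁ := by group
    rw [ij₁] at h1
    apply P.z1
    calc z = z * (j₁ * i₁) * (j₁ * i₁)⁻¹ := by group
      _ = 1 := by rw [h1, mul_inv_cancel]
  have hβα : β ≠ α := by
    intro h
    apply hkey
    have h1 : i₁⁻¹ * j₁ = i₂ * j₂⁻¹ := by
      calc i₁⁻¹ * j₁ = i₁⁻¹ * (j₁ * j₂) * j₂⁻¹ := by group
        _ = i₁⁻¹ * (i₁ * i₂) * j₂⁻¹ := by rw [← hβ, h]
        _ = i₂ * j₂⁻¹ := by group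
    exact hboth _ (mul_mem (inv_mem i₁Q) j₁Q) (mul_mem (inv_mem i₁B) j₁B)
      (by rw [h1]; exact mul_mem i₂B (inv_mem j₂B))
  have hβzα : β ≠ z * α := by
    intro h
    apply hkey
    have h1 : i₁⁻¹ * j₁ = z * (i₂ * j₂⁻¹) := by
      calc i₁⁻¹ * j₁ = i₁⁻¹ * (j₁ * j₂) * j₂⁻¹ := by group
        _ = i₁⁻¹ * (z * (i₁ * i₂)) * j₂⁻¹ := by rw [← hβ, h]
        _ = i₁⁻¹ * (z * i₁) * i₂ * j₂⁻¹ := by group
        _ = z * (i₂ * j₂⁻¹) := by rw [← P.cz1 i₁Q]; group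
    exact hboth _ (mul_mem (inv_mem i₁Q) j₁Q) (mul_mem (inv_mem i₁B) j₁B)
      (by rw [h1]; exact mul_mem zB₂ (mul_mem i₂B (inv_mem j₂B)))
  obtain ⟨F, hF, hF8, hzF, hαF, hβF, hFm⟩ := exists_elem8 P.z2 hα2 hβ2 hzα hzβ hαβ P.z1 hα1 hαz
    hβ1 hβz hβα hβzα
  have hFe := H30.isElementaryAbelian_iff.1 hF
  have hFQ : F ≤ ⁅T, A⁆ := hFm _ E.zQ αQ βQ
  set H := (B₁ ⊓ B₂ : Subgroup G) with hHdef
  have hHA : H ≤ A := inf_le_left.trans hB₁.hp.le
  have hHe := P.elemB hHA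
  have hCB₁ : centralizer (B₁ : Set G) ≤ centralizer (H : Set G) := centralizer_le inf_le_left
  have hCB₂ : centralizer (B₂ : Set G) ≤ centralizer (H : Set G) := centralizer_le inf_le_right
  have hFH : F ≤ centralizer (H : Set G) :=
    hFm _ (hCB₁ zB₁) (mul_mem (hCB₁ i₁B) (hCB₂ i₂B)) (mul_mem (hCB₁ j₁B) (hCB₂ j₂B))
  have hcardH : Nat.card H * p * p = p ^ n := by
    rw [HP.inf P.elem hB₁.hp hB₂.hp h12, hB₁.hp.card, P.card]
  obtain ⟨R, hR⟩ := exists_PB P.h hHe hH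
  have hrel := relAct_of_elem hF (hFH.trans hR.norm)
  obtain ⟨W, hWR, hW, hFW, hWf⟩ := exists_elem hp2 _ rfl hrel hR.isP
  have hinf : F ⊓ centralizer (W : Set G) = ⊥ := by
    rw [eq_bot_iff]
    intro e he0
    obtain ⟨he, he'⟩ := Subgroup.mem_inf.1 he0
    rw [Subgroup.mem_bot]
    exact hR.faithful e (hFH he) (orderOf_coprime_of_sq hp2 (hFe.2 e he)) (hWf e he (mem_cent.1 he'))
  obtain ⟨e, he, ⟨x, hxW, hex⟩, hcard⟩ := (rank_bound hp2 hW 3 (hrel.sub hWR hFW) (by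
    rw [hinf, Subgroup.card_bot, mul_one, hF8]; norm_num)).2 (by norm_num)
  have hcard : p ^ 2 ≤ Nat.card (⁅W, F⁆ ⊓ centralizer {e} : Subgroup G) := hcard
  have hWp : IsPGroup p W := H30.isPGroup_of_isElementaryAbelian hW
  have hWe := H30.isElementaryAbelian_iff.1 hW
  haveI : IsMulCommutative W := hW.1
  have hdec := (H91.abelian_decomp F W hFW (card_coprime (coprime_two hp2) hrel.two hWp)).1
  set W' := (⁅W, F⁆ : Subgroup G) with hW'def
  have hW'W : W' ≤ W := le_normalizer_iff_commutator_le_left.1 hFW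
  have hFW' : F ≤ normalizer (W' : Set G) := normalizer_commutator_ge_right W F
  -- C_{W'}(z) = 1
  have hs1 : ∀ w ∈ W', w * z = z * w → w = 1 := by
    intro w hw hwz
    rw [← Subgroup.mem_bot, ← hdec]
    refine Subgroup.mem_inf.2 ⟨Subgroup.mem_inf.2 ⟨hW'W hw, ?_⟩, hw⟩
    have hwR := hWR (hW'W hw)
    have s1 : ∀ s ∈ ⁅T, A⁆, s ∈ centralizer (B₁ : Set G) → s * w = w * s := fun s hs hsB =>
      P.star hB₁.hp inf_le_left hR hs hsB hwR hwz
    have s2 : ∀ s ∈ ⁅T, A⁆, s ∈ centralizer (B₂ : Set G) → s * w = w * s := fun s hs hsB =>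
      P.star hB₂.hp inf_le_right hR hs hsB hwR hwz
    have h1 : F ≤ centralizer ({w} : Set G) :=
      hFm _ (mem_cent1.2 hwz.symm)
        (mul_mem (mem_cent1.2 (s1 i₁ i₁Q i₁B)) (mem_cent1.2 (s2 i₂ i₂Q i₂B)))
        (mul_mem (mem_cent1.2 (s1 j₁ j₁Q j₁B)) (mem_cent1.2 (s2 j₂ j₂Q j₂B)))
    exact mem_cent.2 fun f hf => (mem_cent1.1 (h1 hf)).symm
  -- z inverts W'
  have hs2 : ∀ w ∈ W', z * w * z⁻¹ = w⁻¹ := by
    intro w hw
    have h1 : z * w * z⁻¹ ∈ W' := norm_mem hFW' hzF hw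
    have h2 : w * (z * w * z⁻¹) = 1 := by
      apply hs1 _ (mul_mem hw h1)
      have h3 : (z * w * z⁻¹) * w = w * (z * w * z⁻¹) := hWe.1 _ (hW'W h1) _ (hW'W hw)
      have h4 : z * (z * w * z⁻¹) * z⁻¹ = w := by
        calc z * (z * w * z⁻¹) * z⁻¹ = (z * z) * w * (z * z)⁻¹ := by group
          _ = w := by rw [hzz]; group
      have h5 : z * (w * (z * w * z⁻¹)) * z⁻¹ = w * (z * w * z⁻¹) := by
        calc z * (w * (z * w * z⁻¹)) * z⁻¹ = (z * w * z⁻¹) * (z * (z * w * z⁻¹) * z⁻¹) := by group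
          _ = w * (z * w * z⁻¹) := by rw [h4, h3]
      exact (conj_eq_iff.1 h5).symm
    exact eq_inv_of_mul_eq_one_right h2
  set U := W' ⊓ centralizer {e} with hU
  have hUW : U ≤ W := inf_le_left.trans hW'W
  have hU1 : U ≠ ⊥ := by
    intro h
    rw [h, Subgroup.card_bot] at hcard
    have : p ^ 0 < p ^ 2 := Nat.pow_lt_pow_right hp1 (by norm_num)
    rw [pow_zero] at this
    omega
  have hez : e ≠ z := by
    intro h
    apply hU1
    rw [eq_bot_iff]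
    intro w hw
    obtain ⟨h1, h2⟩ := Subgroup.mem_inf.1 hw
    rw [h] at h2
    rw [Subgroup.mem_bot]
    exact hs1 w h1 (mem_cent1.1 h2)
  have he1 : e ≠ 1 := by
    rintro rfl
    exact hex (by rw [one_mul, mul_one])
  have he2 : e ^ 2 = 1 := hFe.2 e he
  have hUR : U ≤ R := hUW.trans hWR
  have hcommHU : ∀ h ∈ H, ∀ u ∈ U, h * u = u * h := fun h hh u hu =>
    (mem_cent.1 (hR.cent (hUR hu)) h hh).symm
  have hdHU : H ⊓ U = ⊥ := by
    rw [eq_bot_iff, ← hdec]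
    intro y hy
    obtain ⟨hy1, hy2⟩ := Subgroup.mem_inf.1 hy
    refine Subgroup.mem_inf.2 ⟨Subgroup.mem_inf.2 ⟨hUW hy2, mem_cent.2 ?_⟩, (Subgroup.mem_inf.1 hy2).1⟩
    intro t ht
    exact (mem_cent.1 (hFH ht) y hy1).symm
  set A' := H ⊔ U with hA'
  have hA'e : Cfsg.IsElementaryAbelian p A' :=
    H30.isElementaryAbelian_sup hHe (H30.IsElementaryAbelian.mono hW hUW) hcommHU
  have hHe' : ∀ h ∈ H, h * e = e * h := fun h hh => (mem_cent.1 (hFH he) h hh).symm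
  have hA'comm : ∀ a ∈ A', a * e = e * a := by
    have : A' ≤ centralizer ({e} : Set G) :=
      sup_le (fun h hh => mem_cent1.2 (hHe' h hh)) inf_le_right
    intro a ha
    exact mem_cent1.1 (this ha)
  have hA'card : Nat.card A' = p ^ n := by
    apply le_antisymm (P.h.max hA'e he1 he2 hA'comm)
    rw [H30.card_sup_of_commute hcommHU hdHU, ← hcardH, mul_assoc, ← pow_two]
    exact Nat.mul_le_mul_left _ hcard
  obtain ⟨T', hT'⟩ := exists_O2C P.h he1 he2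
  have P' : Pr p n A' e T' := ⟨P.h, hA'e, hA'card, he1, he2, hA'comm, hT'⟩
  have E' := P'.ext
  have hzA' : ∀ a ∈ A', z * a * z⁻¹ ∈ A' := by
    have h1 : zpowers z ≤ normalizer (A' : Set G) := by
      have h2 : z ∈ normalizer (H : Set G) := by
        have : zpowers z ≤ normalizer (H : Set G) := by
          apply norm_of
          intro a ha x hx
          have h3 : a * x = x * a := by
            rcases (mem_zpowers_sq P.z2).1 ha with rfl | rfl
            · rw [one_mul, mul_one]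
            · exact (P.comm x (hHA hx)).symm
          rw [h3, mul_inv_cancel_right]; exact hx
        exact this (mem_zpowers z)
      have h3 : z ∈ normalizer (U : Set G) := by
        have : zpowers z ≤ normalizer (U : Set G) := by
          apply norm_of
          intro a ha x hx
          rcases (mem_zpowers_sq P.z2).1 ha with rfl | rfl
          · rw [one_mul, inv_one, mul_one]; exact hx
          · rw [hs2 x (Subgroup.mem_inf.1 hx).1]; exact inv_mem hx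
        exact this (mem_zpowers z)
      rw [zpowers_le]
      have key : ∀ a ∈ A', z * a * z⁻¹ ∈ A' := by
        intro a ha
        obtain ⟨x, hx, y, hy, rfl⟩ := (H30.mem_sup_of_commute hcommHU).1 ha
        have : z * (x * y) * z⁻¹ = (z * x * z⁻¹) * (z * y * z⁻¹) := by group
        rw [this]
        exact mul_mem (mem_sup_left (norm_mem' h2 hx)) (mem_sup_right (norm_mem' h3 hy))
      rw [mem_normalizer_iff]
      intro a
      refine ⟨key a, fun ha => ?_⟩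
      have h4 := key _ ha
      have h5 : z * (z * a * z⁻¹) * z⁻¹ = a := by
        calc z * (z * a * z⁻¹) * z⁻¹ = (z * z) * a * (z * z)⁻¹ := by group
          _ = a := by rw [hzz]; group
      rwa [h5] at h4
    intro a ha
    exact norm_mem' (h1 (mem_zpowers z)) ha
  have hCQH : ∀ q ∈ ⁅T', A'⁆, (∀ h ∈ H, h * q = q * h) → q = 1 ∨ q = e := by
    have hHA' : H ≤ A' := le_sup_left
    set X := ⁅T', A'⁆ ⊓ centralizer (H : Set G) with hX
    have hX2 : IsPGroup 2 X := P'.isP1.to_le inf_le_left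
    have h1 : X ≤ zpowers e := by
      refine gen_hyp hp2 hA'e hX2 (norm_inf P'.norm1 (norm_cent_sub hA'e hHA')) ?_ ?_
      · intro q hq
        obtain ⟨hq1, hq2⟩ := Subgroup.mem_inf.1 hq
        rw [mem_zpowers_sq he2]
        exact E'.cenA q (Subgroup.mem_inf.1 hq1).1 (fun a ha => (mem_cent.1 hq2 a ha).symm)
      · intro B' hB' q hq
        obtain ⟨hq1, hqB'⟩ := Subgroup.mem_inf.1 hq
        obtain ⟨hqQ, hqH⟩ := Subgroup.mem_inf.1 hq1
        rw [mem_zpowers_sq he2]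
        apply E'.cenA q hqQ
        by_cases hle : H ≤ B'
        · have hst : ∀ y ∈ R, y * e = e * y → q * y = y * q := fun y hy hye =>
            P'.star hB' hle hR hqQ hqB' hy hye
          have h2 : A' ≤ centralizer ({q} : Set G) := by
            refine sup_le ?_ ?_
            · intro y hy
              exact mem_cent1.2 (mem_cent.1 hqH y hy).symm
            · intro y hy
              exact mem_cent1.2 (hst y (hUR hy) (mem_cent1.1 (Subgroup.mem_inf.1 hy).2)).symm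
          intro a ha
          exact mem_cent1.1 (h2 ha)
        · have h2 : B' ⊔ H = A' := by
            rcases hB'.eq_or_eq (X := B' ⊔ H) le_sup_left (sup_le hB'.le hHA') with h3 | h3
            · exact absurd (le_sup_right.trans h3.le) hle
            · exact h3
          intro a ha
          exact (mem_cent.1 (cent_sup h2 hqB' hqH) a ha).symm
    intro q hq hqH
    rw [← mem_zpowers_sq he2]
    exact h1 (Subgroup.mem_inf.2 ⟨hq, mem_cent.2 fun h hh => (hqH h hh).symm⟩)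
  have hzT' : z ∉ T' := by
    intro hzT
    apply hU1
    rw [eq_bot_iff]
    intro u hu
    rw [Subgroup.mem_bot]
    have huA' : u ∈ A' := mem_sup_right hu
    have h1 : u * z⁻¹ * u⁻¹ ∈ T' := norm_mem P'.normT huA' (inv_mem hzT)
    have h2 : z * (u * z⁻¹ * u⁻¹) ∈ T' := mul_mem hzT h1
    have h3 : z * (u * z⁻¹ * u⁻¹) = (u ^ 2)⁻¹ := by
      calc z * (u * z⁻¹ * u⁻¹) = (z * u * z⁻¹) * u⁻¹ := by group
        _ = (u ^ 2)⁻¹ := by rw [hs2 u (Subgroup.mem_inf.1 hu).1, pow_two]; group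
    rw [h3] at h2
    have h4 := eq_one_of_pgroups hp2 P'.o2.isP P'.isPA h2 (inv_mem (pow_mem huA' 2))
    have h5 : u ^ 2 = 1 := by rw [← inv_inv (u ^ 2), h4, inv_one]
    exact one_of_sq_of_pow hp2 h5 (hWe.2 u (hUW hu))
  -- elements of S_{B₃} commute with F
  have hF3 : ∀ s ∈ ⁅T, A⁆, s ∈ centralizer (B₃ : Set G) → ∀ f ∈ F, s * f = f * s := by
    intro s hs hsB f hf
    have h1 : F ≤ centralizer ({s} : Set G) :=
      hFm _ (mem_cent1.2 (P.cz1 hs).symm)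
        (mul_mem (mem_cent1.2 (c13 _ _ i₁Q i₁B hs hsB)) (mem_cent1.2 (c23 _ _ i₂Q i₂B hs hsB)))
        (mul_mem (mem_cent1.2 (c13 _ _ j₁Q j₁B hs hsB)) (mem_cent1.2 (c23 _ _ j₂Q j₂B hs hsB)))
    exact (mem_cent1.1 (h1 hf)).symm
  refine ⟨A', e, T', H, U, r, r', P, P', hFQ he, hzT', le_sup_left, fun h hh => P.comm h (hHA hh), hCQH,
    hzA', le_sup_right, hU1, fun u hu => hs2 u (Subgroup.mem_inf.1 hu).1, P.le rQ, P.le r'Q,
    hF3 r rQ rB e he, hF3 r' r'Q r'B e he, hrr'⟩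

end Cfsg.Agent.H64.KM
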