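import Cfsg.Agent.H64.KM7

set_option autoImplicit false
set_option linter.style.haveILetI false
set_option linter.unusedSectionVars false

/-! Klinger-Mason: the final contradiction. -/

namespace Cfsg.Agent.H64.KM

open Subgroup
open scoped commutatorElement

variable {G : Type*} [Group G]

theorem CZ_conj_mem {e t x g : G} {he : e ^ 2 = 1} (hg : g * e = e * g) (hx : x ∈ CZ e t he) :
    g * x * g⁻¹ ∈ CZ e (g * t * g⁻¹) he := by
  have hg' : Commute g e := hg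
  have hxe : Commute x e := hx.1
  refine ⟨((hg'.mul_left hxe).mul_left hg'.inv_left).eq, ?_⟩
  rcases hx.2 with h | h
  · left
    calc g * x * g⁻¹ * (g * t * g⁻¹) = g * (x * t) * g⁻¹ := by group
      _ = (g * t * g⁻¹) * (g * x * g⁻¹) := by rw [h]; group
  · right
    calc g * x * g⁻¹ * (g * t * g⁻¹) = g * (x * t) * g⁻¹ := by group
      _ = (g * e) * (t * x) * g⁻¹ := by rw [h]; group
      _ = e * ((g * t * g⁻¹) * (g * x * g⁻¹)) := by rw [hg]; group

theorem CZ_norm {e c : G} {he : e ^ 2 = 1} {H : Subgroup G} (h1 : ∀ h ∈ H, h * e = e * h)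
    (h2 : ∀ h ∈ H, h * c = c * h) : H ≤ normalizer ((CZ e c he : Subgroup G) : Set G) := by
  apply norm_of
  intro h hh x hx
  have := CZ_conj_mem (h1 h hh) hx
  rwa [conj_eq_iff.2 (h2 h hh)] at this

/-- commutators of elements acting on `c` by `± 1` commute with `c` -/
theorem CZ_comm {e c g h : G} {he : e ^ 2 = 1} (hg : g ∈ CZ e c he) (hh : h ∈ CZ e c he) :
    (g⁻¹ * (h * g * h⁻¹)) * c = c * (g⁻¹ * (h * g * h⁻¹)) := by
  have hee : e * e = 1 := by rw [← pow_two]; exact he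
  -- sign of a product of two commuting signs: `h * g` and `g * h` act in the same way
  have key : (h * g) * c * (h * g)⁻¹ = (g * h) * c * (g * h)⁻¹ := by
    have hge : g * e * g⁻¹ = e := conj_eq_iff.2 hg.1
    have hhe : h * e * h⁻¹ = e := conj_eq_iff.2 hh.1
    have a1 : (h * g) * c * (h * g)⁻¹ = h * (g * c * g⁻¹) * h⁻¹ := by group
    have a2 : (g * h) * c * (g * h)⁻¹ = g * (h * c * h⁻¹) * g⁻¹ := by group
    rw [a1, a2]
    rcases CZ_conj hg with h1 | h1 <;> rcases CZ_conj hh with h2 | h2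
    · rw [h1, h2, h1]
    · rw [h1, h2]
      calc e * c = e * (g * c * g⁻¹) := by rw [h1]
        _ = (g * e * g⁻¹) * (g * c * g⁻¹) := by rw [hge]
        _ = g * (e * c) * g⁻¹ := by group
    · rw [h1, h2, h1]
      calc h * (e * c) * h⁻¹ = (h * e * h⁻¹) * (h * c * h⁻¹) := by group
        _ = e * c := by rw [hhe, h2]
    · rw [h1, h2]
      calc h * (e * c) * h⁻¹ = (h * e * h⁻¹) * (h * c * h⁻¹) := by group
        _ = (g * e * g⁻¹) * (g * c * g⁻¹) := by rw [hhe, h2, hge, h1]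
        _ = g * (e * c) * g⁻¹ := by group
  rw [← conj_eq_iff]
  -- g⁻¹ h g h⁻¹
  have key' : (g⁻¹ * (h * g * h⁻¹)) * c * (g⁻¹ * (h * g * h⁻¹))⁻¹ = c := by
    have hh' : h⁻¹ ∈ CZ e c he := inv_mem hh
    -- write c = h (h⁻¹ c h) h⁻¹ with h⁻¹ c h = ε c
    have hge : g * e * g⁻¹ = e := conj_eq_iff.2 hg.1
    have hgi : g⁻¹ ∈ CZ e c he := inv_mem hg
    have hhe : h * e * h⁻¹ = e := conj_eq_iff.2 hh.1
    have hgie : g⁻¹ * e * g⁻¹⁻¹ = e := conj_eq_iff.2 hgi.1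
    have a1 : (g⁻¹ * (h * g * h⁻¹)) * c * (g⁻¹ * (h * g * h⁻¹))⁻¹ =
        g⁻¹ * ((h * g) * (h⁻¹ * c * h⁻¹⁻¹) * (h * g)⁻¹) * g⁻¹⁻¹ := by group
    rw [a1]
    rcases CZ_conj hh' with h1 | h1
    · have h3 : h * c * h⁻¹ = c := by
        have : c = h⁻¹ * c * h⁻¹⁻¹ := h1.symm
        calc h * c * h⁻¹ = h * (h⁻¹ * c * h⁻¹⁻¹) * h⁻¹ := by rw [← this]
          _ = c := by group
      rw [h1, key]
      calc g⁻¹ * ((g * h) * c * (g * h)⁻¹) * g⁻¹⁻¹ = h * c * h⁻¹ := by group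
        _ = c := h3
    · rw [h1]
      have h3 : h * (e * c) * h⁻¹ = c := by
        rw [← h1]; group
      have h4 : (h * g) * (e * c) * (h * g)⁻¹ = (g * h) * (e * c) * (g * h)⁻¹ := by
        have b1 : (h * g) * (e * c) * (h * g)⁻¹ = (h * (g * e * g⁻¹) * h⁻¹) * ((h * g) * c * (h * g)⁻¹) := by group
        have b2 : (g * h) * (e * c) * (g * h)⁻¹ = (g * (h * e * h⁻¹) * g⁻¹) * ((g * h) * c * (g * h)⁻¹) := by group
        rw [b1, b2, hge, hhe, hge, key]
      rw [h4]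
      calc g⁻¹ * ((g * h) * (e * c) * (g * h)⁻¹) * g⁻¹⁻¹ = h * (e * c) * h⁻¹ := by group
        _ = c := h3
  exact key'

/-- Two noncommuting elements of a 2-group with a unique involution `e` and commutators in `⟨e⟩`
give a quaternion pair. -/
theorem quat_in [Finite G] {K₀ : Subgroup G} {e : G} (he1 : e ≠ 1) (he2 : e ^ 2 = 1) (hK : IsPGroup 2 K₀)
    (hu : ∀ t ∈ K₀, t ^ 2 = 1 → t = 1 ∨ t = e)
    (hc : ∀ x ∈ K₀, ∀ y ∈ K₀, x * y = y * x ∨ x * y = e * (y * x)) (hec : ∀ x ∈ K₀, x * e = e * x) :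
    ∀ (m : ℕ) {x : G}, orderOf x = m → x ∈ K₀ → ∀ {y : G}, y ∈ K₀ → x * y = e * (y * x) →
    ∃ x' ∈ K₀, ∃ y' ∈ K₀, x' ^ 2 = e ∧ y' ^ 2 = e ∧ x' * y' = e * (y' * x') := by
  haveI := two_fact
  have hee : e * e = 1 := by rw [← pow_two]; exact he2
  have heinv : e⁻¹ = e := by rw [inv_eq_iff_mul_eq_one]; exact hee
  have hnc : ∀ a b : G, a * b = e * (b * a) → a * b ≠ b * a := by
    intro a b h1 h2
    apply he1
    calc e = e * (b * a) * (b * a)⁻¹ := by group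
      _ = 1 := by rw [← h1, h2, mul_inv_cancel]
  have hsw : ∀ a ∈ K₀, ∀ b ∈ K₀, a * b = e * (b * a) → b * a = e * (a * b) := by
    intro a _ b _ h1
    rw [h1, ← mul_assoc, hee, one_mul]
  have hsqc : ∀ g ∈ K₀, ∀ h ∈ K₀, g ^ 2 * h = h * g ^ 2 := by
    intro g hg h hh
    rcases hc g hg h hh with h1 | h1
    · exact ((show Commute g h from h1).pow_left 2).eq
    · calc g ^ 2 * h = g * (g * h) := by rw [pow_two]; group
        _ = (g * e) * h * g := by rw [h1]; group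
        _ = e * (g * h) * g := by rw [hec g hg]; group
        _ = (e * e) * (h * g ^ 2) := by rw [h1, pow_two]; group
        _ = h * g ^ 2 := by rw [hee, one_mul]
  -- orders
  have hord : ∀ g ∈ K₀, (∃ h ∈ K₀, g * h = e * (h * g)) → ∃ a, 2 ≤ a ∧ orderOf g = 2 ^ a ∧
      g ^ 2 ^ (a - 1) = e := by
    rintro g hg ⟨h, hh, hgh⟩
    obtain ⟨k, hk⟩ := hK ⟨g, hg⟩
    have hk' : g ^ 2 ^ k = 1 := congrArg Subtype.val hk
    obtain ⟨a, ha, hoa⟩ := (Nat.dvd_prime_pow Nat.prime_two).1 (orderOf_dvd_of_pow_eq_one hk')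
    have hg2 : g ^ 2 ≠ 1 := by
      intro h2
      rcases hu g hg h2 with h3 | h3
      · exact hnc g h hgh (by rw [h3, one_mul, mul_one])
      · exact hnc g h hgh (by rw [h3]; exact (hec h hh).symm)
    have ha2 : 2 ≤ a := by
      by_contra hlt
      have : a = 0 ∨ a = 1 := by omega
      rcases this with rfl | rfl
      · rw [pow_zero, orderOf_eq_one_iff] at hoa
        exact hg2 (by rw [hoa, one_pow])
      · rw [pow_one] at hoa
        exact hg2 (by rw [← hoa]; exact pow_orderOf_eq_one g)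
    refine ⟨a, ha2, hoa, ?_⟩
    have h1 : (g ^ 2 ^ (a - 1)) ^ 2 = 1 := by
      rw [← pow_mul, ← pow_succ, Nat.sub_add_cancel (by omega), ← hoa]
      exact pow_orderOf_eq_one g
    rcases hu _ (pow_mem hg _) h1 with h2 | h2
    · exfalso
      have h3 := orderOf_dvd_of_pow_eq_one h2
      rw [hoa] at h3
      have h4 := (Nat.pow_dvd_pow_iff_le_right (by norm_num : 1 < 2)).1 h3
      omega
    · exact h2
  intro m
  induction m using Nat.strong_induction_on with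
  | _ m ih =>
  intro x hm hx y hy hxy
  by_contra hcon
  have hmin : ∀ x' ∈ K₀, orderOf x' < m → ∀ y' ∈ K₀, x' * y' ≠ e * (y' * x') := by
    intro x' hx' hlt y' hy' hxy'
    exact hcon (ih _ hlt rfl hx' hy' hxy')
  have hyx := hsw x hx y hy hxy
  obtain ⟨a, ha2, hoa, hae⟩ := hord x hx ⟨y, hy, hxy⟩
  obtain ⟨b, hb2, hob, hbe⟩ := hord y hy ⟨x, hx, hyx⟩
  have hab : a ≤ b := by
    by_contra hlt
    push Not at hlt
    refine hmin y hy ?_ x hx hyx
    rw [← hm, hoa, hob]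
    exact Nat.pow_lt_pow_right (by norm_num) hlt
  have hxinv : x⁻¹ ∈ K₀ := inv_mem hx
  have hxiy : x⁻¹ * y = e * (y * x⁻¹) := by
    calc x⁻¹ * y = x⁻¹ * (e * e) * y := by rw [hee, mul_one]
      _ = x⁻¹ * e * (e * (y * x)) * x⁻¹ := by group
      _ = (x⁻¹ * e) * (x * y) * x⁻¹ := by rw [← hxy]
      _ = (e * x⁻¹) * (x * y) * x⁻¹ := by rw [hec _ hxinv]
      _ = e * (y * x⁻¹) := by group
  rcases Nat.lt_or_ge a b with hlt | hge
  · -- b > a
    have hk : 2 ^ (b - a) = 2 * 2 ^ (b - a - 1) := by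
      rw [← pow_succ']; congr 1; omega
    set k := 2 ^ (b - a) with hkdef
    have hyk : ∀ g ∈ K₀, y ^ k * g = g * y ^ k := by
      intro g hg
      rw [hk, pow_mul]
      exact ((show Commute (y ^ 2) g from hsqc y hy g hg).pow_left _).eq
    have hw : x⁻¹ * y ^ k ∈ K₀ := mul_mem hxinv (pow_mem hy _)
    have hww : (x⁻¹ * y ^ k) ^ 2 ^ (a - 1) = 1 := by
      have h1 : Commute x⁻¹ (y ^ k) := (hyk _ hxinv).symm
      rw [h1.mul_pow, inv_pow, hae, ← pow_mul, hkdef, ← pow_add]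
      have : b - a + (a - 1) = b - 1 := by omega
      rw [this, hbe, inv_mul_cancel]
    refine hmin _ hw ?_ y hy ?_
    · rw [← hm, hoa]
      refine lt_of_le_of_lt (Nat.le_of_dvd (by positivity) (orderOf_dvd_of_pow_eq_one hww)) ?_
      exact Nat.pow_lt_pow_right (by norm_num) (by omega)
    · have h1 : y ^ k * y = y * y ^ k := hyk y hy
      calc x⁻¹ * y ^ k * y = (x⁻¹ * y) * y ^ k := by rw [mul_assoc, h1, mul_assoc]
        _ = e * (y * (x⁻¹ * y ^ k)) := by rw [hxiy]; group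
  · have hba : b = a := le_antisymm hge hab
    subst hba
    rcases Nat.lt_or_ge 2 b with h3 | h3
    · have hw : x⁻¹ * y ∈ K₀ := mul_mem hxinv hy
      have hw2 : (x⁻¹ * y) ^ 2 = e * ((x ^ 2)⁻¹ * y ^ 2) := by
        have hyxi : y * x⁻¹ = e * (x⁻¹ * y) := by rw [hxiy, ← mul_assoc, hee, one_mul]
        calc (x⁻¹ * y) ^ 2 = x⁻¹ * (y * x⁻¹) * y := by rw [pow_two]; group
          _ = (x⁻¹ * e) * x⁻¹ * (y * y) := by rw [hyxi]; group
          _ = (e * x⁻¹) * x⁻¹ * (y * y) := by rw [hec _ hxinv]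
          _ = e * ((x ^ 2)⁻¹ * y ^ 2) := by rw [pow_two, pow_two]; group
      have hx2 : (x ^ 2)⁻¹ ∈ K₀ := inv_mem (pow_mem hx 2)
      have hww : (x⁻¹ * y) ^ 2 ^ (b - 1) = 1 := by
        have hs : 2 ^ (b - 1) = 2 * 2 ^ (b - 2) := by
          rw [← pow_succ']; congr 1; omega
        have hs2 : 2 ^ (b - 2) = 2 * 2 ^ (b - 3) := by
          rw [← pow_succ']; congr 1; omega
        rw [hs, pow_mul, hw2]
        have c1 : Commute e ((x ^ 2)⁻¹ * y ^ 2) := (hec _ (mul_mem hx2 (pow_mem hy 2))).symm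
        have c2 : Commute (x ^ 2)⁻¹ (y ^ 2) := (hsqc y hy _ hx2).symm
        rw [c1.mul_pow, c2.mul_pow]
        have e1 : e ^ 2 ^ (b - 2) = 1 := by rw [hs2, pow_mul, he2, one_pow]
        rw [e1, one_mul, inv_pow, ← pow_mul, ← pow_mul, ← hs, hae, hbe, inv_mul_cancel]
      exfalso
      refine hmin _ hw ?_ y hy ?_
      · rw [← hm, hoa]
        refine lt_of_le_of_lt (Nat.le_of_dvd (by positivity) (orderOf_dvd_of_pow_eq_one hww)) ?_
        exact Nat.pow_lt_pow_right (by norm_num) (by omega)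
      · calc x⁻¹ * y * y = e * (y * x⁻¹) * y := by rw [hxiy]
          _ = e * (y * (x⁻¹ * y)) := by group
    · have hb : b = 2 := le_antisymm h3 hb2
      subst hb
      exact hcon ⟨x, hx, y, hy, hae, hbe, hxy⟩

/-- `{x ∈ T' | [x, T'] ≤ ⟨e⟩}` -/
def KK (e : G) (T' : Subgroup G) (he : e ^ 2 = 1) : Subgroup G where
  carrier := {x | x ∈ T' ∧ ∀ t ∈ T', x ∈ CZ e t he}
  one_mem' := ⟨T'.one_mem, fun _ _ => one_mem _⟩
  mul_mem' := fun h1 h2 => ⟨T'.mul_mem h1.1 h2.1, fun t ht => mul_mem (h1.2 t ht) (h2.2 t ht)⟩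
  inv_mem' := fun h1 => ⟨T'.inv_mem h1.1, fun t ht => inv_mem (h1.2 t ht)⟩

theorem mem_KK {e x : G} {T' : Subgroup G} {he : e ^ 2 = 1} :
    x ∈ KK e T' he ↔ x ∈ T' ∧ ∀ t ∈ T', x ∈ CZ e t he := Iff.rfl

end Cfsg.Agent.H64.KM
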