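import Cfsg.Agent.H64.KM8

set_option autoImplicit false
set_option linter.style.haveILetI false
set_option linter.unusedSectionVars false

/-! Klinger-Mason: the final contradiction. -/

namespace Cfsg.Agent.H64.KM

open Subgroup
open scoped commutatorElement

variable {G : Type*} [Group G]
variable [Finite G] {p n : ℕ} [hpf : Fact p.Prime] {A T : Subgroup G} {z : G}
variable {A' T' H U : Subgroup G} {e r r' : G}

theorem Ctx.ez (C : Ctx p n A z T A' e T' H U r r') : e * z = z * e := C.P.cz1 C.eQ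

theorem Ctx.inf (C : Ctx p n A z T A' e T' H U r r') {f : G} (hf : f ∈ T) (hf' : f ∈ T') :
    f = 1 ∨ f = e := by
  haveI := two_fact
  have P := C.P
  have E := P.ext
  have hzz := P.zz
  have hee := C.P'.zz
  have hstepA : ∀ g ∈ T, g ∈ T' → ∀ x ∈ ⁅T, A⁆, x * e = e * x → g * x = x * g := by
    intro g hg hg' x hx hxe
    rcases P.f2 hg hx with h | h
    · exact h
    · exfalso
      apply C.zT'
      have hxN := C.P'.o2.norm x hxe
      have h1 : x * g⁻¹ * x⁻¹ ∈ T' := norm_mem' hxN (inv_mem hg')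
      have h2 : g * (x * g⁻¹ * x⁻¹) = z := by
        calc g * (x * g⁻¹ * x⁻¹) = (g * x) * g⁻¹ * x⁻¹ := by group
          _ = z := by rw [h]; group
      rw [← h2]
      exact mul_mem hg' h1
  have hstepB : ∀ g ∈ T, g ∈ T' → (∀ x ∈ ⁅T, A⁆, g * x = x * g) → g = 1 := by
    intro g hg hg' hc
    by_contra hg1
    obtain ⟨k, hk⟩ := P.f4 hg hg1 (P.f3 hg hc)
    apply C.zT'
    rw [← hk]
    exact pow_mem hg' k
  have heT : e ∈ T := P.le C.eQ
  have heT' : e ∈ T' := C.P'.o2.mem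
  by_cases hall : ∀ x ∈ ⁅T, A⁆, f * x = x * f
  · left; exact hstepB f hf hf' hall
  right
  push Not at hall
  obtain ⟨x₀, hx₀, hx₀'⟩ := hall
  have hfx₀ : f * x₀ = z * (x₀ * f) := (P.f2 hf hx₀).resolve_left hx₀'
  have hex₀ : e * x₀ = z * (x₀ * e) := by
    rcases E.comm2 e C.eQ x₀ hx₀ with h | h
    · exact absurd (hstepA f hf hf' x₀ hx₀ h.symm) hx₀'
    · exact h
  have h1 : f * e = 1 := by
    apply hstepB _ (mul_mem hf heT) (mul_mem hf' heT')
    intro x hx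
    have hfz : f * z = z * f := P.o2.cz f hf
    have hzx : x * z = z * x := P.cz1 hx
    rcases E.comm2 e C.eQ x hx with h | h
    · have h2 := hstepA f hf hf' x hx h.symm
      rw [mul_assoc, h, ← mul_assoc, h2, mul_assoc]
    · -- x x₀⁻¹ commutes with e
      have hzx₀ : x₀ * z = z * x₀ := P.cz1 hx₀
      have hzx₀' : x₀⁻¹ * z = z * x₀⁻¹ := (show Commute x₀ z from hzx₀).inv_left.eq
      have h3 : e * x₀⁻¹ = z * (x₀⁻¹ * e) := by
        calc e * x₀⁻¹ = x₀⁻¹ * (x₀ * e) * x₀⁻¹ := by group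
          _ = x₀⁻¹ * ((z * z) * (x₀ * e)) * x₀⁻¹ := by rw [hzz, one_mul]
          _ = (x₀⁻¹ * z) * (z * (x₀ * e)) * x₀⁻¹ := by group
          _ = z * (x₀⁻¹ * e) := by rw [← hex₀, hzx₀']; group
      have h4 : (x * x₀⁻¹) * e = e * (x * x₀⁻¹) := by
        symm
        calc e * (x * x₀⁻¹) = (e * x) * x₀⁻¹ := by group
          _ = z * x * (e * x₀⁻¹) := by rw [h]; group
          _ = z * (x * z) * (x₀⁻¹ * e) := by rw [h3]; group
          _ = (z * z) * (x * x₀⁻¹) * e := by rw [hzx]; group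
          _ = (x * x₀⁻¹) * e := by rw [hzz, one_mul]
      have h5 := hstepA f hf hf' _ (mul_mem hx (inv_mem hx₀)) h4
      have h6 : f * x = z * (x * f) := by
        calc f * x = (f * (x * x₀⁻¹)) * x₀ := by group
          _ = (x * x₀⁻¹) * (f * x₀) := by rw [h5]; group
          _ = x * (x₀⁻¹ * z) * x₀ * f := by rw [hfx₀]; group
          _ = (x * z) * f := by rw [hzx₀']; group
          _ = z * (x * f) := by rw [hzx]; group
      calc f * e * x = f * (e * x) := by group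
        _ = (f * z) * x * e := by rw [h]; group
        _ = z * (f * x) * e := by rw [hfz]; group
        _ = (z * z) * (x * (f * e)) := by rw [h6]; group
        _ = x * (f * e) := by rw [hzz, one_mul]
  have h2 : f = e⁻¹ := eq_inv_of_mul_eq_one_left h1
  rw [h2, inv_eq_iff_mul_eq_one]
  exact hee

theorem Ctx.six_a (C : Ctx p n A z T A' e T' H U r r') {s c : G} (hs : s ∈ T) (hse : s * e = e * s)
    (hc : c ∈ T') (hcz : c * z = z * c) : s ∈ CZ e c C.P'.z2 := by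
  refine ⟨hse, ?_⟩
  have h1 : s * (c * s⁻¹ * c⁻¹) ∈ T := mul_mem hs (norm_mem' (C.P.o2.norm c hcz) (inv_mem hs))
  have h2 : (s * c * s⁻¹) * c⁻¹ ∈ T' := mul_mem (norm_mem' (C.P'.o2.norm s hse) hc) (inv_mem hc)
  have h3 : (s * c * s⁻¹) * c⁻¹ = s * (c * s⁻¹ * c⁻¹) := by group
  rw [h3] at h2
  have h4 : s * c = (s * (c * s⁻¹ * c⁻¹)) * (c * s) := by group
  rcases C.inf h1 h2 with h | h
  · left; rw [h4, h, one_mul]
  · right; rw [h4, h]

theorem Ctx.six_b (C : Ctx p n A z T A' e T' H U r r') {x : G} (hx : x ∈ ⁅T', A'⁆)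
    (hxz : x * z = z * x ∨ x * z = e * (z * x)) : x * z = z * x := by
  haveI := two_fact
  have P' := C.P'
  have hHe : ∀ h ∈ H, h * e = e * h := fun h hh => P'.comm h (C.HA' hh)
  set X := ⁅T', A'⁆ ⊓ CZ e z P'.z2 with hX
  have hXQ : X ≤ ⁅T', A'⁆ := inf_le_left
  have h1 : X ≤ centralizer ({z} : Set G) := by
    refine fix_lemma P'.z2 (H := H) (norm_inf (C.HA'.trans P'.norm1) (CZ_norm hHe C.Hz))
      (P'.copB C.HA' (P'.isP1.to_le hXQ)) (solv_p (P'.isPA.to_le C.HA')) inf_le_right hHe C.Hz ?_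
    intro y hy
    obtain ⟨hy1, hy2⟩ := Subgroup.mem_inf.1 hy
    rcases C.CQH y (hXQ hy1) (fun h hh => (mem_cent.1 hy2 h hh).symm) with h | h
    · rw [h]; exact one_mem _
    · rw [h]; exact mem_cent1.2 C.ez
  exact mem_cent1.1 (h1 (Subgroup.mem_inf.2 ⟨hx, P'.cz1 hx, hxz⟩))

theorem Ctx.zQ (C : Ctx p n A z T A' e T' H U r r') {x : G} (hx : x ∈ ⁅T', A'⁆) :
    z * x * z⁻¹ ∈ ⁅T', A'⁆ := by
  have hzT' := C.P'.o2.norm z C.ez.symm
  have h1 : (⁅T', A'⁆).map (MulAut.conj z).toMonoidHom ≤ ⁅T', A'⁆ := by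
    rw [Subgroup.map_commutator]
    apply commutator_mono
    · rintro _ ⟨t, ht, rfl⟩
      exact norm_mem' hzT' ht
    · rintro _ ⟨a, ha, rfl⟩
      exact C.zA' a ha
  exact h1 ⟨x, hx, rfl⟩

theorem Ctx.six_c (C : Ctx p n A z T A' e T' H U r r') {x : G} (hx : x ∈ ⁅T', A'⁆) :
    x⁻¹ * (z * x * z⁻¹) ∈ ⁅T', A'⁆ ∧
      (x⁻¹ * (z * x * z⁻¹)) * z = z * (x⁻¹ * (z * x * z⁻¹)) := by
  have P' := C.P'
  have E' := P'.ext
  have hzz := C.P.zz
  have hee := P'.zz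
  set y := x⁻¹ * (z * x * z⁻¹) with hy
  have hyQ : y ∈ ⁅T', A'⁆ := mul_mem (inv_mem hx) (C.zQ hx)
  refine ⟨hyQ, ?_⟩
  apply C.six_b hyQ
  have h1 : z * y * z⁻¹ = y⁻¹ := by
    calc z * y * z⁻¹ = (z * x * z⁻¹)⁻¹ * ((z * z) * x * (z * z)⁻¹) := by rw [hy]; group
      _ = (z * x * z⁻¹)⁻¹ * x := by rw [hzz]; group
      _ = y⁻¹ := by rw [hy]; group
  have h2 : z * y = y⁻¹ * z := by rw [← h1]; group
  rcases E'.sq y hyQ with h | h
  · left
    have h3 : y⁻¹ = y := by rw [inv_eq_iff_mul_eq_one, ← pow_two]; exact h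
    rw [h2, h3]
  · right
    have h3 : y = e * y⁻¹ := by
      calc y = y ^ 2 * y⁻¹ := by rw [pow_two]; group
        _ = e * y⁻¹ := by rw [h]
    rw [h2, ← mul_assoc, ← h3]

theorem KK_norm (C : Ctx p n A z T A' e T' H U r r') {g x : G} (hg : g * e = e * g)
    (hx : x ∈ KK e T' C.P'.z2) : g * x * g⁻¹ ∈ KK e T' C.P'.z2 := by
  have hgN := C.P'.o2.norm g hg
  have hge : g⁻¹ * e = e * g⁻¹ := (show Commute g e from hg).inv_left.eq
  refine ⟨norm_mem' hgN hx.1, ?_⟩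
  intro t ht
  have h1 : g⁻¹ * t * g⁻¹⁻¹ ∈ T' := norm_mem' (C.P'.o2.norm g⁻¹ hge) ht
  have h2 := CZ_conj_mem hg (hx.2 _ h1)
  have h3 : g * (g⁻¹ * t * g⁻¹⁻¹) * g⁻¹ = t := by group
  rwa [h3] at h2

/-- elements of `K` commuting with all of `K` -/
def ZK (e : G) (T' : Subgroup G) (he : e ^ 2 = 1) : Subgroup G :=
  KK e T' he ⊓ centralizer ((KK e T' he : Subgroup G) : Set G)

theorem ZK_norm (C : Ctx p n A z T A' e T' H U r r') {g x : G} (hg : g * e = e * g)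
    (hx : x ∈ ZK e T' C.P'.z2) : g * x * g⁻¹ ∈ ZK e T' C.P'.z2 := by
  obtain ⟨h1, h2⟩ := Subgroup.mem_inf.1 hx
  refine Subgroup.mem_inf.2 ⟨KK_norm C hg h1, mem_cent.2 ?_⟩
  intro y hy
  have hge : g⁻¹ * e = e * g⁻¹ := (show Commute g e from hg).inv_left.eq
  have h3 := mem_cent.1 h2 _ (KK_norm C hge hy)
  calc g * x * g⁻¹ * y = g * (x * (g⁻¹ * y * g⁻¹⁻¹)) * g⁻¹ := by group
    _ = g * ((g⁻¹ * y * g⁻¹⁻¹) * x) * g⁻¹ := by rw [h3]
    _ = y * (g * x * g⁻¹) := by group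

theorem Ctx.QK (C : Ctx p n A z T A' e T' H U r r') : ⁅T', A'⁆ ≤ KK e T' C.P'.z2 := by
  intro x hx
  refine ⟨C.P'.le hx, ?_⟩
  intro t ht
  refine ⟨C.P'.cz1 hx, ?_⟩
  rcases C.P'.f2 ht hx with h | h
  · left; exact h.symm
  · right; rw [h, ← mul_assoc, C.P'.zz, one_mul]

/-- elements of `C_{T'}(A')` centralize `[T',A']`. -/
theorem Pr.cent_Q (P : Pr p n A z T) {c : G} (hc : c ∈ T) (hcA : ∀ a ∈ A, a * c = c * a) :
    ∀ x ∈ ⁅T, A⁆, x * c = c * x := by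
  haveI := two_fact
  have E := P.ext
  have h1 : ⁅T, A⁆ ≤ centralizer ({c} : Set G) := by
    refine fix_lemma P.z2 (H := A) P.norm1 (P.cop P.isP1) P.solvA (P.f1 hc hcA) P.comm hcA ?_
    intro y hy
    obtain ⟨hy1, hy2⟩ := Subgroup.mem_inf.1 hy
    rcases E.cenA y hy1 (fun a ha => (mem_cent.1 hy2 a ha).symm) with h | h
    · rw [h]; exact one_mem _
    · rw [h]; exact mem_cent1.2 (P.o2.cz c hc).symm
  intro x hx
  exact mem_cent1.1 (h1 hx)

theorem Ctx.decK (C : Ctx p n A z T A' e T' H U r r') {k : G} (hk : k ∈ KK e T' C.P'.z2) :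
    ∃ q ∈ ⁅T', A'⁆, ∃ c ∈ KK e T' C.P'.z2, (∀ a ∈ A', a * c = c * a) ∧ k = q * c := by
  haveI := two_fact
  have P' := C.P'
  have hKT : KK e T' C.P'.z2 ≤ T' := fun x hx => hx.1
  have hK2 : IsPGroup 2 (KK e T' C.P'.z2) := P'.o2.isP.to_le hKT
  have hAK : A' ≤ normalizer ((KK e T' C.P'.z2 : Subgroup G) : Set G) :=
    norm_of fun a ha x hx => KK_norm C (P'.comm a ha) hx
  obtain ⟨u, hu, c, hc, hkuc⟩ := Cop.exists_eq_mul_of_mem hAK (P'.cop hK2) (Or.inl P'.solvA) hk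
  obtain ⟨hc1, hc2⟩ := Subgroup.mem_inf.1 hc
  exact ⟨u, (commutator_mono hKT le_rfl) hu, c, hc1, fun a ha => (mem_cent.1 hc2 a ha).symm, hkuc⟩

/-- `K₀ = C_K(A')` is abelian. -/
theorem Ctx.abelK (C : Ctx p n A z T A' e T' H U r r') {x y : G} (hx : x ∈ KK e T' C.P'.z2)
    (hxA : ∀ a ∈ A', a * x = x * a) (hy : y ∈ KK e T' C.P'.z2) (hyA : ∀ a ∈ A', a * y = y * a) :
    x * y = y * x := by
  haveI := two_fact
  have P' := C.P'
  have E' := P'.ext
  have hee := P'.zz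
  by_contra hxy
  set K₀ := KK e T' C.P'.z2 ⊓ centralizer (A' : Set G) with hK₀
  have hKT : KK e T' C.P'.z2 ≤ T' := fun x hx => hx.1
  have hK₀T : K₀ ≤ T' := inf_le_left.trans hKT
  have hK₀A : ∀ x ∈ K₀, ∀ a ∈ A', a * x = x * a := fun x hx a ha =>
    (mem_cent.1 (Subgroup.mem_inf.1 hx).2 a ha).symm
  have hxK : x ∈ K₀ := Subgroup.mem_inf.2 ⟨hx, mem_cent.2 fun a ha => (hxA a ha).symm⟩
  have hyK : y ∈ K₀ := Subgroup.mem_inf.2 ⟨hy, mem_cent.2 fun a ha => (hyA a ha).symm⟩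
  have hc : ∀ x ∈ K₀, ∀ y ∈ K₀, x * y = y * x ∨ x * y = e * (y * x) := fun x hx y hy =>
    ((Subgroup.mem_inf.1 hx).1.2 y (hK₀T hy)).2
  have hxy' := (hc x hxK y hyK).resolve_left hxy
  obtain ⟨x, hx, y, hy, hx2, hy2, hxy⟩ := quat_in P'.z1 P'.z2 (P'.o2.isP.to_le hK₀T)
    (fun t ht ht2 => P'.uniq ht2 (P'.o2.cz t (hK₀T ht)) (hK₀A t ht)) hc
    (fun x hx => P'.o2.cz x (hK₀T hx)) _ rfl hxK hyK hxy'
  obtain ⟨B', hB', -⟩ := P'.exists_big le_rfl P'.A_ne_bot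
  obtain ⟨i, j, iQ, iB, jQ, jB, i2, j2, hij⟩ := P'.exists_quat hB'
  have hcx : ∀ q ∈ ⁅T', A'⁆, q * x = x * q := P'.cent_Q (hK₀T hx) (hK₀A x hx)
  have hcy : ∀ q ∈ ⁅T', A'⁆, q * y = y * q := P'.cent_Q (hK₀T hy) (hK₀A y hy)
  have hix := hcx i iQ
  have hjx := hcx j jQ
  have hiy := hcy i iQ
  have hjy := hcy j jQ
  have hX2 : (i * x) ^ 2 = 1 := by rw [(show Commute i x from hix).mul_pow, i2, hx2, hee]
  have hY2 : (j * y) ^ 2 = 1 := by rw [(show Commute j y from hjy).mul_pow, j2, hy2, hee]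
  have heX : e * (i * x) = (i * x) * e :=
    ((show Commute e i from (P'.cz1 iQ).symm).mul_right
      (show Commute e x from (P'.o2.cz x (hK₀T hx)).symm)).eq
  have heY : e * (j * y) = (j * y) * e :=
    ((show Commute e j from (P'.cz1 jQ).symm).mul_right
      (show Commute e y from (P'.o2.cz y (hK₀T hy)).symm)).eq
  have hXY : (i * x) * (j * y) = (j * y) * (i * x) := by
    have e1 : (j * i) * e = e * (j * i) := P'.cz1 (mul_mem jQ iQ)
    calc (i * x) * (j * y) = i * (x * j) * y := by group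
      _ = (i * j) * (x * y) := by rw [← hjx]; group
      _ = e * ((j * i) * e) * (y * x) := by rw [hij, hxy]; group
      _ = (e * e) * (j * (i * y) * x) := by rw [e1]; group
      _ = (j * y) * (i * x) := by rw [hee, hiy]; group
  -- elements of Q centralizing A' have square 1
  have hno : ∀ q ∈ ⁅T', A'⁆, q ^ 2 = e → ¬ (∀ a ∈ A', a * q = q * a) := by
    intro q hq hq2 hqA
    rcases E'.cenA q hq hqA with h | h
    · rw [h, one_pow] at hq2; exact P'.z1 hq2.symm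
    · rw [h, P'.z2] at hq2; exact P'.z1 hq2.symm
  have heA : ∀ a ∈ A', a * e = e * a := P'.comm
  have hcomA : ∀ g h : G, (∀ a ∈ A', a * g = g * a) → (∀ a ∈ A', a * h = h * a) →
      ∀ a ∈ A', a * (g * h) = (g * h) * a := fun g h hg hh a ha =>
    ((show Commute a g from hg a ha).mul_right (show Commute a h from hh a ha)).eq
  have hinvA : ∀ g : G, (∀ a ∈ A', a * g = g * a) → ∀ a ∈ A', a * g⁻¹ = g⁻¹ * a := fun g hg a ha =>
    (show Commute a g from hg a ha).inv_right.eq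
  have hxA := hK₀A x hx
  have hyA := hK₀A y hy
  have hX1 : i * x ≠ 1 := by
    intro h
    apply hno i iQ i2
    rw [eq_inv_of_mul_eq_one_left h]
    exact hinvA x hxA
  have hXe : i * x ≠ e := by
    intro h
    apply hno i iQ i2
    have : i = e * x⁻¹ := by rw [← h]; group
    rw [this]
    exact hcomA _ _ heA (hinvA x hxA)
  have hY1 : j * y ≠ 1 := by
    intro h
    apply hno j jQ j2
    rw [eq_inv_of_mul_eq_one_left h]
    exact hinvA y hyA
  have hYe : j * y ≠ e := by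
    intro h
    apply hno j jQ j2
    have : j = e * y⁻¹ := by rw [← h]; group
    rw [this]
    exact hcomA _ _ heA (hinvA y hyA)
  have hij' : ¬ (i⁻¹ * j = 1 ∨ i⁻¹ * j = e) := by
    intro h
    have h1 : i * j = j * i := by
      rcases h with h | h
      · rw [inv_mul_eq_one] at h; rw [h]
      · have h2 : j = i * e := by rw [← h]; group
        rw [h2]
        calc i * (i * e) = i * (e * i) := by rw [P'.cz1 iQ]
          _ = i * e * i := by group
    rw [hij] at h1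
    apply P'.z1
    calc e = e * (j * i) * (j * i)⁻¹ := by group
      _ = 1 := by rw [h1, mul_inv_cancel]
  have hYX : j * y ≠ i * x := by
    intro h
    apply hij'
    have h1 : i⁻¹ * j = x * y⁻¹ := by
      calc i⁻¹ * j = i⁻¹ * (j * y) * y⁻¹ := by group
        _ = x * y⁻¹ := by rw [h]; group
    apply E'.cenA _ (mul_mem (inv_mem iQ) jQ)
    rw [h1]
    exact hcomA _ _ hxA (hinvA y hyA)
  have hYeX : j * y ≠ e * (i * x) := by
    intro h
    apply hij'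
    have h1 : i⁻¹ * j = e * (x * y⁻¹) := by
      have h0 : i⁻¹ * e = e * i⁻¹ := (show Commute i e from P'.cz1 iQ).inv_left.eq
      calc i⁻¹ * j = i⁻¹ * (j * y) * y⁻¹ := by group
        _ = (i⁻¹ * e) * i * x * y⁻¹ := by rw [h]; group
        _ = e * (x * y⁻¹) := by rw [h0]; group
    apply E'.cenA _ (mul_mem (inv_mem iQ) jQ)
    rw [h1]
    exact hcomA _ _ heA (hcomA _ _ hxA (hinvA y hyA))
  obtain ⟨F, hF, hF8, -, -, -, hFm⟩ := exists_elem8 P'.z2 hX2 hY2 heX heY hXY P'.z1 hX1 hXe hY1 hYe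
    hYX hYeX
  refine no_rank3 P'.h P'.card hB'.hp (P'.elemB hB'.hp.le) hF ?_ hF8.ge
  intro b hb f hf
  have hbA := hB'.hp.le hb
  have h1 : F ≤ centralizer ({b} : Set G) :=
    hFm _ (mem_cent1.2 (heA b hbA).symm)
      (mem_cent1.2 ((show Commute i b from mem_cent.1 iB b hb).mul_left
        (show Commute x b from (hxA b hbA).symm)).eq)
      (mem_cent1.2 ((show Commute j b from mem_cent.1 jB b hb).mul_left
        (show Commute y b from (hyA b hbA).symm)).eq)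
  exact (mem_cent1.1 (h1 hf)).symm

theorem Ctx.mem_ZK (C : Ctx p n A z T A' e T' H U r r') {c : G} (hc : c ∈ KK e T' C.P'.z2)
    (hcA : ∀ a ∈ A', a * c = c * a) : c ∈ ZK e T' C.P'.z2 := by
  refine Subgroup.mem_inf.2 ⟨hc, mem_cent.2 ?_⟩
  intro k hk
  obtain ⟨q, hq, d, hd, hdA, rfl⟩ := C.decK hk
  have h1 : c * q = q * c := (C.P'.cent_Q hc.1 hcA q hq).symm
  have h2 := C.abelK hc hcA hd hdA
  rw [← mul_assoc, h1, mul_assoc, h2, mul_assoc]

theorem Ctx.ZK_comm (C : Ctx p n A z T A' e T' H U r r') {c k : G} (hc : c ∈ ZK e T' C.P'.z2)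
    (hk : k ∈ KK e T' C.P'.z2) : c * k = k * c := mem_cent.1 (Subgroup.mem_inf.1 hc).2 k hk

/-- an element of `Q ∩ Z(K)` is `1` or `e` -/
theorem Ctx.QZ (C : Ctx p n A z T A' e T' H U r r') {q : G} (hq : q ∈ ⁅T', A'⁆)
    (hc : q ∈ ZK e T' C.P'.z2) : q = 1 ∨ q = e :=
  C.P'.ext.cen q hq fun y hy => C.ZK_comm hc (C.QK hy)

theorem Ctx.e_mem_ZK (C : Ctx p n A z T A' e T' H U r r') : e ∈ ZK e T' C.P'.z2 :=
  C.mem_ZK (C.QK C.P'.ext.zQ) C.P'.comm

/-- an element of `K` centralizing `Q` is in `Z(K)` -/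
theorem Ctx.mem_ZK' (C : Ctx p n A z T A' e T' H U r r') {c : G} (hc : c ∈ KK e T' C.P'.z2)
    (hcQ : ∀ x ∈ ⁅T', A'⁆, c * x = x * c) : c ∈ ZK e T' C.P'.z2 :=
  C.mem_ZK hc (C.P'.f3 hc.1 hcQ)

/-- claim D. -/
theorem Ctx.claimD (C : Ctx p n A z T A' e T' H U r r') {x s : G} (hx : x ∈ ⁅T', A'⁆) (hs : s ∈ T)
    (hse : s * e = e * s) : ∃ d ∈ ⁅T', A'⁆, ∃ t ∈ ZK e T' C.P'.z2, d * z = z * d ∧
      x⁻¹ * (s * x * s⁻¹) = d * t := by
  have P' := C.P'
  have E' := P'.ext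
  have hee := P'.zz
  have hez := C.ez
  set u := x⁻¹ * (s * x * s⁻¹) with hu
  have hxK := C.QK hx
  have huK : u ∈ KK e T' C.P'.z2 := mul_mem (inv_mem hxK) (KK_norm C hse hxK)
  -- u commutes with C_Q(z)
  have hucom : ∀ c ∈ ⁅T', A'⁆, c * z = z * c → u * c = c * u := by
    intro c hc hcz
    have h1 : s ∈ CZ e c P'.z2 := C.six_a hs hse (P'.le hc) hcz
    have h2 : x ∈ CZ e c P'.z2 := hxK.2 c (P'.le hc)
    exact CZ_comm h2 h1
  set uz := z * u * z⁻¹ with huz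
  have huzK : uz ∈ KK e T' C.P'.z2 := KK_norm C hez.symm huK
  set v := u⁻¹ * uz with hv
  have hvK : v ∈ KK e T' C.P'.z2 := mul_mem (inv_mem huK) huzK
  have hvQ : ∀ q ∈ ⁅T', A'⁆, v * q = q * v := by
    intro q hq
    obtain ⟨hyQ, hyz⟩ := C.six_c hq
    set y := q⁻¹ * (z * q * z⁻¹) with hy
    have hzq : z * q * z⁻¹ = q * y := by rw [hy]; group
    have huy := hucom y hyQ hyz
    have hzy : z * y * z⁻¹ = y := conj_eq_iff.2 hyz.symm
    have huzy : uz * y = y * uz := by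
      calc uz * y = (z * u * z⁻¹) * (z * y * z⁻¹) := by rw [huz, hzy]
        _ = z * (u * y) * z⁻¹ := by group
        _ = (z * y * z⁻¹) * (z * u * z⁻¹) := by rw [huy]; group
        _ = y * uz := by rw [hzy, huz]
    -- signs
    have hzez : z * e * z⁻¹ = e := conj_eq_iff.2 hez.symm
    have hqT := P'.le hq
    rcases (huK.2 q hqT).2 with h | h
    · -- u q = q u
      have h1 : uz * (q * y) = (q * y) * uz := by
        calc uz * (q * y) = (z * u * z⁻¹) * (z * q * z⁻¹) := by rw [hzq, huz]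
          _ = z * (u * q) * z⁻¹ := by group
          _ = (z * q * z⁻¹) * (z * u * z⁻¹) := by rw [h]; group
          _ = (q * y) * uz := by rw [hzq, huz]
      have h2 : uz * q = q * uz := by
        calc uz * q = (uz * (q * y)) * y⁻¹ := by group
          _ = q * (y * uz) * y⁻¹ := by rw [h1]; group
          _ = q * uz := by rw [← huzy]; group
      have h3 : Commute u q := h
      rw [hv, mul_assoc, h2, ← mul_assoc, h3.inv_left.eq, mul_assoc]
    · have h1 : uz * (q * y) = e * ((q * y) * uz) := by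
        calc uz * (q * y) = (z * u * z⁻¹) * (z * q * z⁻¹) := by rw [hzq, huz]
          _ = z * (u * q) * z⁻¹ := by group
          _ = (z * e * z⁻¹) * ((z * q * z⁻¹) * (z * u * z⁻¹)) := by rw [h]; group
          _ = e * ((q * y) * uz) := by rw [hzq, huz, hzez]
      have h2 : uz * q = e * (q * uz) := by
        calc uz * q = (uz * (q * y)) * y⁻¹ := by group
          _ = e * (q * (y * uz) * y⁻¹) := by rw [h1]; group
          _ = e * (q * uz) := by rw [← huzy]; group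
      have hue : u⁻¹ * e = e * u⁻¹ := (P'.o2.cz u⁻¹ (inv_mem huK.1))
      have h3 : u⁻¹ * q = e * (q * u⁻¹) := by
        calc u⁻¹ * q = u⁻¹ * ((e * e) * (q * u)) * u⁻¹ := by rw [hee]; group
          _ = (u⁻¹ * e) * (e * (q * u)) * u⁻¹ := by group
          _ = (e * u⁻¹) * (u * q) * u⁻¹ := by rw [hue, ← h]
          _ = e * (q * u⁻¹) := by group
      calc v * q = u⁻¹ * (uz * q) := by rw [hv]; group
        _ = (u⁻¹ * e) * q * uz := by rw [h2]; group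
        _ = e * (u⁻¹ * q) * uz := by rw [hue]; group
        _ = (e * e) * q * (u⁻¹ * uz) := by rw [h3]; group
        _ = q * v := by rw [hee, hv, one_mul]
  have hvZ := C.mem_ZK' hvK hvQ
  obtain ⟨d, hd, t, ht, htA, hudt⟩ := C.decK huK
  have htZ := C.mem_ZK ht htA
  refine ⟨d, hd, t, htZ, ?_, hudt⟩
  apply C.six_b hd
  -- d⁻¹ d^z ∈ Z(K)
  have hdz := C.zQ hd
  have htz := ZK_norm C hez.symm htZ
  have h1 : v = (d⁻¹ * (z * d * z⁻¹)) * (t⁻¹ * (z * t * z⁻¹)) := by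
    have e1 : t⁻¹ * (d⁻¹ * (z * d * z⁻¹)) = (d⁻¹ * (z * d * z⁻¹)) * t⁻¹ :=
      C.ZK_comm (inv_mem htZ) (C.QK (mul_mem (inv_mem hd) hdz))
    calc v = (d * t)⁻¹ * (z * (d * t) * z⁻¹) := by rw [hv, huz, hudt]
      _ = (t⁻¹ * (d⁻¹ * (z * d * z⁻¹))) * (z * t * z⁻¹) := by group
      _ = (d⁻¹ * (z * d * z⁻¹)) * (t⁻¹ * (z * t * z⁻¹)) := by rw [e1]; group
  have h2 : d⁻¹ * (z * d * z⁻¹) ∈ ZK e T' C.P'.z2 := by
    have : d⁻¹ * (z * d * z⁻¹) = v * (t⁻¹ * (z * t * z⁻¹))⁻¹ := by rw [h1]; group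
    rw [this]
    exact mul_mem hvZ (inv_mem (mul_mem (inv_mem htZ) htz))
  rcases C.QZ (mul_mem (inv_mem hd) hdz) h2 with h | h
  · left
    rw [inv_mul_eq_one] at h
    exact (conj_eq_iff.1 h.symm).symm
  · right
    have h3 : z * d * z⁻¹ = d * e := by rw [← h]; group
    have hde : d * e = e * d := P'.cz1 hd
    have h4 : z * d = e * (d * z) := by
      calc z * d = (z * d * z⁻¹) * z := by group
        _ = e * (d * z) := by rw [h3, hde]; group
    rw [h4, ← mul_assoc, hee, one_mul]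

theorem Ctx.claimD2 (C : Ctx p n A z T A' e T' H U r r') {x s s' : G} (hx : x ∈ ⁅T', A'⁆) (hs : s ∈ T)
    (hse : s * e = e * s) (hs' : s' ∈ T) (hse' : s' * e = e * s') :
    (x⁻¹ * (s * x * s⁻¹))⁻¹ * (s' * (x⁻¹ * (s * x * s⁻¹)) * s'⁻¹) ∈ ZK e T' C.P'.z2 := by
  obtain ⟨d, hd, t, ht, hdz, hu⟩ := C.claimD hx hs hse
  rw [hu]
  have htz := ZK_norm C hse' ht
  have hdK := C.QK hd
  have hsd : s' * d * s'⁻¹ ∈ KK e T' C.P'.z2 := KK_norm C hse' hdK
  have e1 : t⁻¹ * (d⁻¹ * (s' * d * s'⁻¹)) = (d⁻¹ * (s' * d * s'⁻¹)) * t⁻¹ :=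
    C.ZK_comm (inv_mem ht) (mul_mem (inv_mem hdK) hsd)
  have e2 : (d * t)⁻¹ * (s' * (d * t) * s'⁻¹) = (d⁻¹ * (s' * d * s'⁻¹)) * (t⁻¹ * (s' * t * s'⁻¹)) := by
    calc (d * t)⁻¹ * (s' * (d * t) * s'⁻¹) = (t⁻¹ * (d⁻¹ * (s' * d * s'⁻¹))) * (s' * t * s'⁻¹) := by group
      _ = _ := by rw [e1]; group
  rw [e2]
  refine mul_mem ?_ (mul_mem (inv_mem ht) htz)
  have h1 := CZ_conj (C.six_a hs' hse' (C.P'.le hd) hdz)
  rcases h1 with h | h
  · rw [h, inv_mul_cancel]; exact one_mem _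
  · rw [h]
    have : d⁻¹ * (e * d) = e := by rw [← C.P'.cz1 hd]; group
    rw [this]; exact C.e_mem_ZK

theorem Ctx.final (C : Ctx p n A z T A' e T' H U r r') : False := by
  haveI := two_fact
  have P := C.P
  have P' := C.P'
  have E' := P'.ext
  have hee := P'.zz
  have hez := C.ez
  have hrz : r * z = z * r := P.o2.cz r C.rT
  have hr'z : r' * z = z * r' := P.o2.cz r' C.r'T
  -- z centralizes Q
  have hzQ : ∀ x ∈ ⁅T', A'⁆, x * z = z * x := by
    intro x hx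
    apply C.six_b hx
    set u := x⁻¹ * (r * x * r⁻¹) with hu
    set u' := x⁻¹ * (r' * x * r'⁻¹) with hu'
    have hxK := C.QK hx
    have huK : u ∈ KK e T' C.P'.z2 := mul_mem (inv_mem hxK) (KK_norm C C.re hxK)
    have hu'K : u' ∈ KK e T' C.P'.z2 := mul_mem (inv_mem hxK) (KK_norm C C.r'e hxK)
    have h1 : u⁻¹ * (r' * u * r'⁻¹) ∈ ZK e T' C.P'.z2 := C.claimD2 hx C.rT C.re C.r'T C.r'e
    have h2 : u'⁻¹ * (r * u' * r⁻¹) ∈ ZK e T' C.P'.z2 := C.claimD2 hx C.r'T C.r'e C.rT C.re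
    -- (r r') x (r r')⁻¹ = x u u' t₁ ; (r' r) x (r' r)⁻¹ = x u' u t₂
    have e1 : (r * r') * x * (r * r')⁻¹ = (x * u * u') * (u'⁻¹ * (r * u' * r⁻¹)) := by
      rw [hu, hu']; group
    have e2 : (r' * r) * x * (r' * r)⁻¹ = (x * u' * u) * (u⁻¹ * (r' * u * r'⁻¹)) := by
      rw [hu, hu']; group
    have huu' : u⁻¹ * u'⁻¹ * u * u' ∈ ZK e T' C.P'.z2 := by
      rcases (huK.2 u' hu'K.1).2 with h | h
      · have : u⁻¹ * u'⁻¹ * u * u' = 1 := by
          calc u⁻¹ * u'⁻¹ * u * u' = u⁻¹ * u'⁻¹ * (u * u') := by group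
            _ = 1 := by rw [h]; group
        rw [this]; exact one_mem _
      · have : u⁻¹ * u'⁻¹ * u * u' = e := by
          have hce : (u⁻¹ * u'⁻¹) * e = e * (u⁻¹ * u'⁻¹) := P'.o2.cz _ (mul_mem (inv_mem huK.1) (inv_mem hu'K.1))
          calc u⁻¹ * u'⁻¹ * u * u' = u⁻¹ * u'⁻¹ * (u * u') := by group
            _ = ((u⁻¹ * u'⁻¹) * e) * (u' * u) := by rw [h]; group
            _ = e := by rw [hce]; group
        rw [this]; exact C.e_mem_ZK
    -- hence ((r' r) x (r' r)⁻¹)⁻¹ * ((r r') x (r r')⁻¹) ∈ Z(K)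
    have h3 : ((r' * r) * x * (r' * r)⁻¹)⁻¹ * ((r * r') * x * (r * r')⁻¹) ∈ ZK e T' C.P'.z2 := by
      rw [e1, e2]
      have : ((x * u' * u) * (u⁻¹ * (r' * u * r'⁻¹)))⁻¹ * ((x * u * u') * (u'⁻¹ * (r * u' * r⁻¹))) =
          (u⁻¹ * (r' * u * r'⁻¹))⁻¹ * (u⁻¹ * u'⁻¹ * u * u') * (u'⁻¹ * (r * u' * r⁻¹)) := by group
      rw [this]
      exact mul_mem (mul_mem (inv_mem h1) huu') h2
    set g := r' * r with hg
    have hgz : g * z = z * g := by
      rw [hg]; exact ((show Commute r' z from hr'z).mul_left (show Commute r z from hrz)).eq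
    have hge : g * e = e * g := by
      rw [hg]; exact ((show Commute r' e from C.r'e).mul_left (show Commute r e from C.re)).eq
    have h4 : ((r * r') * x * (r * r')⁻¹) = g * (z * x * z⁻¹) * g⁻¹ := by
      rw [C.rr', ← hgz]; group
    rw [h4] at h3
    have h5 : (g * x * g⁻¹)⁻¹ * (g * (z * x * z⁻¹) * g⁻¹) = g * (x⁻¹ * (z * x * z⁻¹)) * g⁻¹ := by group
    rw [h5] at h3
    have hgie : g⁻¹ * e = e * g⁻¹ := (show Commute g e from hge).inv_left.eq
    have h6 := ZK_norm C hgie h3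
    have h7 : g⁻¹ * (g * (x⁻¹ * (z * x * z⁻¹)) * g⁻¹) * g⁻¹⁻¹ = x⁻¹ * (z * x * z⁻¹) := by group
    rw [h7] at h6
    rcases C.QZ (mul_mem (inv_mem hx) (C.zQ hx)) h6 with h | h
    · left
      rw [inv_mul_eq_one] at h
      exact (conj_eq_iff.1 h.symm).symm
    · right
      have h8 : z * x * z⁻¹ = x * e := by rw [← h]; group
      have hde : x * e = e * x := P'.cz1 hx
      have h9 : z * x = e * (x * z) := by
        calc z * x = (z * x * z⁻¹) * z := by group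
          _ = e * (x * z) := by rw [h8, hde]; group
      rw [h9, ← mul_assoc, hee, one_mul]
  -- U centralizes Q
  have hUQ : ∀ u ∈ U, ∀ q ∈ ⁅T', A'⁆, u * q = q * u := by
    intro u hu q hq
    have huA := C.UA' hu
    have h1 : u * q * u⁻¹ ∈ ⁅T', A'⁆ := norm_mem P'.norm1 huA hq
    have h2 := hzQ _ h1
    have hqz := hzQ q hq
    have hzu : z * u * z⁻¹ = u⁻¹ := C.Uz u hu
    have h3 : u * q * u⁻¹ = u⁻¹ * q * u := by
      have h4 : z * (u * q * u⁻¹) * z⁻¹ = u * q * u⁻¹ := conj_eq_iff.2 h2.symm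
      calc u * q * u⁻¹ = z * (u * q * u⁻¹) * z⁻¹ := h4.symm
        _ = (z * u * z⁻¹) * (z * q * z⁻¹) * (z * u * z⁻¹)⁻¹ := by group
        _ = u⁻¹ * q * u := by rw [hzu, conj_eq_iff.2 hqz.symm]; group
    have h5 : Commute (u ^ 2) q := by
      show u ^ 2 * q = q * u ^ 2
      calc u ^ 2 * q = u * (u * q * u⁻¹) * u := by rw [pow_two]; group
        _ = q * u ^ 2 := by rw [h3, pow_two]; group
    have hup : u ^ p = 1 := (H30.isElementaryAbelian_iff.1 P'.elem).2 u huA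
    have hodd : p % 2 = 1 := by
      rcases hpf.out.eq_two_or_odd with h3 | h3
      · exact absurd h3 P.h.hp2
      · exact h3
    have h6 : u = (u ^ 2) ^ ((p + 1) / 2) := by
      rw [← pow_mul, Nat.mul_div_cancel' (by omega), pow_succ, hup, one_mul]
    rw [h6]
    exact (h5.pow_left _).eq
  have hUT : U ≤ normalizer (T' : Set G) := C.UA'.trans P'.normT
  have h1 : ⁅T', U⁆ ≤ centralizer (U : Set G) := by
    intro q hq
    have hq' : q ∈ ⁅T', A'⁆ := (commutator_mono le_rfl C.UA') hq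
    exact mem_cent.2 fun u hu => (hUQ u hu q hq').symm
  have h3 := Cop.commutator_commutator_eq hUT (P'.copB C.UA' P'.o2.isP)
    (Or.inl (solv_p (P'.isPA.to_le C.UA')))
  rw [(commutator_eq_bot_iff_le_centralizer).2 h1] at h3
  have h4 : T' ≤ centralizer (U : Set G) := (commutator_eq_bot_iff_le_centralizer).1 h3.symm
  apply C.U1
  rw [eq_bot_iff]
  intro u hu
  rw [Subgroup.mem_bot]
  exact P'.faith (C.UA' hu) (fun x hx => (mem_cent.1 (h4 hx) u hu).symm)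

theorem Hyp.false (h : Hyp G p n) {A T₀ : Subgroup G} (hA : Cfsg.IsElementaryAbelian p A)
    (hAc : Nat.card A = p ^ n) (hT₀ : IsPGroup 2 T₀) (hT₀1 : T₀ ≠ ⊥)
    (hAT₀ : A ≤ normalizer (T₀ : Set G)) : False := by
  obtain ⟨z, hz1, hz2, hzA⟩ := exists_invol h hA hAc hT₀ hT₀1 hAT₀
  obtain ⟨T, hT⟩ := exists_O2C h hz1 hz2
  have P : Pr p n A z T := ⟨h, hA, hAc, hz1, hz2, hzA, hT⟩
  obtain ⟨A', e, T', H, U, r, r', C⟩ := P.exists_ctx
  exact C.final

end Cfsg.Agent.H64.KM
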